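import Cfsg.Agent.Lib.Fischer.Relations.TwentyFour.Cent

/-!
# The order of a group of type M(24)

The centralizer of two non-commuting members has order divisible by that of PΩ⁺(8, 3) extended by the symmetric
group of degree three, and a star of 3511 neighbours forces at least 275137 members outside a neighbourhood;
together these leave exactly 275264.
-/

set_option autoImplicit false
set_option linter.unusedSectionVars false

namespace Cfsg.Lib.Fischer.Relations

open Cfsg Cfsg.Lib.Fischer Cfsg.Lib.Linear.Herm Cfsg.Lib.Linear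

variable {G : Type*} [Group G] [Finite G] {D : Set G} {d : G}

namespace M24Data

variable (K : M24Data D d)
include K

/-- A subset of the neighbourhood as a subset of its image. -/
theorem card_bar (p : G → Prop) (q : ↥(Subgroup.closure (perp D d)) ⧸
      Subgroup.center ↥(Subgroup.closure (perp D d)) → Prop)
    (h : ∀ u (hu : u ∈ perp D d), p u ↔ q (bar hu)) :
    Nat.card {u | u ∈ perp D d ∧ p u} = Nat.card {y | y ∈ image (perp D d) ∧ q y} := by
  refine Nat.card_eq_of_bijective (fun u => ⟨bar u.2.1, bar_mem _, (h _ u.2.1).1 u.2.2⟩) ⟨fun u v e => ?_, fun y => ?_⟩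
  · exact Subtype.ext (bar_inj K.trans (fun _ hu => hu.1) K.nc u.2.1 v.2.1 (congrArg Subtype.val e))
  · obtain ⟨u, hu, e⟩ := exists_bar y.2.1
    exact ⟨⟨u, hu, (h u hu).2 (by rw [e]; exact y.2.2)⟩, Subtype.ext e⟩

theorem bar_comm {s t : G} (hs : s ∈ perp D d) (ht : t ∈ perp D d) :
    Commute s t ↔ Commute (bar hs) (bar ht) :=
  (bar_commute K.trans (fun _ h => h.1) hs ht).symm

theorem bar_ne {s t : G} (hs : s ∈ perp D d) (ht : t ∈ perp D d) (h : t ≠ s) : bar ht ≠ bar hs := fun e =>
  h (bar_inj K.trans (fun _ hu => hu.1) K.nc ht hs e)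


theorem img_params : Params (image (perp D d)) 3510 694 := by
  obtain ⟨F, _, _, hF, e, f, ⟨C⟩⟩ := K.exists_coord
  exact C.params

theorem img_order : (image (perp D d)).ncard = 31671 ∧
    Nat.card (↥(Subgroup.closure (perp D d)) ⧸ Subgroup.center ↥(Subgroup.closure (perp D d))) =
      2 ^ 18 * 3 ^ 13 * 5 ^ 2 * 7 * 11 * 13 * 17 * 23 ∧ Cfsg.commutingWidth (image (perp D d)) = 23 := by
  obtain ⟨-, h1, h2, h3, -⟩ := m23_order K.imgTrans K.imgPrim K.img
  exact ⟨h1, h2, h3⟩

theorem params : Params D 31671 3511 := by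
  refine params_of_one K.fis K.mem ?_ fun t ht => ?_
  · have h := K.card_bar (fun _ => True) (fun _ => True) (fun _ _ => Iff.rfl)
    simp only [and_true, Set.setOf_mem_eq] at h
    rw [h, Nat.card_coe_set_eq, K.img_order.1]
  · rw [K.card_bar (fun u => Commute t u) (fun y => Commute (bar ht) y) fun u hu => K.bar_comm ht hu]
    have hset : {y | y ∈ image (perp D d) ∧ Commute (bar ht) y} =
        insert (bar ht) (perp (image (perp D d)) (bar ht)) := by
      ext y
      simp only [Set.mem_setOf_eq, Set.mem_insert_iff, mem_perp]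
      refine ⟨fun h => (em (y = bar ht)).imp id fun e => ⟨h.1, e, h.2⟩, ?_⟩
      rintro (rfl | h)
      exacts [⟨bar_mem ht, Commute.refl _⟩, ⟨h.1, h.2.2⟩]
    rw [hset, Nat.card_coe_set_eq, Set.ncard_insert_of_notMem (fun h => h.2.1 rfl), ← Nat.card_coe_set_eq,
      K.img_params.val _ (bar_mem ht)]

/-- Neighbours commuting with two commuting neighbours. -/
theorem card_two {s t : G} (hs : s ∈ perp D d) (ht : t ∈ perp D d) (hne : t ≠ s) (hst : Commute s t) :
    Nat.card {u | u ∈ perp D d ∧ (Commute s u ∧ Commute t u)} = 695 := by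
  rw [K.card_bar (fun u => Commute s u ∧ Commute t u) (fun y => Commute (bar hs) y ∧ Commute (bar ht) y)
    fun u hu => and_congr (K.bar_comm hs hu) (K.bar_comm ht hu), Nat.card_coe_set_eq,
    card_both_commute K.img_params (bar_mem hs) ⟨bar_mem ht, K.bar_ne hs ht hne, (K.bar_comm hs ht).1 hst⟩]

/-- Neighbours commuting with two non-commuting neighbours. -/
theorem card_two' {s t : G} (hs : s ∈ perp D d) (ht : t ∈ perp D d) (hst : ¬ Commute s t) :
    Nat.card {u | u ∈ perp D d ∧ (Commute s u ∧ Commute t u)} = 351 := by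
  have hst' : ¬ Commute (bar hs) (bar ht) := fun h => hst ((K.bar_comm hs ht).2 h)
  rw [K.card_bar (fun u => Commute s u ∧ Commute t u) (fun y => Commute (bar hs) y ∧ Commute (bar ht) y)
    fun u hu => and_congr (K.bar_comm hs hu) (K.bar_comm ht hu), card_both_noncommute hst']
  have h := far_mul_common K.imgFis K.img_params (bar_mem hs) (bar_mem ht) hst'
  have hfar := card_class (bar_mem hs) K.img_params
  rw [K.img_order.1] at hfar
  rw [show Nat.card (far (image (perp D d)) (bar hs)) = 28160 by omega] at h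
  omega

theorem card_closure : Nat.card ↥(Subgroup.closure (perp D d)) = 2 * (2 ^ 18 * 3 ^ 13 * 5 ^ 2 * 7 * 11 * 13 * 17 * 23) := by
  haveI : Fact (Nat.Prime 2) := ⟨Nat.prime_two⟩
  have hz : Nat.card ↥(Subgroup.center ↥(Subgroup.closure (perp D d))) = 2 := by
    rw [← K.fis.set.1 d K.mem, ← Nat.card_zpowers, K.center_eq]
    exact Nat.card_congr (Subgroup.subgroupOfEquivOfLe (Subgroup.zpowers_le.2 K.self_mem)).toEquiv
  rw [Subgroup.card_eq_card_quotient_mul_card_subgroup (Subgroup.center ↥(Subgroup.closure (perp D d))), hz,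
    K.img_order.2.1]
  norm_num

/-- At least 275137 members lie outside the neighbourhood. -/
theorem far_lower : 275137 ≤ Nat.card (far D d) := by
  classical
  have hP := K.params
  obtain ⟨a, ha, -⟩ := exists_bar K.imgTrans.ne.choose_spec
  obtain ⟨S₀, hS₀⟩ : ∃ S₀ : Set G, S₀ = {u | u ∈ perp D d ∧ Commute a u} := ⟨_, rfl⟩
  obtain ⟨S, hS⟩ : ∃ S : Finset G, S = S₀.toFinite.toFinset := ⟨_, rfl⟩
  obtain ⟨Ff, hFf⟩ : ∃ Ff : Finset G, Ff = (far D d).toFinite.toFinset := ⟨_, rfl⟩
  have hmemS : ∀ u, u ∈ S ↔ u ∈ perp D d ∧ Commute a u := fun u => by simp [hS, hS₀]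
  have hFmem : ∀ u, u ∈ Ff ↔ u ∈ far D d := fun u => by simp [hFf]
  obtain ⟨c, hc, hdc⟩ := exists_not_commute K.fis K.mem
  have hμ := far_mul_common K.fis hP K.mem hc hdc
  have hsplit : ∀ s t : G, s ∈ perp D d → t ∈ perp D d → {x | x ∈ D ∧ Commute s x ∧ Commute t x}.ncard =
      1 + Nat.card {u | u ∈ perp D d ∧ (Commute s u ∧ Commute t u)} +
        Nat.card {x | x ∈ Ff ∧ Commute s x ∧ Commute t x} := fun s t hs ht => by
    have hset : {x | x ∈ D ∧ Commute s x ∧ Commute t x} ∩ perp D d =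
        {u | u ∈ perp D d ∧ (Commute s u ∧ Commute t u)} := by
      ext x
      exact ⟨fun h => ⟨h.2, h.1.2⟩, fun h => ⟨⟨h.1.1, h.2⟩, h.1⟩⟩
    have hset' : {x | x ∈ D ∧ Commute s x ∧ Commute t x} ∩ far D d =
        {x | x ∈ Ff ∧ Commute s x ∧ Commute t x} := by
      ext x
      simp only [Set.mem_inter_iff, Set.mem_setOf_eq, hFmem]
      exact ⟨fun h => ⟨h.2, h.1.2⟩, fun h => ⟨⟨h.1.1, h.2⟩, h.1⟩⟩
    have h := card_split K.mem {x | x ∈ D ∧ Commute s x ∧ Commute t x} (fun x hx => hx.1)
      ⟨K.mem, hs.2.2.symm, ht.2.2.symm⟩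
    rwa [hset, hset', ← Nat.card_coe_set_eq {u | u ∈ perp D d ∧ _},
      ← Nat.card_coe_set_eq {x | x ∈ Ff ∧ _}] at h
  have key := star_bound S Ff (a₀ := a) ((hmemS a).2 ⟨ha, Commute.refl _⟩)
    (n := 3510) (l := 694) (f := 28160) (g := 2816) (ν := Nat.card (common D d c) - 352)
    (by rw [hS, ← Set.ncard_eq_toFinset_card _, ← Nat.card_coe_set_eq, hS₀, hP.adj d K.mem a ha])
    (fun s hs => by
      have hs' := ((hmemS s).1 hs).1
      have := card_far_nbr hP K.mem hs'
      simp only [hFmem]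
      omega)
    (fun s hs t ht hne hst => by
      have hs' := ((hmemS s).1 hs).1
      have ht' := ((hmemS t).1 ht).1
      have h := hsplit s t hs' ht'
      rw [K.card_two hs' ht' hne hst, card_both_commute hP hs'.1 ⟨ht'.1, hne, hst⟩] at h
      omega)
    (fun s hs t ht _ hst => by
      have hs' := ((hmemS s).1 hs).1
      have ht' := ((hmemS t).1 ht).1
      have h := hsplit s t hs' ht'
      rw [K.card_two' hs' ht' hst, card_both_noncommute hst, ← Nat.card_coe_set_eq,
        common_unique K.fis hP hs'.1 ht'.1 hst K.mem hc hdc] at h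
      omega)
    (fun t ht => ((hmemS t).1 ht).2)
    (fun s hs hne => by
      obtain ⟨hs', hbs⟩ := (hmemS s).1 hs
      have hset : {u | u ∈ perp D d ∧ (Commute a u ∧ Commute s u)} =
          insert s {t | t ∈ S ∧ t ≠ s ∧ Commute s t} := by
        ext u
        simp only [Set.mem_setOf_eq, Set.mem_insert_iff, hmemS]
        refine ⟨fun h => (em (u = s)).imp id fun e => ⟨⟨h.1, h.2.1⟩, e, h.2.2⟩, ?_⟩
        rintro (rfl | h)
        exacts [⟨hs', hbs, Commute.refl _⟩, ⟨h.1.1, h.1.2, h.2.2⟩]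
      have h := K.card_two ha hs' hne hbs
      rw [hset, Nat.card_coe_set_eq, Set.ncard_insert_of_notMem (fun h => h.2.1 rfl), ← Nat.card_coe_set_eq] at h
      omega)
  -- a common neighbour count of at least 352
  obtain ⟨s, hs, hbs⟩ := exists_not_commute K.imgFis (bar_mem ha)
  obtain ⟨t, ht, rfl⟩ := exists_bar hs
  have hbt : ¬ Commute a t := fun h => hbs ((K.bar_comm ha ht).1 h)
  have h352 := hsplit a t ha ht
  rw [K.card_two' ha ht hbt, card_both_noncommute hbt, ← Nat.card_coe_set_eq,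
    common_unique K.fis hP ha.1 ht.1 hbt K.mem hc hdc] at h352
  rw [hFf, ← Set.ncard_eq_toFinset_card _, ← Nat.card_coe_set_eq] at key
  generalize Nat.card (common D d c) = μ at *
  generalize Nat.card (far D d) = N at *
  obtain ⟨ν, rfl⟩ : ∃ ν, μ = ν + 352 := ⟨μ - 352, by omega⟩
  rw [Nat.add_sub_cancel] at key
  have e : N * ((3510 + 1) * 28160 + (3510 + 3510 * 694) * 2816 + 3510 * (3510 - 694) * ν) =
      6968360960 * N + 9884160 * (N * ν) := by
    norm_num
    ring
  rw [e] at key
  rw [Nat.mul_add] at hμ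
  norm_num at key hμ
  omega

/-- The class size, the order and the width. -/
theorem main : D.ncard = 306936 ∧
    Nat.card G = 2 ^ 22 * 3 ^ 16 * 5 ^ 2 * 7 ^ 3 * 11 * 13 * 17 * 23 * 29 ∧ Cfsg.commutingWidth D = 24 := by
  have hT := K.trans
  obtain ⟨c, hc, hdc, hdvd⟩ := K.orth
  have hK := K.card_closure
  rw [K.centralizer_eq] at hK
  have horbit : Nat.card ↥(Subgroup.centralizer ({d} : Set G)) = Nat.card (far D d) *
      Nat.card ↥(Subgroup.centralizer ({d} : Set G) ⊓ Subgroup.centralizer ({c} : Set G)) := by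
    refine card_conj_orbit ⟨hc, fun h => hdc h.symm⟩ (fun k hk y hy => ⟨hT.conj k y hy.1, fun h => hy.2 ?_⟩)
      fun y hy => ?_
    · rw [← Commute.conj_iff k]
      rwa [show k * d * k⁻¹ = d by rw [Subgroup.mem_centralizer_singleton_iff.1 hk, mul_inv_cancel_right]]
    · obtain ⟨g, hg, he⟩ := orb_all K.fis K.mem hc hy.1 hdc (fun h => hy.2 h.symm)
      exact ⟨g, Subgroup.mem_centralizer_singleton_iff.2 (commute_of_mem_closure K.fis K.mem hg).eq, he⟩
  have hdvd' := hdvd.trans (Subgroup.card_dvd_of_le (H := Subgroup.closure (common D d c))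
    (K := Subgroup.centralizer ({d} : Set G) ⊓ Subgroup.centralizer ({c} : Set G)) ((Subgroup.closure_le _).2 (by
      rintro x ⟨⟨-, -, hdx⟩, hcx⟩
      exact ⟨Subgroup.mem_centralizer_singleton_iff.2 hdx.eq.symm,
        Subgroup.mem_centralizer_singleton_iff.2 hcx.eq.symm⟩)))
  have hlow := K.far_lower
  have hN : Nat.card (far D d) = 275264 := by
    obtain ⟨k, hk⟩ := hdvd'
    rw [hK, hk] at horbit
    have hprod : Nat.card (far D d) * k = 275264 := by
      have : 2 ^ 13 * 3 ^ 13 * 5 ^ 2 * 7 * 13 * (Nat.card (far D d) * k) =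
          2 ^ 13 * 3 ^ 13 * 5 ^ 2 * 7 * 13 * 275264 := by
        rw [show 2 ^ 13 * 3 ^ 13 * 5 ^ 2 * 7 * 13 * 275264 =
          2 * (2 ^ 18 * 3 ^ 13 * 5 ^ 2 * 7 * 11 * 13 * 17 * 23) by norm_num]
        rw [horbit]
        ring
      exact Nat.eq_of_mul_eq_mul_left (by norm_num) this
    rcases k with _ | _ | k
    · simp at hprod
    · simpa using hprod
    · exfalso
      have : Nat.card (far D d) * 2 ≤ Nat.card (far D d) * (k + 1 + 1) := Nat.mul_le_mul_left _ (by omega)
      omega
  have hD : D.ncard = 306936 := by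
    rw [card_class K.mem K.params, hN]
  refine ⟨hD, ?_, ?_⟩
  · have h := card_conj_orbit (K := (⊤ : Subgroup G)) K.mem (fun k _ y hy => hT.conj k y hy)
      fun y hy => by obtain ⟨g, hg⟩ := hT.trans d K.mem y hy; exact ⟨g, Subgroup.mem_top g, hg⟩
    rw [top_inf_eq, hK, Subgroup.card_top, Nat.card_coe_set_eq, hD] at h
    rw [h]
    norm_num
  · rw [width_succ K.fis K.mem K.nc, K.img_order.2.2]

end M24Data

end Cfsg.Lib.Fischer.Relations
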