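import Cfsg.Agent.Lib.Fischer.Relations.TwentyFour.PairCentralizer
import Cfsg.Agent.Lib.Core.Layer

/-!
# The derived group at a product of two commuting members

Its intersection with the centralizer of the pair is quasisimple over Fi22 with centre generated by the product,
is the generalized Fitting subgroup of the centralizer of the product there, and that centralizer is the
automorphism group modulo the product.
-/

set_option autoImplicit false
set_option linter.unusedSectionVars false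

namespace Cfsg.Lib.Fischer.Relations

open Cfsg Cfsg.Lib.Fischer Cfsg.Spor
open scoped commutatorElement

universe u

variable {G : Type u} [Group G] [Finite G] {D : Set G}

theorem fi22_center : Subgroup.center Fi22 = ⊥ := by
  have hFi : Cfsg.IsFi22 Fi22 := CosetEnum.Fi22Pres.isFi22
  haveI := hFi.1
  refine (Subgroup.Normal.eq_bot_or_eq_top inferInstance).resolve_right fun h => ?_
  haveI : Finite Fi22 := Nat.finite_of_card_ne_zero (by rw [hFi.2]; decide)
  let : CommGroup Fi22 := Group.commGroupOfCenterEqTop h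
  have := IsSimpleGroup.prime_card (α := Fi22)
  rw [hFi.2] at this
  exact Nat.not_prime_mul (a := 2) (b := 32280875827200) (by decide) (by decide) this

theorem fi22_perfect : commutator Fi22 = ⊤ := by
  have hFi : Cfsg.IsFi22 Fi22 := CosetEnum.Fi22Pres.isFi22
  haveI := hFi.1
  refine (Subgroup.Normal.eq_bot_or_eq_top inferInstance).resolve_left fun h => ?_
  have hc := fi22_center
  have htop : Subgroup.center Fi22 = ⊤ := by
    rw [eq_top_iff]
    intro x _
    rw [Subgroup.mem_center_iff]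
    intro y
    have hxy := Subgroup.commutator_mem_commutator (Subgroup.mem_top y) (Subgroup.mem_top x)
    rw [← commutator_def, h, Subgroup.mem_bot, commutatorElement_eq_one_iff_mul_comm] at hxy
    exact hxy
  rw [hc] at htop
  exact bot_ne_top htop

theorem card_mulAut_fi22 : Nat.card (MulAut Fi22) = 2 * Nat.card Fi22 := by
  have hinj : Function.Injective (MulAut.conj : Fi22 →* MulAut Fi22) := by
    rw [← MonoidHom.ker_eq_bot_iff, eq_bot_iff, ← fi22_center]
    intro g hg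
    rw [Subgroup.mem_center_iff]
    intro x
    have hx : g * x * g⁻¹ = x := congrArg (fun t : MulAut Fi22 => t x) (MonoidHom.mem_ker.1 hg)
    exact (mul_inv_eq_iff_eq_mul.1 hx).symm
  rw [Subgroup.card_eq_card_quotient_mul_card_subgroup (Cfsg.Inn Fi22),
    show Nat.card (MulAut Fi22 ⧸ Cfsg.Inn Fi22) = 2 from CosetEnum.Fi22Out.card_out]
  congr 1
  exact (Nat.card_congr (MonoidHom.ofInjective hinj).toEquiv).symm

theorem pair_map_center {X Y : Type*} [Group X] [Group Y] (e : X ≃* Y) :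
    (Subgroup.center X).map (e : X →* Y) = Subgroup.center Y := by
  refine le_antisymm ?_ fun y hy => ⟨e.symm y, Subgroup.mem_center_iff.2 fun x => e.injective ?_, e.apply_symm_apply y⟩
  · rintro _ ⟨z, hz, rfl⟩
    refine Subgroup.mem_center_iff.2 fun x => ?_
    obtain ⟨x', rfl⟩ := e.surjective x
    simpa using congrArg e (Subgroup.mem_center_iff.1 hz x')
  · simpa using Subgroup.mem_center_iff.1 hy (e x)

namespace M24Data

variable {d : G} (K : M24Data D d)
include K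

/-- Members completing a pair to a triangle are conjugate in its centralizer. -/
theorem pair_transitive_at {a b u v : G} (ha : a ∈ D) (hu : Triad D a b u) (hv : Triad D a b v) :
    ∃ k ∈ Subgroup.centralizer ({a, b} : Set G), k * u * k⁻¹ = v := by
  obtain ⟨g, rfl⟩ := K.trans.trans d K.mem a ha
  have hpull : ∀ {y : G}, y ∈ perp D (g * d * g⁻¹) → g⁻¹ * y * g ∈ perp D d := fun {y} hy =>
    (mem_perp_conj K.trans g d y).1 hy
  have htri : ∀ {w : G}, Triad D (g * d * g⁻¹) b w → Triad D d (g⁻¹ * b * g) (g⁻¹ * w * g) := fun {w} hw =>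
    ⟨hpull hw.dy, hpull hw.dz, by
      have := conj_perp K.fis g⁻¹ b hw.yz
      simpa only [inv_inv] using this⟩
  obtain ⟨k, hkd, hkb, hke⟩ := K.pair_transitive (hpull hu.dy) (htri hu) (htri hv)
  refine ⟨g * k * g⁻¹, ?_, ?_⟩
  · rw [Subgroup.mem_centralizer_iff]
    rintro _ (h | h) <;> rw [h]
    · exact ((Commute.conj_iff g).2 hkd).eq.symm
    · have h := (Commute.conj_iff g).2 hkb
      rw [show g * (g⁻¹ * b * g) * g⁻¹ = b by group] at h
      exact h.eq.symm
  · calc g * k * g⁻¹ * u * (g * k * g⁻¹)⁻¹ = g * (k * (g⁻¹ * u * g) * k⁻¹) * g⁻¹ := by group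
      _ = v := by rw [hke]; group

/-- A triangle on a given pair. -/
theorem exists_triad {a b : G} (ha : a ∈ D) (hb : b ∈ perp D a) : ∃ w, Triad D a b w := by
  obtain ⟨y, z, h, -⟩ := K.exists_six
  obtain ⟨g, ga, gb⟩ := K.exists_move ha hb h.dy
  refine ⟨g⁻¹ * z * g, hb, ?_, ?_⟩
  · have := conj_perp K.fis g⁻¹ d h.dz
    rwa [inv_inv, show g⁻¹ * d * g = a by rw [← ga]; group] at this
  · have := conj_perp K.fis g⁻¹ y h.yz
    rwa [inv_inv, show g⁻¹ * y * g = b by rw [← gb]; group] at this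

/-- An element centralizing a product of two commuting members fixes or exchanges them. -/
theorem pair_cases {a b g : G} (ha : a ∈ D) (hb : b ∈ perp D a) (hg : Commute g (a * b)) :
    (Commute g a ∧ Commute g b) ∨ (g * a * g⁻¹ = b ∧ g * b * g⁻¹ = a) := by
  have hD := K.trans
  have hne : g * a * g⁻¹ ≠ g * b * g⁻¹ := fun e => hb.2.1 (conj_injective (x := g) e).symm
  have hiff := mem_iff_of_prod_eq hD K.noRel (l := [g * a * g⁻¹, g * b * g⁻¹]) (l' := [a, b]) (by simpa using hne)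
    (by simp [hb.2.1.symm]) (by simp [hD.conj g a ha, hD.conj g b hb.1]) (by simp [ha, hb.1])
    (by simp [(Commute.conj_iff g).2 hb.2.2, (Commute.conj_iff g).2 hb.2.2.symm])
    (by simp [hb.2.2, hb.2.2.symm]) (by simp) (by simp)
    (by
      simp only [List.prod_cons, List.prod_nil, mul_one]
      rw [show g * a * g⁻¹ * (g * b * g⁻¹) = g * (a * b) * g⁻¹ by group, hg.eq, mul_inv_cancel_right])
  have h1 := (hiff (g * a * g⁻¹)).1 (by simp)
  have h2 := (hiff (g * b * g⁻¹)).1 (by simp)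
  simp only [List.mem_cons, List.not_mem_nil, or_false] at h1 h2
  rcases h1 with e1 | e1 <;> rcases h2 with e2 | e2
  exacts [absurd (e1.trans e2.symm) hne, Or.inl ⟨mul_inv_eq_iff_eq_mul.1 e1, mul_inv_eq_iff_eq_mul.1 e2⟩,
    Or.inr ⟨e1, e2⟩, absurd (e1.trans e2.symm) hne]

/-- The product of two commuting members is a commutator product in their centralizer. -/
theorem prod_mem_commutator {a b : G} (ha : a ∈ D) (hb : b ∈ perp D a) :
    a * b ∈ ⁅Subgroup.centralizer ({a, b} : Set G), Subgroup.centralizer ({a, b} : Set G)⁆ := by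
  have hD := K.trans
  obtain ⟨χ, hχ, -⟩ := K.exists_global
  obtain ⟨w, hw⟩ := K.exists_triad ha hb
  obtain ⟨l, hlen, hl, hp⟩ := K.six_at ha hw
  obtain ⟨C, hC⟩ : ∃ C, C = Subgroup.centralizer ({a, b} : Set G) := ⟨_, rfl⟩
  rw [← hC]
  have htri : ∀ u ∈ oth D a b w, Triad D a b u := fun u hu => ⟨hb, hu.1, hu.2.1⟩
  have hmem : ∀ u ∈ oth D a b w, u ∈ C := fun u hu => by
    rw [hC, Subgroup.mem_centralizer_iff]
    rintro _ (rfl | rfl)
    exacts [hu.1.2.2.eq, hu.2.1.2.2.eq]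
  have hpair : ∀ u ∈ oth D a b w, ∀ v ∈ oth D a b w, v * u ∈ ⁅C, C⁆ := fun u hu v hv => by
    obtain ⟨k, hk, rfl⟩ := K.pair_transitive_at ha (htri u hu) (htri v hv)
    rw [show k * u * k⁻¹ * u = ⁅k, u⁆ by rw [commutatorElement_def, inv_eq hD hu.1.1]]
    exact Subgroup.commutator_mem_commutator (hC ▸ hk) (hmem u hu)
  rcases l with _ | ⟨u₁, _ | ⟨u₂, _ | ⟨u₃, _ | ⟨u₄, _ | ⟨u₅, _ | ⟨u₆, _ | ⟨_, _⟩⟩⟩⟩⟩⟩⟩ <;>
    simp only [List.length_cons, List.length_nil] at hlen <;> try omega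
  simp only [List.mem_cons, List.not_mem_nil, or_false, forall_eq_or_imp, forall_eq] at hl
  obtain ⟨o1, o2, o3, o4, o5, o6⟩ := hl
  have hprod : [u₁, u₂, u₃, u₄, u₅, u₆].prod ∈ ⁅C, C⁆ := by
    have h := mul_mem (mul_mem (hpair _ o2 _ o1) (hpair _ o4 _ o3)) (hpair _ o6 _ o5)
    simpa [mul_assoc] using h
  rcases hp with e | e
  · exfalso
    have := congrArg χ e
    simp only [List.prod_cons, List.prod_nil, mul_one, map_mul, hχ _ o1.1.1, hχ _ o2.1.1, hχ _ o3.1.1, hχ _ o4.1.1,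
      hχ _ o5.1.1, hχ _ o6.1.1, hχ _ hb.1] at this
    exact absurd this (by decide)
  · rwa [e, ← hb.2.2.eq] at hprod

/-- The derived group at a product of two commuting members. -/
theorem pair_derived {a b : G} (ha : a ∈ D) (hb : b ∈ perp D a) {Kp CL : Subgroup G}
    (hKp : Kp = commutator G ⊓ Subgroup.centralizer ({a, b} : Set G))
    (hCL : CL = commutator G ⊓ Subgroup.centralizer ({a * b} : Set G))
    [hn : ((Subgroup.zpowers (a * b)).subgroupOf CL).Normal] :
    Cfsg.IsQuasisimple ↥Kp ∧ Kp = (Cfsg.generalizedFittingSubgroup ↥CL).map CL.subtype ∧ Kp ≤ CL ∧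
      (Kp.subgroupOf CL).index = 2 ∧ a * b ∈ Kp ∧
      Nonempty (↥CL ⧸ (Subgroup.zpowers (a * b)).subgroupOf CL ≃* MulAut Fi22) := by
  classical
  have hD := K.trans
  obtain ⟨χ, hχ, hker⟩ := K.exists_global
  obtain ⟨z, hz⟩ : ∃ z, z = a * b := ⟨_, rfl⟩
  have hz2 : z * z = 1 := by rw [hz, hb.2.2.symm.mul_mul_mul_comm, mul_self hD ha, mul_self hD hb.1, one_mul]
  have hz1 : z ≠ 1 := fun e => hb.2.1 (by
    rw [hz] at e
    exact ((inv_eq_of_mul_eq_one_right e).symm.trans (inv_eq hD ha)))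
  have hzpow : ∀ g, g ∈ Subgroup.zpowers z ↔ g = 1 ∨ g = z := fun g => by
    refine ⟨fun hg => ?_, ?_⟩
    · obtain ⟨k, rfl⟩ := Subgroup.mem_zpowers_iff.1 hg
      have h2 : z ^ (2 : ℤ) = 1 := by rw [zpow_two, hz2]
      rcases Int.emod_two_eq_zero_or_one k with h | h
      · left; rw [← Int.ediv_mul_add_emod k 2, h, add_zero, mul_comm, zpow_mul, h2, one_zpow]
      · right; rw [← Int.ediv_mul_add_emod k 2, h, zpow_add, mul_comm (k / 2), zpow_mul, h2, one_zpow, one_mul, zpow_one]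
    · rintro (rfl | rfl)
      exacts [one_mem _, Subgroup.mem_zpowers _]
  obtain ⟨C, hC⟩ : ∃ C, C = Subgroup.centralizer ({a, b} : Set G) := ⟨_, rfl⟩
  have hCm : ∀ g, g ∈ C ↔ Commute g a ∧ Commute g b := fun g => by
    rw [hC, Subgroup.mem_centralizer_iff]
    refine ⟨fun h => ⟨(h a (by simp)).symm, (h b (by simp)).symm⟩, ?_⟩
    rintro ⟨h1, h2⟩ _ (rfl | rfl)
    exacts [h1.eq.symm, h2.eq.symm]
  have haC : a ∈ C := (hCm a).2 ⟨Commute.refl _, hb.2.2⟩
  have hbC : b ∈ C := (hCm b).2 ⟨hb.2.2.symm, Commute.refl _⟩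
  have hKm : ∀ g, g ∈ Kp ↔ g ∈ C ∧ χ g = 1 := fun g => by
    rw [hKp, Subgroup.mem_inf, hker, ← hC]; tauto
  have hCLm : ∀ g, g ∈ CL ↔ Commute g z ∧ χ g = 1 := fun g => by
    rw [hCL, Subgroup.mem_inf, hker, Subgroup.mem_centralizer_singleton_iff, hz]; exact and_comm
  have hle : Kp ≤ CL := fun g hg => by
    obtain ⟨hgC, hg1⟩ := (hKm g).1 hg
    obtain ⟨h1, h2⟩ := (hCm g).1 hgC
    exact (hCLm g).2 ⟨hz ▸ h1.mul_right h2, hg1⟩
  have hχz : χ z = 1 := by rw [hz, map_mul, hχ a ha, hχ b hb.1]; rfl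
  have hzK : z ∈ Kp := (hKm z).2 ⟨hz ▸ mul_mem haC hbC, hχz⟩
  have hor : ∀ g ∈ C, g ∈ Kp ∨ g * a ∈ Kp := fun g hg => by
    rcases Int.units_eq_one_or (χ g) with h | h
    · exact Or.inl ((hKm g).2 ⟨hg, h⟩)
    · exact Or.inr ((hKm _).2 ⟨mul_mem hg haC, by rw [map_mul, h, hχ a ha]; rfl⟩)
  -- the map onto Fi22
  obtain ⟨π, hπs, hπk⟩ := K.exists_pair_proj ha hb
  subst hC
  have hπc : ∀ u : ↥(Subgroup.centralizer ({a, b} : Set G)), (∀ g, Commute u g) → π u = 1 := fun u hu => by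
    have : π u ∈ Subgroup.center Fi22 := Subgroup.mem_center_iff.2 fun q => by
      obtain ⟨g, rfl⟩ := hπs q
      rw [← map_mul, ← map_mul, (hu g).eq]
    rwa [fi22_center, Subgroup.mem_bot] at this
  have hπa : π ⟨a, haC⟩ = 1 := hπc _ fun g => Subtype.ext ((hCm g).1 g.2).1.eq.symm
  have hπz : ∀ h : z ∈ Subgroup.centralizer ({a, b} : Set G), π ⟨z, h⟩ = 1 := fun h => hπc _ fun g =>
    Subtype.ext (hz ▸ (((hCm g).1 g.2).1.mul_right ((hCm g).1 g.2).2).eq.symm)
  obtain ⟨π₀, hπ₀⟩ : ∃ π₀ : ↥Kp →* Fi22, π₀ = π.comp (Subgroup.inclusion fun g hg => ((hKm g).1 hg).1) := ⟨_, rfl⟩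
  have hπ₀s : Function.Surjective π₀ := fun q => by
    obtain ⟨⟨g, hg⟩, rfl⟩ := hπs q
    rcases hor g hg with h | h
    · exact ⟨⟨g, h⟩, by rw [hπ₀]; rfl⟩
    · refine ⟨⟨g * a, h⟩, ?_⟩
      rw [hπ₀]
      show π (⟨g, hg⟩ * ⟨a, haC⟩) = _
      rw [map_mul, hπa, mul_one]
  have hπ₀k : ∀ g : ↥Kp, π₀ g = 1 → (g : G) = 1 ∨ (g : G) = z := fun g hg => by
    obtain ⟨hgC, hg1⟩ := (hKm g).1 g.2
    rcases closure_pair hD ha hb.1 hb.2.2 (hπk ⟨g, hgC⟩ (by rw [hπ₀] at hg; exact hg)) with e | e | e | e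
    · exact Or.inl e
    · exfalso; rw [show (g : G) = a from e, hχ a ha] at hg1; exact absurd hg1 (by decide)
    · exfalso; rw [show (g : G) = b from e, hχ b hb.1] at hg1; exact absurd hg1 (by decide)
    · exact Or.inr (e.trans hz.symm)
  have hcen : Subgroup.center ↥Kp = π₀.ker := by
    refine le_antisymm (fun u hu => ?_) (fun u hu => ?_)
    · have : π₀ u ∈ Subgroup.center Fi22 := Subgroup.mem_center_iff.2 fun q => by
        obtain ⟨g, rfl⟩ := hπ₀s q
        rw [← map_mul, ← map_mul, Subgroup.mem_center_iff.1 hu g]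
      rwa [fi22_center, Subgroup.mem_bot] at this
    · rw [Subgroup.mem_center_iff]
      intro g
      obtain ⟨h1, h2⟩ := (hCm g).1 ((hKm g).1 g.2).1
      rcases hπ₀k u hu with e | e
      · rw [show u = 1 from Subtype.ext e, one_mul, mul_one]
      · refine Subtype.ext ?_
        show (g : G) * u = u * g
        rw [e, hz, (h1.mul_right h2).eq]
  -- perfect
  have hperf : ⁅Kp, Kp⁆ = Kp := by
    refine le_antisymm (Subgroup.commutator_le.2 fun g hg h hh => by
      rw [commutatorElement_def]; exact mul_mem (mul_mem (mul_mem hg hh) (inv_mem hg)) (inv_mem hh)) fun g hg => ?_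
    have hzder : z ∈ ⁅Kp, Kp⁆ := by
      have hle' : ⁅Subgroup.centralizer ({a, b} : Set G), Subgroup.centralizer ({a, b} : Set G)⁆ ≤ ⁅Kp, Kp⁆ := by
        rw [Subgroup.commutator_le]
        intro g hg h hh
        have hcent : ∀ {u}, u ∈ Subgroup.centralizer ({a, b} : Set G) → Commute a u := fun hu => ((hCm _).1 hu).1.symm
        have e1 : ∀ {g h : G}, Commute a h → ⁅g * a, h⁆ = ⁅g, h⁆ := fun {g h} c => by
          rw [commutatorElement_def, commutatorElement_def, mul_inv_rev, mul_assoc g a, c.eq]; group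
        have e2 : ∀ {g h : G}, Commute a g → ⁅g, h * a⁆ = ⁅g, h⁆ := fun {g h} c => by
          rw [← commutatorElement_inv, e1 c, commutatorElement_inv]
        rcases hor g hg with h1 | h1 <;> rcases hor h hh with h2 | h2
        · exact Subgroup.commutator_mem_commutator h1 h2
        · rw [← e2 (hcent hg) (h := h)]; exact Subgroup.commutator_mem_commutator h1 h2
        · rw [← e1 (hcent hh) (g := g)]; exact Subgroup.commutator_mem_commutator h1 h2
        · rw [← e1 (hcent hh) (g := g), ← e2 (hcent (mul_mem hg haC)) (h := h)]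
          exact Subgroup.commutator_mem_commutator h1 h2
      exact hz ▸ hle' (K.prod_mem_commutator ha hb)
    have hmap : (⁅(⊤ : Subgroup ↥Kp), (⊤ : Subgroup ↥Kp)⁆).map π₀ = ⊤ := by
      rw [Subgroup.map_commutator, Subgroup.map_top_of_surjective _ hπ₀s, ← commutator_def, fi22_perfect]
    have hsub : (⁅(⊤ : Subgroup ↥Kp), (⊤ : Subgroup ↥Kp)⁆).map Kp.subtype = ⁅Kp, Kp⁆ := by
      rw [Subgroup.map_commutator, ← MonoidHom.range_eq_map, Subgroup.range_subtype]
    obtain ⟨k, hk, hke⟩ : π₀ ⟨g, hg⟩ ∈ (⁅(⊤ : Subgroup ↥Kp), (⊤ : Subgroup ↥Kp)⁆).map π₀ := hmap ▸ Subgroup.mem_top _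
    have hk' : (k : G) ∈ ⁅Kp, Kp⁆ := hsub ▸ ⟨k, hk, rfl⟩
    have h1 : π₀ (k⁻¹ * ⟨g, hg⟩) = 1 := by rw [map_mul, map_inv, hke, inv_mul_cancel]
    rcases hπ₀k _ h1 with e | e
    · rw [show g = k from (inv_mul_eq_one.1 e).symm]; exact hk'
    · rw [show g = (k : G) * z from inv_mul_eq_iff_eq_mul.1 e]; exact mul_mem hk' hzder
  have hperf' : Group.IsPerfect ↥Kp := Subgroup.isPerfect_iff.2 hperf
  obtain ⟨eQ⟩ : Nonempty (↥Kp ⧸ Subgroup.center ↥Kp ≃* Fi22) :=
    ⟨(QuotientGroup.quotientMulEquivOfEq hcen).trans (QuotientGroup.quotientKerEquivOfSurjective π₀ hπ₀s)⟩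
  have hFi : Cfsg.IsFi22 Fi22 := CosetEnum.Fi22Pres.isFi22
  haveI := hFi.1
  haveI : Nontrivial (↥Kp ⧸ Subgroup.center ↥Kp) := eQ.toEquiv.nontrivial
  have hqs : Cfsg.IsQuasisimple ↥Kp := ⟨hperf',
    IsSimpleGroup.isSimpleGroup_of_surjective eQ.symm.toMonoidHom eQ.symm.surjective⟩
  -- an exchange
  obtain ⟨s, hsC, hsab, hsba⟩ : ∃ s ∈ CL, s * a * s⁻¹ = b ∧ s * b * s⁻¹ = a := by
    obtain ⟨y, hy, -⟩ := exists_bar (S := perp D d) K.imgTrans.ne.choose_spec
    obtain ⟨g₁, ga₁, gb₁⟩ := K.exists_move ha hb hy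
    obtain ⟨g₂, gb₂, ga₂⟩ := K.exists_move hb.1 (show a ∈ perp D b from ⟨ha, hb.2.1.symm, hb.2.2.symm⟩) hy
    obtain ⟨s, hs⟩ : ∃ s, s = g₂⁻¹ * g₁ := ⟨_, rfl⟩
    have sa : s * a * s⁻¹ = b := by
      rw [hs, show g₂⁻¹ * g₁ * a * (g₂⁻¹ * g₁)⁻¹ = g₂⁻¹ * (g₁ * a * g₁⁻¹) * g₂ by group, ga₁, ← gb₂]; group
    have sb : s * b * s⁻¹ = a := by
      rw [hs, show g₂⁻¹ * g₁ * b * (g₂⁻¹ * g₁)⁻¹ = g₂⁻¹ * (g₁ * b * g₁⁻¹) * g₂ by group, gb₁, ← ga₂]; group
    have sz : Commute s z := mul_inv_eq_iff_eq_mul.1 (by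
      rw [hz, show s * (a * b) * s⁻¹ = s * a * s⁻¹ * (s * b * s⁻¹) by group, sa, sb, hb.2.2.eq])
    rcases Int.units_eq_one_or (χ s) with h | h
    · exact ⟨s, (hCLm s).2 ⟨sz, h⟩, sa, sb⟩
    · refine ⟨s * a, (hCLm _).2 ⟨sz.mul_left (hz ▸ (Commute.refl a).mul_right hb.2.2),
        by rw [map_mul, h, hχ a ha]; rfl⟩, ?_, ?_⟩
      · rw [show s * a * a * (s * a)⁻¹ = s * (a * a * a⁻¹) * s⁻¹ by group, mul_inv_cancel_right, sa]
      · rw [show s * a * b * (s * a)⁻¹ = s * (a * b * a⁻¹) * s⁻¹ by group, hb.2.2.eq, mul_inv_cancel_right, sb]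
  have hsK : s ∉ Kp := fun h => by
    have h' := ((hCm s).1 ((hKm s).1 h).1).1
    rw [h'.eq, mul_inv_cancel_right] at hsab
    exact hb.2.1 hsab.symm
  have hcases : ∀ g ∈ CL, g ∈ Kp ∨ g * s ∈ Kp := fun g hg => by
    obtain ⟨hgz, hg1⟩ := (hCLm g).1 hg
    obtain ⟨-, hs1⟩ := (hCLm s).1 hsC
    rcases K.pair_cases ha hb (hz ▸ hgz) with ⟨h1, h2⟩ | ⟨h1, h2⟩
    · exact Or.inl ((hKm g).2 ⟨(hCm g).2 ⟨h1, h2⟩, hg1⟩)
    · refine Or.inr ((hKm _).2 ⟨(hCm _).2 ⟨mul_inv_eq_iff_eq_mul.1 ?_, mul_inv_eq_iff_eq_mul.1 ?_⟩,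
        by rw [map_mul, hg1, hs1, one_mul]⟩)
      · rw [show g * s * a * (g * s)⁻¹ = g * (s * a * s⁻¹) * g⁻¹ by group, hsab, h2]
      · rw [show g * s * b * (g * s)⁻¹ = g * (s * b * s⁻¹) * g⁻¹ by group, hsba, h1]
  obtain ⟨K', hK'⟩ : ∃ K' : Subgroup ↥CL, K' = Kp.subgroupOf CL := ⟨_, rfl⟩
  have hidx : K'.index = 2 := by
    rw [Subgroup.index_eq_two_iff]
    refine ⟨⟨s, hsC⟩, fun g => ?_⟩
    simp only [hK', Subgroup.mem_subgroupOf, Subgroup.coe_mul]
    rcases hcases g g.2 with h | h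
    · exact Or.inr ⟨h, fun h' => hsK (by simpa using mul_mem (inv_mem h) h')⟩
    · exact Or.inl ⟨h, fun h' => hsK (by simpa using mul_mem (inv_mem h') h)⟩
  haveI hK'n : K'.Normal := Subgroup.normal_of_index_eq_two hidx
  obtain ⟨eK⟩ : Nonempty (↥K' ≃* ↥Kp) := ⟨(MulEquiv.subgroupCongr hK').trans (Subgroup.subgroupOfEquivOfLe hle)⟩
  have hK'q : Cfsg.IsQuasisimple ↥K' := Lib.Core.quasisimple_congr hqs eK.symm
  have hK'comp : Cfsg.IsComponent K' := ⟨Subgroup.Normal.isSubnormal hK'n, hK'q⟩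
  -- what acts trivially
  have hfix : ∀ g ∈ CL, (∀ k ∈ Kp, g * k * g⁻¹ * k⁻¹ ∈ Subgroup.zpowers z) → g = 1 ∨ g = z := by
    intro g hg hact
    obtain ⟨hgz, hg1⟩ := (hCLm g).1 hg
    rcases K.pair_cases ha hb (hz ▸ hgz) with ⟨h1, h2⟩ | ⟨h1, h2⟩
    · have hgK : g ∈ Kp := (hKm g).2 ⟨(hCm g).2 ⟨h1, h2⟩, hg1⟩
      refine hπ₀k ⟨g, hgK⟩ ?_
      have : π₀ ⟨g, hgK⟩ ∈ Subgroup.center Fi22 := Subgroup.mem_center_iff.2 fun q => by
        obtain ⟨k, rfl⟩ := hπ₀s q
        have hmem := hact k k.2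
        have hzpi : ∀ u : ↥Kp, (u : G) ∈ Subgroup.zpowers z → π₀ u = 1 := fun u hu => by
          rcases (hzpow u).1 hu with e | e
          · rw [show u = 1 from Subtype.ext e, map_one]
          · have hzC : z ∈ Subgroup.centralizer ({a, b} : Set G) := ((hKm z).1 hzK).1
            rw [show u = ⟨z, hzK⟩ from Subtype.ext e, hπ₀]
            exact hπz hzC
        have := hzpi (⟨g, hgK⟩ * k * ⟨g, hgK⟩⁻¹ * k⁻¹) hmem
        rw [map_mul, map_mul, map_mul, map_inv, map_inv, mul_inv_eq_one, mul_inv_eq_iff_eq_mul] at this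
        exact this.symm
      rwa [fi22_center, Subgroup.mem_bot] at this
    · exfalso
      obtain ⟨u, hu, hua, hub, cua, cub, hmove⟩ := K.exchange_moves ha hb h1 h2
      refine hmove ?_
      have huK : u * a ∈ Kp := (hKm _).2 ⟨mul_mem ((hCm u).2 ⟨cua, cub⟩) haC,
        by rw [map_mul, hχ u hu, hχ a ha]; rfl⟩
      rcases (hzpow _).1 (hact _ huK) with e | e
      · have e' : g * u * g⁻¹ * b = u * a := by
          rw [← h1, ← mul_inv_eq_one.1 e]; group
        have e'' : g * u * g⁻¹ = u * a * b :=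
          calc g * u * g⁻¹ = g * u * g⁻¹ * b * b := by rw [mul_assoc _ b b, mul_self hD hb.1, mul_one]
            _ = u * a * b := by rw [e']
        exfalso
        have h3 : IsProd D 3 (g * u * g⁻¹) := by
          rw [e'']
          refine ⟨[u, a, b], ?_, rfl, ?_, ?_, by simp [mul_assoc]⟩
          · simp [hua, hub, hb.2.1.symm]
          · simp [hu, ha, hb.1]
          · simp [cua, cua.symm, cub, cub.symm, hb.2.2, hb.2.2.symm]
        have h1' : IsProd D 1 (g * u * g⁻¹) := ⟨[g * u * g⁻¹], by simp, rfl, by simp [hD.conj g u hu], by simp, by simp⟩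
        exact absurd (K.prod_length (by norm_num) (by norm_num) h3 h1') (by norm_num)
      · have e' : g * u * g⁻¹ * b = z * (u * a) := by
          rw [← h1, ← (mul_inv_eq_iff_eq_mul.1 e)]; group
        calc g * u * g⁻¹ = g * u * g⁻¹ * b * b := by rw [mul_assoc _ b b, mul_self hD hb.1, mul_one]
          _ = a * b * (u * a) * b := by rw [e', hz]
          _ = a * b * u * a * b := by group
          _ = u * (a * b) * a * b := by rw [(cua.mul_right cub).eq]
          _ = u := by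
            rw [show u * (a * b) * a * b = u * (a * b * (a * b)) by group, ← hz, hz2, mul_one]
  have hzCL : z ∈ CL := hle hzK
  -- the generalized Fitting subgroup
  have hF : Cfsg.generalizedFittingSubgroup ↥CL = K' := by
    have hcentK : ∀ g : ↥CL, g ∈ Subgroup.centralizer (K' : Set ↥CL) → g ∈ K' := fun g hg => by
      rw [Subgroup.mem_centralizer_iff] at hg
      rcases hfix g g.2 (fun k hk => by
        have := congrArg Subtype.val (hg ⟨k, hle hk⟩ (hK' ▸ hk))
        simp only [Subgroup.coe_mul] at this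
        rw [show (g : G) * k = k * g from this.symm, mul_inv_cancel_right, mul_inv_cancel]
        exact one_mem _) with e | e <;>
        · rw [hK', Subgroup.mem_subgroupOf, e]
          first | exact one_mem _ | exact hzK
    have hlay : Cfsg.layer ↥CL = K' := by
      refine le_antisymm (sSup_le fun M hM => ?_) (Lib.Core.le_layer hK'comp)
      by_contra hne
      have h := Lib.Core.component_commute hM hK'comp (fun e => hne e.le)
      rw [Subgroup.commutator_eq_bot_iff_le_centralizer] at h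
      exact hne fun g hg => hcentK g (h hg)
    refine le_antisymm (sup_le hlay.le fun g hg => hcentK g ?_) (hlay.symm.le.trans le_sup_left)
    have h := Lib.Core.commutator_layer_fitting (G := ↥CL)
    rw [hlay, Subgroup.commutator_comm, Subgroup.commutator_eq_bot_iff_le_centralizer] at h
    exact h hg
  -- the automorphism group
  obtain ⟨ρ, hρ⟩ : ∃ ρ : ↥CL →* MulAut (↥K' ⧸ Subgroup.center ↥K'), ∀ (g : ↥CL) (k : ↥K'),
      ρ g (QuotientGroup.mk k) = QuotientGroup.mk (MulAut.conjNormal g k) := by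
    refine ⟨(MonoidHom.mk' (fun θ : MulAut ↥K' => QuotientGroup.congr (Subgroup.center ↥K') (Subgroup.center ↥K') θ
      (pair_map_center θ)) fun θ θ' => MulEquiv.ext fun q => ?_).comp MulAut.conjNormal, fun g k => ?_⟩
    · obtain ⟨k, rfl⟩ := QuotientGroup.mk_surjective q
      rfl
    · rfl
  obtain ⟨eQ'⟩ : Nonempty (↥K' ⧸ Subgroup.center ↥K' ≃* Fi22) :=
    ⟨(QuotientGroup.congr _ _ eK (pair_map_center eK)).trans eQ⟩
  obtain ⟨ψ, hψ⟩ : ∃ ψ : ↥CL →* MulAut Fi22, ψ = (MulAut.congr eQ').toMonoidHom.comp ρ := ⟨_, rfl⟩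
  have hcen' : ∀ u : ↥K', u ∈ Subgroup.center ↥K' ↔ ((u : ↥CL) : G) ∈ Subgroup.zpowers z := fun u => by
    have huK : ((u : ↥CL) : G) ∈ Kp := Subgroup.mem_subgroupOf.1 (hK' ▸ u.2 : (u : ↥CL) ∈ Kp.subgroupOf CL)
    constructor
    · intro hu
      refine (hzpow _).2 (hπ₀k ⟨_, huK⟩ ?_)
      have hmem : (⟨_, huK⟩ : ↥Kp) ∈ Subgroup.center ↥Kp := Subgroup.mem_center_iff.2 fun k => Subtype.ext (by
        have := congrArg (fun t : ↥K' => ((t : ↥CL) : G))
          (Subgroup.mem_center_iff.1 hu ⟨⟨k, hle k.2⟩, hK' ▸ k.2⟩)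
        exact this)
      rw [hcen] at hmem
      exact hmem
    · intro hu
      rw [Subgroup.mem_center_iff]
      intro k
      have hkK : ((k : ↥CL) : G) ∈ Kp := Subgroup.mem_subgroupOf.1 (hK' ▸ k.2 : (k : ↥CL) ∈ Kp.subgroupOf CL)
      obtain ⟨h1, h2⟩ := (hCm _).1 ((hKm _).1 hkK).1
      refine Subtype.ext (Subtype.ext ?_)
      show ((k : ↥CL) : G) * ((u : ↥CL) : G) = ((u : ↥CL) : G) * ((k : ↥CL) : G)
      rcases (hzpow _).1 hu with e | e
      · rw [e, one_mul, mul_one]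
      · rw [e, hz, (h1.mul_right h2).eq]
  have hψk : ψ.ker = (Subgroup.zpowers z).subgroupOf CL := by
    ext g
    rw [MonoidHom.mem_ker, Subgroup.mem_subgroupOf, hψ, MonoidHom.comp_apply, MulEquiv.coe_toMonoidHom,
      map_eq_one_iff _ (MulEquiv.injective _)]
    constructor
    · intro h
      refine (hzpow _).2 (hfix g g.2 fun k hk => ?_)
      have hk' : (⟨k, hle hk⟩ : ↥CL) ∈ K' := hK' ▸ hk
      have e := hρ g ⟨_, hk'⟩
      rw [h] at e
      have hc := (hcen' _).1 (QuotientGroup.eq.1 e.symm)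
      simp only [Subgroup.coe_mul, Subgroup.coe_inv, MulAut.conjNormal_apply] at hc
      have := Subgroup.inv_mem _ hc
      rw [mul_inv_rev, inv_inv] at this
      rcases (hzpow _).1 this with e' | e'
      · rw [inv_mul_eq_one] at e'
        refine (hzpow _).2 (Or.inl ?_)
        rw [← e', mul_inv_cancel]
      · refine (hzpow _).2 (Or.inr ?_)
        rw [inv_mul_eq_iff_eq_mul] at e'
        obtain ⟨h1, h2⟩ := (hCm _).1 ((hKm _).1 hk).1
        rw [e', hz, (h1.mul_right h2).eq, mul_inv_cancel_right]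
    · intro h
      refine MulEquiv.ext fun q => ?_
      obtain ⟨k, rfl⟩ := QuotientGroup.mk_surjective q
      rw [hρ]
      refine congrArg QuotientGroup.mk (Subtype.ext (Subtype.ext ?_))
      simp only [MulAut.conjNormal_apply, Subgroup.coe_mul, Subgroup.coe_inv]
      have hkK : ((k : ↥CL) : G) ∈ Kp := Subgroup.mem_subgroupOf.1 (hK' ▸ k.2 : (k : ↥CL) ∈ Kp.subgroupOf CL)
      obtain ⟨h1, h2⟩ := (hCm _).1 ((hKm _).1 hkK).1
      rcases (hzpow _).1 h with e | e
      · rw [e]; simp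
      · rw [e, hz, (h1.mul_right h2).symm.eq, mul_inv_cancel_right]
  have hψs : Function.Surjective ψ := by
    haveI : Finite Fi22 := Nat.finite_of_card_ne_zero (by rw [hFi.2]; decide)
    haveI : Finite (MulAut Fi22) := Finite.of_injective (fun t => (t : Fi22 → Fi22)) DFunLike.coe_injective
    rw [← MonoidHom.range_eq_top]
    refine Subgroup.eq_top_of_card_eq _ ?_
    have h1 : Nat.card ↥ψ.range * Nat.card ↥ψ.ker = Nat.card ↥CL := by
      rw [← Nat.card_congr (QuotientGroup.quotientKerEquivRange ψ).toEquiv,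
        ← Subgroup.card_eq_card_quotient_mul_card_subgroup]
    have h2 : Nat.card ↥CL = Nat.card ↥K' * 2 := by rw [← hidx, Subgroup.card_mul_index]
    have h3 : Nat.card ↥K' = Nat.card Fi22 * Nat.card ↥(Subgroup.center ↥K') := by
      rw [Subgroup.card_eq_card_quotient_mul_card_subgroup (Subgroup.center ↥K'), Nat.card_congr eQ'.toEquiv]
    have h4 : Nat.card ↥(Subgroup.center ↥K') = Nat.card ↥ψ.ker := by
      rw [hψk]
      refine Nat.card_eq_of_bijective (fun u => ⟨(u : ↥K'), Subgroup.mem_subgroupOf.2 ((hcen' _).1 u.2)⟩)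
        ⟨fun u v e => Subtype.ext (Subtype.ext (congrArg (fun t : ↥((Subgroup.zpowers z).subgroupOf CL) => (t : ↥CL)) e :)),
          fun v => ?_⟩
      have hv := Subgroup.mem_subgroupOf.1 v.2
      have hvK : (v : ↥CL) ∈ K' := by
        rw [hK', Subgroup.mem_subgroupOf]
        rcases (hzpow _).1 hv with e | e <;> rw [e]
        exacts [one_mem _, hzK]
      exact ⟨⟨⟨v, hvK⟩, (hcen' _).2 hv⟩, rfl⟩
    rw [h2, h3, h4] at h1
    rw [card_mulAut_fi22]
    have hpos : 0 < Nat.card ↥ψ.ker := Nat.card_pos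
    refine Nat.eq_of_mul_eq_mul_right hpos ?_
    rw [h1]
    ring
  refine ⟨hqs, ?_, hle, hK' ▸ hidx, hz ▸ hzK, ?_⟩
  · rw [hF, hK', Subgroup.map_subgroupOf_eq_of_le hle]
  · subst hz
    exact ⟨(QuotientGroup.quotientMulEquivOfEq hψk.symm).trans (QuotientGroup.quotientKerEquivOfSurjective ψ hψs)⟩

end M24Data

end Cfsg.Lib.Fischer.Relations
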