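import Mathlib.GroupTheory.Transfer
import Mathlib.Algebra.Ring.Int.Units

/-!
# A sign from an odd number of fixed points

If an involution fixes an odd number of points and every stabilizer of a fixed point has a sign that is
`-1` on the conjugates of the involution, then the transfer from one of them is a sign with value `-1` on it.
-/

set_option autoImplicit false
set_option linter.unusedSectionVars false

namespace Cfsg.Lib.Fischer.Relations

open MulAction

variable {H : Type*} [Group H] [Finite H]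

theorem transfer_involution {d : H} (hd : d * d = 1) (K : Subgroup H) (χ : ↥K →* ℤˣ)
    (hχ : ∀ g : H, ∀ h : g⁻¹ * d * g ∈ K, χ ⟨_, h⟩ = -1) :
    MonoidHom.transfer χ d = (-1) ^ Nat.card {q : H ⧸ K // d • q = q} := by
  classical
  letI := Fintype.ofFinite (Quotient (orbitRel (Subgroup.zpowers d) (H ⧸ K)))
  rw [MonoidHom.transfer_eq_prod_quotient_orbitRel_zpowers_quot]
  have hval : ∀ q : Quotient (orbitRel (Subgroup.zpowers d) (H ⧸ K)),
      χ ⟨q.out.out⁻¹ * d ^ Function.minimalPeriod (d • ·) q.out * q.out.out,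
        QuotientGroup.out_conj_pow_minimalPeriod_mem K d q.out⟩ = if d • q.out = q.out then -1 else 1 := by
    intro q
    by_cases h : d • q.out = q.out
    · rw [if_pos h]
      have h1 : Function.minimalPeriod (d • ·) q.out = 1 := Function.minimalPeriod_eq_one_iff_isFixedPt.2 h
      have h' := QuotientGroup.out_conj_pow_minimalPeriod_mem K d q.out
      rw [h1, pow_one] at h'
      rw [← hχ _ h']
      exact congrArg χ (Subtype.ext (show q.out.out⁻¹ * d ^ Function.minimalPeriod (d • ·) q.out * q.out.out = q.out.out⁻¹ * d * q.out.out by rw [h1, pow_one]))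
    · rw [if_neg h]
      have h2 : Function.minimalPeriod (d • ·) q.out = 2 := by
        have hper : Function.IsPeriodicPt (d • ·) 2 q.out := by
          show d • d • q.out = q.out
          rw [← mul_smul, hd, one_smul]
        rcases (Nat.dvd_prime Nat.prime_two).1 hper.minimalPeriod_dvd with e | e
        · exact absurd (Function.minimalPeriod_eq_one_iff_isFixedPt.1 e) h
        · exact e
      rw [show (⟨_, QuotientGroup.out_conj_pow_minimalPeriod_mem K d q.out⟩ : ↥K) = 1 from
        Subtype.ext (show q.out.out⁻¹ * d ^ Function.minimalPeriod (d • ·) q.out * q.out.out = (1 : H) by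
          rw [h2, pow_two, hd, mul_one, inv_mul_cancel]), map_one]
  rw [Finset.prod_congr rfl fun q _ => hval q, Finset.prod_ite, Finset.prod_const, Finset.prod_const, one_pow,
    mul_one]
  congr 1
  rw [← Nat.card_eq_finsetCard]
  have hone : ∀ x : H ⧸ K, d • x = x → ∀ y, (orbitRel (Subgroup.zpowers d) (H ⧸ K)).r y x → y = x := by
    intro x hx y hy
    obtain ⟨⟨g, hg⟩, rfl⟩ := orbitRel_apply.1 hy
    have hle : Subgroup.zpowers d ≤ stabilizer H x := Subgroup.zpowers_le.2 hx
    exact hle hg
  refine Nat.card_congr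
    { toFun := fun q => ⟨q.1.out, (Finset.mem_filter.1 q.2).2⟩
      invFun := fun x => ⟨Quotient.mk'' x.1, Finset.mem_filter.2 ⟨Finset.mem_univ _, ?_⟩⟩
      left_inv := fun q => Subtype.ext (Quotient.out_eq' q.1)
      right_inv := fun x => Subtype.ext ?_ }
  · rw [hone x.1 x.2 _ (Quotient.exact' (Quotient.out_eq' _))]
    exact x.2
  · exact hone x.1 x.2 _ (Quotient.exact' (Quotient.out_eq' _))

/-- A sign with value `-1` on the involution. -/
theorem exists_sign_of_odd {Ω : Type*} [MulAction H Ω] [Finite Ω] {d : H} (hd : d * d = 1)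
    (hodd : Odd (Nat.card {ω : Ω // d • ω = ω}))
    (hχ : ∀ ω : Ω, d • ω = ω → ∃ χ : ↥(stabilizer H ω) →* ℤˣ,
      ∀ g : H, ∀ h : g⁻¹ * d * g ∈ stabilizer H ω, χ ⟨_, h⟩ = -1) :
    ∃ χ : H →* ℤˣ, χ d = -1 := by
  classical
  haveI := Fintype.ofFinite {ω : Ω // d • ω = ω}
  haveI := Fintype.ofFinite (Quotient (orbitRel H Ω))
  -- an orbit with an odd number of fixed points
  obtain ⟨r, hr⟩ : ∃ r : Quotient (orbitRel H Ω),
      Odd (Nat.card {w : {ω : Ω // d • ω = ω} // Quotient.mk'' w.1 = r}) := by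
    by_contra hno
    simp only [not_exists, Nat.not_odd_iff_even] at hno
    refine Nat.not_even_iff_odd.2 hodd ?_
    rw [← Nat.card_congr (Equiv.sigmaFiberEquiv
      fun w : {ω : Ω // d • ω = ω} => (Quotient.mk'' w.1 : Quotient (orbitRel H Ω))), Nat.card_sigma]
    exact even_iff_two_dvd.2 (Finset.dvd_sum fun r _ => even_iff_two_dvd.1 (hno r))
  obtain ⟨⟨ω₀, hω₀⟩, hrw⟩ : Nonempty {w : {ω : Ω // d • ω = ω} // Quotient.mk'' w.1 = r} :=
    (Nat.card_pos_iff.1 hr.pos).1
  obtain ⟨χ, hχ'⟩ := hχ ω₀ hω₀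
  refine ⟨MonoidHom.transfer χ, ?_⟩
  have hcount : Nat.card {q : H ⧸ stabilizer H ω₀ // d • q = q} =
      Nat.card {w : {ω : Ω // d • ω = ω} // Quotient.mk'' w.1 = r} := by
    refine Nat.card_eq_of_bijective (fun q => ⟨⟨ofQuotientStabilizer H ω₀ q.1, ?_⟩, ?_⟩) ⟨fun p q h => ?_, fun w => ?_⟩
    · rw [← ofQuotientStabilizer_smul, q.2]
    · rw [← hrw]
      exact Quotient.sound' (orbitRel_apply.2 (ofQuotientStabilizer_mem_orbit H ω₀ q.1))
    · exact Subtype.ext (injective_ofQuotientStabilizer H ω₀ (congrArg (fun w => w.1.1) h))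
    · have hw : w.1.1 ∈ orbit H ω₀ := orbitRel_apply.1 (Quotient.exact' (w.2.trans hrw.symm))
      obtain ⟨g, hg⟩ := hw
      refine ⟨⟨(g : H ⧸ stabilizer H ω₀), ?_⟩, Subtype.ext (Subtype.ext hg)⟩
      refine injective_ofQuotientStabilizer H ω₀ ?_
      rw [ofQuotientStabilizer_smul]
      show d • (g • ω₀) = g • ω₀
      rw [show g • ω₀ = w.1.1 from hg]
      exact w.1.2
  rw [transfer_involution hd _ χ hχ', hcount]
  exact hr.neg_one_pow

end Cfsg.Lib.Fischer.Relations
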