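import Cfsg.Agent.Lib.Fischer.Relations.TwentyFour.TriSign
import Cfsg.Agent.Lib.Fischer.Relations.TwentyFour.Transfer
import Cfsg.Agent.Lib.Fischer.Relations.TwentyFour.Order

/-!
# The centralizers of a pair and of a member have signs

In the centralizer of a pair the 1216215 adjacent edges give an odd transfer from an edge stabilizer, whose sign
extends that of a triangle by an involution; in the centralizer of a member the 31671 neighbours do the same.
-/

set_option autoImplicit false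
set_option linter.unusedSectionVars false

namespace Cfsg.Lib.Fischer.Relations

open Cfsg Cfsg.Lib.Fischer

universe u

variable {G : Type u} [Group G] [Finite G] {D : Set G}

/-- A homomorphism to the units as a function on the group. -/
theorem to_sign {C : Subgroup G} (χ : ↥C →* ℤˣ) (d' : G) (hd' : d' ∈ C) (h : χ ⟨d', hd'⟩ = -1) :
    ∃ F : G → ℤˣ, (∀ a ∈ C, ∀ b ∈ C, F (a * b) = F a * F b) ∧ F d' = -1 := by
  classical
  refine ⟨fun g => if hg : g ∈ C then χ ⟨g, hg⟩ else 1, fun a ha b hb => ?_, ?_⟩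
  · simp only [dif_pos ha, dif_pos hb, dif_pos (mul_mem ha hb), ← map_mul, MulMemClass.mk_mul_mk]
  · simp only [dif_pos hd', h]

namespace M24Data

variable {d : G} (K : M24Data D d)
include K

theorem card_others {y : G} (hy : y ∈ perp D d) : Nat.card {z | Triad D d y z} = 3510 := by
  have h := K.params.adj d K.mem y hy
  have hset : {u | u ∈ perp D d ∧ Commute y u} = insert y {z | Triad D d y z} := by
    ext u
    simp only [Set.mem_setOf_eq, Set.mem_insert_iff]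
    constructor
    · intro hu
      exact (em (u = y)).imp id fun e => ⟨hy, hu.1, hu.1.1, e, hu.2⟩
    · rintro (rfl | hu)
      exacts [⟨hy, Commute.refl _⟩, ⟨hu.dz, hu.yz.2.2⟩]
  rw [hset, Nat.card_coe_set_eq, Set.ncard_insert_of_notMem (fun e => e.yz.2.1 rfl), ← Nat.card_coe_set_eq] at h
  omega

theorem card_oth {y z : G} (h : Triad D d y z) : Nat.card (oth D d y z) = 693 := by
  have h' := K.card_two h.dy h.dz h.yz.2.1 h.yz.2.2
  have hset : {u | u ∈ perp D d ∧ (Commute y u ∧ Commute z u)} = insert y (insert z (oth D d y z)) := by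
    ext u
    simp only [Set.mem_setOf_eq, Set.mem_insert_iff]
    constructor
    · rintro ⟨hu, c1, c2⟩
      by_cases e1 : u = y
      · exact Or.inl e1
      by_cases e2 : u = z
      · exact Or.inr (Or.inl e2)
      exact Or.inr (Or.inr ⟨hu, ⟨hu.1, e1, c1⟩, ⟨hu.1, e2, c2⟩⟩)
    · rintro (rfl | rfl | hu)
      exacts [⟨h.dy, Commute.refl _, h.yz.2.2.symm⟩, ⟨h.dz, h.yz.2.2, Commute.refl _⟩,
        ⟨hu.1, hu.2.1.2.2, hu.2.2.2.2⟩]
  rw [hset, Nat.card_coe_set_eq, Set.ncard_insert_of_notMem, Set.ncard_insert_of_notMem (fun e => e.2.2.2.1 rfl),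
    ← Nat.card_coe_set_eq] at h'
  · omega
  · rintro (e | e)
    exacts [h.yz.2.1 e.symm, e.2.1.2.1 rfl]

/-- An involution exchanging one edge adjacent to the pair. -/
theorem exists_swap_edge {y : G} (hy : y ∈ perp D d) : ∃ z w g₀, Triad D d y z ∧ w ∈ oth D d y z ∧ g₀ * g₀ = 1 ∧
    Commute g₀ d ∧ Commute g₀ y ∧ g₀ * z * g₀⁻¹ = w := by
  classical
  have hD := K.trans
  haveI : Nonempty {z | Triad D d y z} := Nat.card_pos_iff.1 (by rw [K.card_others hy]; norm_num) |>.1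
  obtain ⟨a, ha⟩ : ∃ a, Triad D d y a := ⟨_, (Classical.arbitrary {z | Triad D d y z}).2⟩
  obtain ⟨z, hz, hza⟩ : ∃ z, Triad D d y z ∧ ¬ Commute z a := by
    by_contra hall
    push Not at hall
    have hsub : {z | Triad D d y z} ⊆ insert a (oth D d y a) := fun z hz => by
      rw [Set.mem_insert_iff]
      exact (em (z = a)).imp id fun e => ⟨hz.dz, hz.yz, hz.dz.1, e, (hall z hz).symm⟩
    have := Set.ncard_le_ncard hsub
    rw [← Nat.card_coe_set_eq, K.card_others hy] at this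
    have h2 := Set.ncard_insert_le a (oth D d y a)
    rw [← Nat.card_coe_set_eq (oth D d y a), K.card_oth ha] at h2
    omega
  obtain ⟨b, hb, hzb⟩ : ∃ b ∈ oth D d y a, ¬ Commute z b := by
    by_contra hall
    push Not at hall
    have hsub : oth D d y a ⊆ {u | u ∈ perp D d ∧ (Commute z u ∧ Commute a u)} := fun u hu =>
      ⟨hu.1, hall u hu, hu.2.2.2.2⟩
    have := Set.ncard_le_ncard hsub
    rw [← Nat.card_coe_set_eq, ← Nat.card_coe_set_eq, K.card_oth ha, K.card_two' hz.dz ha.dz hza] at this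
    omega
  have hab : Commute a b := hb.2.2.2.2
  have haD := ha.dz.1
  have hbD := hb.1.1
  have hg0 : b * a * (b * a) = 1 := by
    rw [show b * a * (b * a) = b * (a * b) * a by simp [mul_assoc], hab.eq, ← mul_assoc b b,
      mul_self hD hbD, one_mul, mul_self hD haD]
  have hconj : b * a * z * (b * a)⁻¹ = cj b (cj a z) := by
    rw [mul_inv_rev, inv_eq hD hbD, inv_eq hD haD, cj_def, cj_def]
    simp [mul_assoc]
  have hgd : Commute (b * a) d := hb.1.2.2.symm.mul_left ha.dz.2.2.symm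
  have hgy : Commute (b * a) y := hb.2.1.2.2.symm.mul_left ha.yz.2.2.symm
  refine ⟨z, b * a * z * (b * a)⁻¹, b * a, hz, ?_, hg0, hgd, hgy, rfl⟩
  have h1 : b * a * z * (b * a)⁻¹ ∈ perp D d := K.conj_mem hgd hz.dz
  refine ⟨h1, ?_, h1.1, fun e => hza ?_, ?_⟩
  · have := conj_perp K.fis (b * a) y hz.yz
    rwa [hgy.eq, mul_inv_cancel_right] at this
  · exfalso
    rw [hconj] at e
    have e' : cj a z = cj b z := by rw [← cj_cj hD hbD (cj a z), e]
    exact hb.2.2.2.1 (eq_of_cj_eq hD haD hbD hz.dz.1 hza hzb e').symm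
  · rw [hconj]
    refine ((commute_cj_left hD hbD).2 ?_).symm
    rw [← braid hD hz.dz.1 haD hza, ← braid hD hz.dz.1 hbD hzb, commute_cj hD hz.dz.1]
    exact hab

/-- Every edge adjacent to the pair is exchanged by an involution. -/
theorem exists_swap {y z w : G} (h : Triad D d y z) (hw : w ∈ oth D d y z) : ∃ g₀, g₀ * g₀ = 1 ∧ Commute g₀ d ∧
    Commute g₀ y ∧ g₀ * z * g₀⁻¹ = w := by
  obtain ⟨z₀, w₀, g, h₀, hw₀, hg, hgd, hgy, hgz⟩ := K.exists_swap_edge h.dy
  obtain ⟨k, hkd, hky, rfl⟩ := K.pair_transitive h.dy h₀ h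
  have hw' : k * w₀ * k⁻¹ ∈ oth D d y (k * z₀ * k⁻¹) := by
    have := oth_conj K.trans k hw₀
    rwa [hkd.eq, mul_inv_cancel_right, hky.eq, mul_inv_cancel_right] at this
  obtain ⟨m, hmd, hmy, hmz, hmw⟩ := K.oth_transitive K.mem h hw' hw
  have hd' : Commute (m * k) d := hmd.mul_left hkd
  have hy' : Commute (m * k) y := hmy.mul_left hky
  refine ⟨m * k * g * (m * k)⁻¹, ?_, (hd'.mul_left hgd).mul_left hd'.inv_left, (hy'.mul_left hgy).mul_left hy'.inv_left,
    ?_⟩
  · rw [show m * k * g * (m * k)⁻¹ * (m * k * g * (m * k)⁻¹) = m * k * (g * g) * (m * k)⁻¹ by group, hg, mul_one,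
      mul_inv_cancel]
  · have hz' : m * k * z₀ * (m * k)⁻¹ = k * z₀ * k⁻¹ := by
      rw [show m * k * z₀ * (m * k)⁻¹ = m * (k * z₀ * k⁻¹) * m⁻¹ by group, hmz.eq, mul_inv_cancel_right]
    calc m * k * g * (m * k)⁻¹ * (k * z₀ * k⁻¹) * (m * k * g * (m * k)⁻¹)⁻¹
        = m * k * g * (m * k)⁻¹ * (m * k * z₀ * (m * k)⁻¹) * (m * k * g * (m * k)⁻¹)⁻¹ := by rw [hz']
      _ = m * (k * (g * z₀ * g⁻¹) * k⁻¹) * m⁻¹ := by group
      _ = w := by rw [hgz, hmw]

set_option maxHeartbeats 400000 in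
/-- The stabilizer of an adjacent edge has a sign on `d`. -/
theorem edge_sign {y z w : G} (h : Triad D d y z) (hw : w ∈ oth D d y z) : ∃ F : G → ℤˣ, F d = -1 ∧
    ∀ k l : G, (Commute k d ∧ Commute k y ∧ (fun a => k * a * k⁻¹) '' {z, w} = {z, w}) →
      (Commute l d ∧ Commute l y ∧ (fun a => l * a * l⁻¹) '' {z, w} = {z, w}) → F (k * l) = F k * F l := by
  classical
  have hD := K.trans
  have htri : Triad D d z w := ⟨h.dz, hw.1, hw.2.2⟩
  obtain ⟨⟨ψ, hψ⟩, -⟩ := K.tri_signed K.mem htri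
  obtain ⟨g, hg, hgd, hgy, hgz⟩ := K.exists_swap h hw
  have hginv : g⁻¹ = g := inv_eq_of_mul_eq_one_right hg
  have hgw : g * w * g⁻¹ = z := by
    rw [← hgz, show g * (g * z * g⁻¹) * g⁻¹ = g * g * z * (g * g)⁻¹ by group, hg, one_mul, inv_one, mul_one]
  have hwz : w ≠ z := hw.2.2.2.1
  have hcases : ∀ k : G, (fun a => k * a * k⁻¹) '' {z, w} = {z, w} →
      (k * z * k⁻¹ = z ∧ k * w * k⁻¹ = w) ∨ (k * z * k⁻¹ = w ∧ k * w * k⁻¹ = z) := by
    intro k hk
    have h1 : k * z * k⁻¹ ∈ ({z, w} : Set G) := hk ▸ ⟨z, Or.inl rfl, rfl⟩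
    have h2 : k * w * k⁻¹ ∈ ({z, w} : Set G) := hk ▸ ⟨w, Or.inr rfl, rfl⟩
    have hne : k * w * k⁻¹ ≠ k * z * k⁻¹ := fun e => hwz (conj_injective (x := k) e)
    rcases h1 with e1 | e1 <;> rcases h2 with e2 | e2
    exacts [absurd (e2.trans e1.symm) hne, Or.inl ⟨e1, e2⟩, Or.inr ⟨e1, e2⟩, absurd (e2.trans e1.symm) hne]
  obtain ⟨C, hC⟩ : ∃ C, C = Subgroup.centralizer ({d, z, w} : Set G) := ⟨_, rfl⟩
  rw [← hC] at hψ
  have hmemC : ∀ k, Commute k d → k * z * k⁻¹ = z → k * w * k⁻¹ = w → k ∈ C := fun k a b c => by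
    rw [hC, Subgroup.mem_centralizer_iff]
    rintro _ (rfl | rfl | rfl)
    exacts [a.eq.symm, (mul_inv_eq_iff_eq_mul.1 b).symm, (mul_inv_eq_iff_eq_mul.1 c).symm]
  have hCfix : ∀ k ∈ C, Commute k d ∧ k * z * k⁻¹ = z ∧ k * w * k⁻¹ = w := fun k hk => by
    rw [hC, Subgroup.mem_centralizer_iff] at hk
    exact ⟨(hk d (by simp)).symm, mul_inv_eq_iff_eq_mul.2 (hk z (by simp)).symm,
      mul_inv_eq_iff_eq_mul.2 (hk w (by simp)).symm⟩
  have hgC : ∀ m ∈ C, g * m * g ∈ C := by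
    intro m hm
    obtain ⟨a, b, c⟩ := hCfix m hm
    refine hmemC _ ((hgd.mul_left a).mul_left hgd) ?_ ?_
    · calc g * m * g * z * (g * m * g)⁻¹ = g * (m * (g * z * g⁻¹) * m⁻¹) * g⁻¹ := by group
        _ = z := by rw [hgz, c, hgw]
    · calc g * m * g * w * (g * m * g)⁻¹ = g * (m * (g * w * g⁻¹) * m⁻¹) * g⁻¹ := by group
        _ = w := by rw [hgw, b, hgz]
  have hinv : ∀ m ∈ C, ψ (g * m * g) = ψ m := by
    intro m hm
    have hconj : IsSign D C fun x => ψ (g * x * g) := by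
      refine ⟨fun a ha b hb => ?_, fun x hx hxC => hψ.member _ ?_ (hgC x hxC)⟩
      · show ψ (g * (a * b) * g) = _
        rw [← hψ.map_mul _ (hgC a ha) _ (hgC b hb)]
        congr 1
        rw [show g * a * g * (g * b * g) = g * a * (g * g) * b * g by group, hg, mul_one]
        simp [mul_assoc]
      · have := hD.conj g x hx
        rwa [hginv] at this
    exact hconj.eq_on hψ (S := {x | x ∈ D ∧ ∀ a ∈ ({d, z, w} : Set G), Commute a x}) (fun x hx => hx.1)
      (fun x hx => hC ▸ gen_le _ (Subgroup.subset_closure hx)) (fun x hx => hC ▸ gen_le _ (Subgroup.subset_closure hx))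
      (K.tri_gen K.mem htri (hC ▸ hm))
  have hswapC : ∀ k, Commute k d → k * z * k⁻¹ = w → k * w * k⁻¹ = z → k * g ∈ C := fun k a b c => by
    refine hmemC _ (a.mul_left hgd) ?_ ?_
    · rw [show k * g * z * (k * g)⁻¹ = k * (g * z * g⁻¹) * k⁻¹ by group, hgz, c]
    · rw [show k * g * w * (k * g)⁻¹ = k * (g * w * g⁻¹) * k⁻¹ by group, hgw, b]
  obtain ⟨F, hF⟩ : ∃ F : G → ℤˣ, ∀ k, F k = if k * z * k⁻¹ = z then ψ k else ψ (k * g) := ⟨_, fun _ => rfl⟩
  refine ⟨F, ?_, ?_⟩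
  · have e : d * z * d⁻¹ = z := by rw [h.dz.2.2.eq, mul_inv_cancel_right]
    rw [hF, if_pos e]
    refine hψ.member d K.mem (hmemC d (Commute.refl _) e ?_)
    rw [hw.1.2.2.eq, mul_inv_cancel_right]
  · rintro k l ⟨hkd, -, hkT⟩ ⟨hld, -, hlT⟩
    rcases hcases k hkT with ⟨k1, k2⟩ | ⟨k1, k2⟩ <;> rcases hcases l hlT with ⟨l1, l2⟩ | ⟨l1, l2⟩
    · have hkl : k * l * z * (k * l)⁻¹ = z := by
        rw [show k * l * z * (k * l)⁻¹ = k * (l * z * l⁻¹) * k⁻¹ by group, l1, k1]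
      rw [hF, hF, hF, if_pos hkl, if_pos k1, if_pos l1]
      exact hψ.map_mul k (hmemC k hkd k1 k2) l (hmemC l hld l1 l2)
    · have hkl : ¬ k * l * z * (k * l)⁻¹ = z := by
        rw [show k * l * z * (k * l)⁻¹ = k * (l * z * l⁻¹) * k⁻¹ by group, l1, k2]
        exact hwz
      rw [hF, hF, hF, if_neg hkl, if_pos k1, if_neg (by rw [l1]; exact hwz), mul_assoc]
      exact hψ.map_mul k (hmemC k hkd k1 k2) _ (hswapC l hld l1 l2)
    · have hkl : ¬ k * l * z * (k * l)⁻¹ = z := by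
        rw [show k * l * z * (k * l)⁻¹ = k * (l * z * l⁻¹) * k⁻¹ by group, l1, k1]
        exact hwz
      have hlC := hmemC l hld l1 l2
      rw [hF, hF, hF, if_neg hkl, if_neg (by rw [k1]; exact hwz), if_pos l1,
        show k * l * g = k * g * (g * l * g) by
          rw [show k * g * (g * l * g) = k * (g * g) * l * g by group, hg, mul_one],
        hψ.map_mul _ (hswapC k hkd k1 k2) _ (hgC l hlC), hinv l hlC]
    · have hkl : k * l * z * (k * l)⁻¹ = z := by
        rw [show k * l * z * (k * l)⁻¹ = k * (l * z * l⁻¹) * k⁻¹ by group, l1, k2]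
      have hlg := hswapC l hld l1 l2
      rw [hF, hF, hF, if_pos hkl, if_neg (by rw [k1]; exact hwz), if_neg (by rw [l1]; exact hwz),
        show k * l = k * g * (g * (l * g) * g) by
          rw [show k * g * (g * (l * g) * g) = k * (g * g) * l * (g * g) by group, hg, mul_one, mul_one],
        hψ.map_mul _ (hswapC k hkd k1 k2) _ (hgC _ hlg), hinv _ hlg]

/-- The centralizer of a pair has a sign. -/
theorem pair_signed {y : G} (hy : y ∈ perp D d) : Signed D (Subgroup.centralizer ({d, y} : Set G)) := by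
  classical
  have hD := K.trans
  obtain ⟨C, hC⟩ : ∃ C, C = Subgroup.centralizer ({d, y} : Set G) := ⟨_, rfl⟩
  rw [← hC]
  have hCm : ∀ g, g ∈ C ↔ Commute g d ∧ Commute g y := fun g => by
    rw [hC, Subgroup.mem_centralizer_iff]
    refine ⟨fun h => ⟨(h d (by simp)).symm, (h y (by simp)).symm⟩, ?_⟩
    rintro ⟨a, b⟩ _ (rfl | rfl)
    exacts [a.eq.symm, b.eq.symm]
  have hdC : d ∈ C := (hCm d).2 ⟨Commute.refl _, hy.2.2⟩
  have hact : ∀ g : ↥C, ∀ z w, Triad D d y z → w ∈ oth D d y z →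
      Triad D d y ((g : G) * z * (g : G)⁻¹) ∧ (g : G) * w * (g : G)⁻¹ ∈ oth D d y ((g : G) * z * (g : G)⁻¹) := by
    intro g z w hz hw
    obtain ⟨a, b⟩ := (hCm g).1 g.2
    have h1 := conj_perp K.fis (g : G) y hz.yz
    have h2 := oth_conj hD (g : G) hw
    rw [b.eq, mul_inv_cancel_right] at h1
    rw [a.eq, mul_inv_cancel_right, b.eq, mul_inv_cancel_right] at h2
    exact ⟨⟨hy, K.conj_mem a hz.dz, h1⟩, h2⟩
  let Ω := {T : Set G // ∃ z w, Triad D d y z ∧ w ∈ oth D d y z ∧ T = {z, w}}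
  letI : MulAction ↥C Ω :=
    { smul := fun g T => ⟨(fun a => (g : G) * a * (g : G)⁻¹) '' T.1, by
        obtain ⟨z, w, hz, hw, e⟩ := T.2
        exact ⟨_, _, (hact g z w hz hw).1, (hact g z w hz hw).2, by rw [e, Set.image_insert_eq, Set.image_singleton]⟩⟩
      one_smul := fun T => Subtype.ext (show (fun a => (1 : G) * a * (1 : G)⁻¹) '' T.1 = T.1 by simp)
      mul_smul := fun g h T => Subtype.ext (show (fun a => (g : G) * h * a * ((g : G) * h)⁻¹) '' T.1 =
          (fun a => (g : G) * a * (g : G)⁻¹) '' ((fun a => (h : G) * a * (h : G)⁻¹) '' T.1) by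
        rw [Set.image_image]; exact Set.image_congr fun a _ => by group) }
  have hfix : ∀ T : Ω, (⟨d, hdC⟩ : ↥C) • T = T := fun T => by
    obtain ⟨z, w, hz, hw, e⟩ := T.2
    refine Subtype.ext ?_
    show (fun a => d * a * d⁻¹) '' T.1 = T.1
    rw [e, Set.image_insert_eq, Set.image_singleton, hz.dz.2.2.eq, mul_inv_cancel_right, hw.1.2.2.eq,
      mul_inv_cancel_right]
  have hcard : Nat.card Ω = 1216215 := by
    have hP : Nat.card (Σ z : ↥{z | Triad D d y z}, ↥(oth D d y (z : G))) = 3510 * 693 := by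
      haveI := Fintype.ofFinite ↥{z | Triad D d y z}
      rw [Nat.card_sigma, Finset.sum_const_nat (m := 693) fun z _ => K.card_oth z.2, Finset.card_univ,
        ← Nat.card_eq_fintype_card, K.card_others hy]
    obtain ⟨f, hf⟩ : ∃ f : (Σ z : ↥{z | Triad D d y z}, ↥(oth D d y (z : G))) → Ω,
        ∀ p, (f p).1 = {(p.1 : G), (p.2 : G)} :=
      ⟨fun p => ⟨_, p.1, p.2, p.1.2, p.2.2, rfl⟩, fun _ => rfl⟩
    haveI := Fintype.ofFinite Ω
    rw [← Nat.card_congr (Equiv.sigmaFiberEquiv f), Nat.card_sigma,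
      Finset.sum_const_nat (m := 2) fun T _ => ?_, Finset.card_univ, ← Nat.card_eq_fintype_card] at hP
    · omega
    obtain ⟨z, w, hz, hw, e⟩ := T.2
    have hwT : Triad D d y w := ⟨hy, hw.1, hw.2.1⟩
    have hzw : z ∈ oth D d y w := ⟨hz.dz, hz.yz, hz.dz.1, hw.2.2.2.1.symm, hw.2.2.2.2.symm⟩
    rw [Nat.card_eq_two_iff]
    refine ⟨⟨⟨⟨z, hz⟩, ⟨w, hw⟩⟩, Subtype.ext ((hf _).trans e.symm)⟩,
      ⟨⟨⟨w, hwT⟩, ⟨z, hzw⟩⟩, Subtype.ext ((hf _).trans ((Set.pair_comm w z).trans e.symm))⟩, ?_, ?_⟩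
    · intro h'
      exact hw.2.2.2.1 (congrArg (fun q => ((q.1.1 : ↥{z | Triad D d y z}) : G)) h').symm
    · refine Set.eq_univ_of_forall fun q => ?_
      obtain ⟨⟨⟨z', hz'⟩, ⟨w', hw'⟩⟩, hq⟩ := q
      have hs : ({z', w'} : Set G) = {z, w} := by rw [← e, ← hq, hf]
      rcases Set.pair_eq_pair_iff.1 hs with ⟨rfl, rfl⟩ | ⟨rfl, rfl⟩
      exacts [Or.inl rfl, Or.inr rfl]
  obtain ⟨χ, hχ⟩ := exists_sign_of_odd (H := ↥C) (Ω := Ω) (d := ⟨d, hdC⟩) (Subtype.ext (mul_self hD K.mem))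
    (by rw [Nat.card_congr (Equiv.subtypeUnivEquiv hfix), hcard]; exact ⟨608107, rfl⟩)
    fun T _ => by
      obtain ⟨z, w, hz, hw, e⟩ := T.2
      obtain ⟨F, hFd, hFm⟩ := K.edge_sign hz hw
      have hst : ∀ k : ↥(MulAction.stabilizer (↥C) T), Commute ((k : ↥C) : G) d ∧ Commute ((k : ↥C) : G) y ∧
          (fun a => ((k : ↥C) : G) * a * ((k : ↥C) : G)⁻¹) '' {z, w} = {z, w} := fun k => by
        obtain ⟨a, b⟩ := (hCm _).1 (k : ↥C).2
        refine ⟨a, b, ?_⟩
        have := congrArg Subtype.val (MulAction.mem_stabilizer_iff.1 k.2)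
        rw [← e]
        exact this
      refine ⟨MonoidHom.mk' (fun k => F ((k : ↥C) : G)) fun k l => hFm _ _ (hst k) (hst l), fun g h => ?_⟩
      show F ((g : G)⁻¹ * d * (g : G)) = -1
      rw [mul_assoc, ← ((hCm g).1 g.2).1.eq, inv_mul_cancel_left, hFd]
  obtain ⟨F, hFm, hFd⟩ := to_sign χ d hdC hχ
  refine ⟨F, hFm, fun x hx hxC => ?_⟩
  obtain ⟨a, b⟩ := (hCm x).1 hxC
  have hsub : ∀ z, Triad D d y z → Subgroup.centralizer ({d, y, z} : Set G) ≤ C := fun z _ => by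
    rw [hC]; exact Subgroup.centralizer_le (Set.insert_subset_insert (by simp))
  have key : ∀ z, Triad D d y z → IsSign D (Subgroup.centralizer ({d, y, z} : Set G)) F := fun z hz =>
    (K.tri_signed K.mem hz).2 F (fun u hu v hv => hFm u (hsub z hz hu) v (hsub z hz hv)) hFd
  by_cases h1 : x = d
  · rw [h1, hFd]
  have hxd : x ∈ perp D d := ⟨hx, h1, a.symm⟩
  by_cases h2 : x = y
  · haveI : Nonempty {z | Triad D d y z} := Nat.card_pos_iff.1 (by rw [K.card_others hy]; norm_num) |>.1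
    obtain ⟨z, hz⟩ := (Classical.arbitrary {z | Triad D d y z})
    refine (key z hz).member x hx ?_
    rw [h2, Subgroup.mem_centralizer_iff]
    rintro _ (rfl | rfl | rfl)
    exacts [hy.2.2.eq, rfl, hz.yz.2.2.symm.eq]
  · refine (key x ⟨hy, hxd, hx, h2, b.symm⟩).member x hx ?_
    rw [Subgroup.mem_centralizer_iff]
    rintro _ (rfl | rfl | rfl)
    exacts [a.symm.eq, b.symm.eq, rfl]

/-- The centralizer of every member has a sign. -/
theorem single_signed {e : G} (he : e ∈ D) : Signed D (Subgroup.centralizer ({e} : Set G)) := by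
  classical
  have hD := K.trans
  suffices h : Signed D (Subgroup.centralizer ({d} : Set G)) by
    obtain ⟨g, rfl⟩ := hD.trans d K.mem e he
    have := h.conj hD g
    rwa [centralizer_map, Set.image_singleton] at this
  obtain ⟨C, hC⟩ : ∃ C, C = Subgroup.centralizer ({d} : Set G) := ⟨_, rfl⟩
  rw [← hC]
  have hCm : ∀ g, g ∈ C ↔ Commute g d := fun g => by
    rw [hC]; exact Subgroup.mem_centralizer_singleton_iff
  have hdC : d ∈ C := (hCm d).2 (Commute.refl _)
  letI : MulAction ↥C ↥(perp D d) :=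
    { smul := fun g y => ⟨(g : G) * y * (g : G)⁻¹, K.conj_mem ((hCm g).1 g.2) y.2⟩
      one_smul := fun y => Subtype.ext (show (1 : G) * y * (1 : G)⁻¹ = y by simp)
      mul_smul := fun g h y => Subtype.ext (show (g : G) * h * y * ((g : G) * h)⁻¹ =
        g * (h * y * (h : G)⁻¹) * (g : G)⁻¹ by group) }
  have hfix : ∀ y : ↥(perp D d), (⟨d, hdC⟩ : ↥C) • y = y := fun y =>
    Subtype.ext (show d * (y : G) * d⁻¹ = y by rw [y.2.2.2.eq, mul_inv_cancel_right])
  obtain ⟨χ, hχ⟩ := exists_sign_of_odd (H := ↥C) (Ω := ↥(perp D d)) (d := ⟨d, hdC⟩)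
    (Subtype.ext (mul_self hD K.mem))
    (by rw [Nat.card_congr (Equiv.subtypeUnivEquiv hfix), K.params.val d K.mem]; exact ⟨15835, rfl⟩)
    fun y _ => by
      obtain ⟨F, hF⟩ := K.pair_signed y.2
      have hst : ∀ k : ↥(MulAction.stabilizer (↥C) y),
          ((k : ↥C) : G) ∈ Subgroup.centralizer ({d, (y : G)} : Set G) := fun k => by
        have hk : ((k : ↥C) : G) * (y : G) * ((k : ↥C) : G)⁻¹ = y :=
          congrArg Subtype.val (MulAction.mem_stabilizer_iff.1 k.2)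
        rw [Subgroup.mem_centralizer_iff]
        rintro _ (rfl | rfl)
        exacts [((hCm _).1 (k : ↥C).2).eq.symm, (mul_inv_eq_iff_eq_mul.1 hk).symm]
      refine ⟨MonoidHom.mk' (fun k => F ((k : ↥C) : G)) fun k l => hF.map_mul _ (hst k) _ (hst l), fun g h => ?_⟩
      show F ((g : G)⁻¹ * d * (g : G)) = -1
      rw [mul_assoc, ← ((hCm g).1 g.2).eq, inv_mul_cancel_left]
      refine hF.member d K.mem ?_
      rw [Subgroup.mem_centralizer_iff]
      rintro _ (rfl | rfl)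
      exacts [rfl, y.2.2.2.symm.eq]
  obtain ⟨F, hFm, hFd⟩ := to_sign χ d hdC hχ
  refine ⟨F, hFm, fun x hx hxC => ?_⟩
  by_cases h1 : x = d
  · rw [h1, hFd]
  have hxd : x ∈ perp D d := ⟨hx, h1, ((hCm x).1 hxC).symm⟩
  haveI : Nonempty {z | Triad D d x z} := Nat.card_pos_iff.1 (by rw [K.card_others hxd]; norm_num) |>.1
  obtain ⟨z, hz⟩ := (Classical.arbitrary {z | Triad D d x z})
  have hle : Subgroup.centralizer ({d, x, z} : Set G) ≤ C := by
    rw [hC]; exact Subgroup.centralizer_le (by simp)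
  refine ((K.tri_signed K.mem hz).2 F (fun u hu v hv => hFm u (hle hu) v (hle hv)) hFd).member x hx ?_
  rw [Subgroup.mem_centralizer_iff]
  rintro _ (rfl | rfl | rfl)
  exacts [hxd.2.2.eq, rfl, hz.yz.2.2.symm.eq]

end M24Data

end Cfsg.Lib.Fischer.Relations
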