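import Cfsg.Agent.Lib.Fischer.Relations.TwentyFour.BasePlane
import Cfsg.Agent.Lib.Fischer.Relations.TwentyFour.PairSign

/-!
# The sign of a group of type M(24)

A member `d` lies in an odd number of fixed points of the action on pairs of a commuting set of 24 members and
eight of them that are all those commuting with some member. The stabilizer of such a pair has a sign, so the
transfer gives a sign of the group, and its layer has index two.
-/

set_option autoImplicit false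
set_option linter.unusedSectionVars false

namespace Cfsg.Lib.Fischer.Relations

open Cfsg Cfsg.Lib.Fischer

universe u

variable {G : Type u} [Group G] [Finite G] {D : Set G}

namespace M24Data

variable {d : G} (K : M24Data D d)
include K

/-- The members around a commuting set of 24 members. -/
theorem base : Base D 24 8 24288 := by
  have hD := K.trans
  obtain ⟨F, _, _, hF, e, f, ⟨C⟩⟩ := K.exists_coord
  have h22 : Base (image (perp (image (perp D d)) e)) 22 6 2464 :=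
    Base.lift (by norm_num) (fun a ha => by
      obtain ⟨g, rfl⟩ := C.co.trans.trans _ C.co.mem a ha
      exact C.co.base_perp.conj C.co.trans C.co.mem g) (by norm_num : 2464 * (5 + 1) = (21 + 1) * 672)
  have h23 : Base (image (perp D d)) 23 7 8096 :=
    Base.lift (by norm_num) (fun a ha => by
      obtain ⟨g, rfl⟩ := C.data.trans.trans _ C.data.mem a ha
      exact (h22.of_image C.data.trans C.data.mem C.data.nc).conj C.data.trans C.data.mem g)
      (by norm_num : 8096 * (6 + 1) = (22 + 1) * 2464)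
  exact Base.lift (by norm_num) (fun a ha => by
      obtain ⟨g, rfl⟩ := hD.trans _ K.mem a ha
      exact (h23.of_image hD K.mem K.nc).conj hD K.mem g) (by norm_num : 24288 * (7 + 1) = (23 + 1) * 8096)

/-- Some commuting set of 24 members contains `d`. -/
theorem exists_base : ∃ E : Set G, E ⊆ D ∧ (∀ a ∈ E, ∀ b ∈ E, Commute a b) ∧ E.ncard = 24 ∧ d ∈ E := by
  have hD := K.trans
  obtain ⟨T, hT⟩ : ∃ T, T = {n : ℕ | ∃ E : Set G, E ⊆ D ∧ E.Finite ∧ (∀ a ∈ E, ∀ b ∈ E, Commute a b) ∧ E.ncard = n} :=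
    ⟨_, rfl⟩
  have h24 : 24 ∈ T := by
    have hw : sSup T = 24 := hT ▸ K.main.2.2
    rw [← hw]
    refine Nat.sSup_mem ⟨0, hT ▸ ⟨∅, by simp⟩⟩ ⟨Nat.card G, ?_⟩
    intro n hn
    obtain ⟨E, -, -, -, rfl⟩ := (hT ▸ hn : n ∈ {n : ℕ | _})
    exact Set.ncard_le_card E
  obtain ⟨E, hE, -, hc, hn⟩ := (hT ▸ h24 : 24 ∈ {n : ℕ | _})
  obtain ⟨e, he⟩ := Set.nonempty_of_ncard_ne_zero (s := E) (by omega)
  obtain ⟨g, hg⟩ := hD.trans e (hE he) d K.mem
  refine ⟨(fun a => g * a * g⁻¹) '' E, ?_, ?_, ?_, ⟨e, he, hg⟩⟩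
  · rintro _ ⟨a, ha, rfl⟩
    exact hD.conj g a (hE ha)
  · rintro _ ⟨a, ha, rfl⟩ _ ⟨b, hb, rfl⟩
    exact (Commute.conj_iff g).2 (hc a ha b hb)
  · rw [Set.ncard_image_of_injective _ fun a b h => conj_injective (x := g) h, hn]

/-- A member stabilizing a commuting set of 24 members lies in it. -/
theorem mem_of_stable {E : Set G} (hE : E ⊆ D) (hc : ∀ a ∈ E, ∀ b ∈ E, Commute a b) (hn : E.ncard = 24) {x : G}
    (hx : x ∈ D) (hfix : ∀ a ∈ E, x * a * x⁻¹ ∈ E) : x ∈ E := by
  have hD := K.trans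
  have hcomm : ∀ a ∈ E, Commute a x := by
    intro a ha
    by_contra hn
    have hb : a * x * a = x * a * x := by simpa [cj_def] using braid hD (hE ha) hx hn
    have h1 : Commute a (x * a * x⁻¹) := hc a ha _ (hfix a ha)
    rw [inv_eq hD hx, ← hb] at h1
    refine hn ((Commute.conj_iff a).1 ?_)
    rw [show a * a * a⁻¹ = a by group, inv_eq hD (hE ha)]
    exact h1
  by_contra hxE
  have h := K.base.le (insert x E) (Set.insert_subset hx hE) (by
    rintro a (rfl | ha) b (rfl | hb)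
    exacts [Commute.refl _, (hcomm b hb).symm, hcomm a ha, hc a ha b hb])
  rw [Set.ncard_insert_of_notMem hxE, hn] at h
  omega

/-- The octads of a commuting set of 24 members are odd in number. -/
theorem card_octads {E : Set G} (hE : E ⊆ D) (hc : ∀ a ∈ E, ∀ b ∈ E, Commute a b) (hn : E.ncard = 24) :
    Nat.card {A : Set G // A.ncard = 8 ∧ ∃ x ∈ D, att E x = A} = 759 := by
  classical
  obtain ⟨X, hX⟩ : ∃ X, X = {x | x ∈ D ∧ (att E x).ncard = 8} := ⟨_, rfl⟩
  have hXc : Nat.card ↥X = 24288 := by rw [Nat.card_coe_set_eq, hX]; exact K.base.count E hE hc hn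
  have hX' : ∀ x ∈ X, x ∈ D ∧ (att E x).ncard = 8 := fun x hx => by rw [hX] at hx; exact hx
  obtain ⟨π, hπ⟩ : ∃ π : ↥X → {A : Set G // A.ncard = 8 ∧ ∃ x ∈ D, att E x = A}, ∀ x, (π x).1 = att E x :=
    ⟨fun x => ⟨_, (hX' x x.2).2, x, (hX' x x.2).1, rfl⟩, fun _ => rfl⟩
  have hfib : ∀ A, Nat.card {x : ↥X // π x = A} = 32 := by
    rintro ⟨A, hA, x, hx, rfl⟩
    refine Eq.trans ?_ ((Nat.card_coe_set_eq _).trans (K.base.fibre_card E hE hc hn x hx hA))
    exact Nat.card_congr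
      ⟨fun y => ⟨y.1, (hX' y.1 y.1.2).1, (hπ y.1).symm.trans (congrArg Subtype.val y.2)⟩,
        fun y => ⟨⟨y.1, by rw [hX]; exact ⟨y.2.1, (congrArg Set.ncard y.2.2).trans hA⟩⟩, Subtype.ext ((hπ _).trans y.2.2)⟩,
        fun y => rfl, fun y => rfl⟩
  haveI := Fintype.ofFinite {A : Set G // A.ncard = 8 ∧ ∃ x ∈ D, att E x = A}
  rw [← Nat.card_congr (Equiv.sigmaFiberEquiv π), Nat.card_sigma, Finset.sum_const_nat fun A _ => hfib A,
    Finset.card_univ, ← Nat.card_eq_fintype_card] at hXc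
  omega

/-- A sign of the elements stabilizing a commuting set of 24 members and eight of them. -/
theorem stab_sign {E A : Set G} (hE : E ⊆ D) (hc : ∀ a ∈ E, ∀ b ∈ E, Commute a b) (hn : E.ncard = 24)
    (hA : A.ncard = 8) {x : G} (hx : x ∈ D) (hxA : att E x = A) :
    ∃ φ : G → ℤˣ, (∀ y ∈ E, φ y = -1) ∧
      ∀ g h : G, ((fun a => g * a * g⁻¹) '' E = E ∧ (fun a => g * a * g⁻¹) '' A = A) →
        ((fun a => h * a * h⁻¹) '' E = E ∧ (fun a => h * a * h⁻¹) '' A = A) → φ (g * h) = φ g * φ h := by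
  classical
  have hD := K.trans
  subst hxA
  obtain ⟨W, hW⟩ : ∃ W, W = Subgroup.closure E := ⟨_, rfl⟩
  have hWc : ∀ {w e : G}, w ∈ W → e ∈ E → Commute w e := fun {w e} hw he => commute_of_closure hc (hW ▸ hw) he
  obtain ⟨e, he, hex⟩ : (att E x).Nonempty := Set.nonempty_of_ncard_ne_zero (by omega)
  have hxp : x ∈ perp D e := by
    refine ⟨hx, fun h => ?_, hex⟩
    have : att E x = E := Set.Subset.antisymm (fun a ha => ha.1) fun a ha => ⟨ha, h.symm ▸ hc a ha e he⟩
    rw [this] at hA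
    omega
  obtain ⟨p, hp⟩ := K.single_signed (hE he)
  obtain ⟨χ, hχ⟩ := K.single_signed hx
  have hpW : IsSign D W p := hp.mono fun w hw => Subgroup.mem_centralizer_singleton_iff.2 (hWc hw he).eq
  have hEW : E ⊆ W := hW ▸ Subgroup.subset_closure
  have hmemx : ∀ {u : G}, Commute u x → u ∈ Subgroup.centralizer ({x} : Set G) := fun {u} h =>
    Subgroup.mem_centralizer_singleton_iff.2 h.eq
  have hagree : ∀ u ∈ W, Commute u x → p u = χ u := by
    intro u hu hux
    refine hp.eq_on hχ (S := {y | y ∈ D ∧ ∀ a ∈ ({e, x} : Set G), Commute a y}) (fun y hy => hy.1)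
      (fun y hy => Subgroup.mem_centralizer_singleton_iff.2 (hy.2 e (by simp)).eq.symm)
      (fun y hy => hmemx (hy.2 x (by simp)).symm) (K.pair_gen (hE he) hxp ?_)
    rw [Subgroup.mem_centralizer_iff]
    rintro _ (rfl | rfl)
    exacts [(hWc hu he).eq.symm, hux.eq.symm]
  obtain ⟨St, hSt⟩ : ∃ St : G → Prop, ∀ g, St g ↔
      ((fun a => g * a * g⁻¹) '' E = E ∧ (fun a => g * a * g⁻¹) '' att E x = att E x) := ⟨_, fun _ => Iff.rfl⟩
  have hmove : ∀ g, St g → ∃ w ∈ W, Commute (w⁻¹ * g) x := by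
    intro g hg
    obtain ⟨h1, h2⟩ := (hSt g).1 hg
    have hatt : att E (g * x * g⁻¹) = att E x := by
      refine Eq.trans ?_ h2
      ext a
      constructor
      · rintro ⟨ha, hax⟩
        rw [← h1] at ha
        obtain ⟨b, hb, rfl⟩ := ha
        exact ⟨b, ⟨hb, (Commute.conj_iff g).1 hax⟩, rfl⟩
      · rintro ⟨b, ⟨hb, hbx⟩, rfl⟩
        exact ⟨h1.subset ⟨b, hb, rfl⟩, (Commute.conj_iff g).2 hbx⟩
    obtain ⟨w, hw, hwe⟩ := K.base.fibre_orbit E hE hc hn x hx hA _ (hD.conj g x hx) hatt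
    refine ⟨w, hW ▸ hw, mul_inv_eq_iff_eq_mul.1 ?_⟩
    rw [show w⁻¹ * g * x * (w⁻¹ * g)⁻¹ = w⁻¹ * (g * x * g⁻¹) * w by group, ← hwe]
    group
  choose! w hwW hwx using hmove
  obtain ⟨φ, hφ⟩ : ∃ φ : G → ℤˣ, ∀ g, φ g = p (w g) * χ ((w g)⁻¹ * g) := ⟨_, fun _ => rfl⟩
  have hval : ∀ g, St g → ∀ h ∈ W, Commute (h⁻¹ * g) x → φ g = p h * χ (h⁻¹ * g) := by
    intro g hg h hh hhx
    obtain ⟨u, hu⟩ : ∃ u, u = h⁻¹ * w g := ⟨_, rfl⟩
    have huW : u ∈ W := hu ▸ mul_mem (inv_mem hh) (hwW g hg)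
    have hux : Commute u x := by
      have : u = h⁻¹ * g * ((w g)⁻¹ * g)⁻¹ := by rw [hu]; group
      rw [this]
      exact hhx.mul_left (hwx g hg).inv_left
    have e1 : p (w g) = p h * p u := by rw [← hpW.map_mul h hh u huW, hu, mul_inv_cancel_left]
    have e2 : χ (h⁻¹ * g) = χ u * χ ((w g)⁻¹ * g) := by
      rw [← hχ.map_mul u (hmemx hux) _ (hmemx (hwx g hg)), hu]
      congr 1
      group
    rw [hφ, e1, e2, ← hagree u huW hux, mul_assoc]
  refine ⟨φ, fun y hy => ?_, fun g h hg hh => ?_⟩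
  · have hy' : St y := by
      refine (hSt y).2 ⟨?_, ?_⟩
      · exact (Set.image_congr fun a ha => by rw [(hc y hy a ha).eq, mul_inv_cancel_right]).trans (Set.image_id' E)
      · exact (Set.image_congr fun a ha => by rw [(hc y hy a ha.1).eq, mul_inv_cancel_right]).trans (Set.image_id' _)
    rw [hval y hy' y (hEW hy) (by rw [inv_mul_cancel]; exact Commute.one_left x), inv_mul_cancel, hχ.map_one,
      mul_one, hpW.member y (hE hy) (hEW hy)]
  · have hg' := (hSt g).2 hg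
    have hh' := (hSt h).2 hh
    obtain ⟨k, hk⟩ : ∃ k, k = (w g)⁻¹ * g := ⟨_, rfl⟩
    have hkE : ∀ a ∈ E, k * a * k⁻¹ ∈ E := fun a ha => by
      have h1 : g * a * g⁻¹ ∈ E := hg.1.subset ⟨a, ha, rfl⟩
      rw [hk, show (w g)⁻¹ * g * a * ((w g)⁻¹ * g)⁻¹ = (w g)⁻¹ * (g * a * g⁻¹) * w g by group,
        ((hWc (hwW g hg') h1).inv_left).eq, inv_mul_cancel_right]
      exact h1
    have hkW : ∀ v ∈ W, k * v * k⁻¹ ∈ W := fun v hv => by
      have hle : W.map (MulAut.conj k).toMonoidHom ≤ W := by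
        rw [hW, MonoidHom.map_closure, Subgroup.closure_le]
        rintro _ ⟨a, ha, rfl⟩
        exact Subgroup.subset_closure (hkE a ha)
      exact hle ⟨v, hv, rfl⟩
    have hpk : ∀ v ∈ W, p (k * v * k⁻¹) = p v := by
      intro v hv
      have hconj : IsSign D W fun u => p (k * u * k⁻¹) := by
        refine ⟨fun a ha b hb => ?_, fun y hy hyW => hpW.member _ (hD.conj k y hy) (hkW y hyW)⟩
        show p (k * (a * b) * k⁻¹) = _
        rw [← hpW.map_mul _ (hkW a ha) _ (hkW b hb)]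
        congr 1
        group
      exact hconj.eq_on hpW (S := E) hE hEW hEW (hW ▸ hv)
    have hgh : St (g * h) := by
      have e : ∀ B : Set G, (fun a => g * h * a * (g * h)⁻¹) '' B =
          (fun a => g * a * g⁻¹) '' ((fun a => h * a * h⁻¹) '' B) := fun B => by
        rw [Set.image_image]; exact Set.image_congr fun a _ => by group
      refine (hSt _).2 ⟨?_, ?_⟩ <;> rw [e]
      · rw [hh.1, hg.1]
      · rw [hh.2, hg.2]
    have hv : k * w h * k⁻¹ ∈ W := hkW _ (hwW h hh')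
    have e : (w g * (k * w h * k⁻¹))⁻¹ * (g * h) = k * ((w h)⁻¹ * h) := by rw [hk]; group
    have hkx : Commute k x := hk ▸ hwx g hg'
    rw [hval (g * h) hgh _ (mul_mem (hwW g hg') hv) (by rw [e]; exact hkx.mul_left (hwx h hh')), e,
      hpW.map_mul _ (hwW g hg') _ hv, hpk _ (hwW h hh'),
      hχ.map_mul k (hmemx hkx) _ (hmemx (hwx h hh')), hφ g, hφ h, ← hk, mul_mul_mul_comm]

/-- The group has a sign. -/
theorem exists_sign : ∃ χ : G →* ℤˣ, χ d = -1 := by
  classical
  have hD := K.trans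
  obtain ⟨E₀, hE₀, hc₀, hn₀, hd₀⟩ := K.exists_base
  let Ω := {q : Set G × Set G // q.1 ⊆ D ∧ (∀ a ∈ q.1, ∀ b ∈ q.1, Commute a b) ∧ q.1.ncard = 24 ∧
    q.2.ncard = 8 ∧ ∃ x ∈ D, att q.1 x = q.2}
  letI : MulAction G Ω :=
    { smul := fun g q => ⟨((fun a => g * a * g⁻¹) '' q.1.1, (fun a => g * a * g⁻¹) '' q.1.2), by
        obtain ⟨h1, h2, h3, h4, x, hx, h5⟩ := q.2
        have hinj : Function.Injective fun a => g * a * g⁻¹ := fun a b h => conj_injective (x := g) h
        refine ⟨?_, ?_, (Set.ncard_image_of_injective _ hinj).trans h3, (Set.ncard_image_of_injective _ hinj).trans h4,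
          g * x * g⁻¹, hD.conj g x hx, ?_⟩
        · rintro _ ⟨a, ha, rfl⟩
          exact hD.conj g a (h1 ha)
        · rintro _ ⟨a, ha, rfl⟩ _ ⟨b, hb, rfl⟩
          exact (Commute.conj_iff g).2 (h2 a ha b hb)
        · rw [← h5]
          ext a
          constructor
          · rintro ⟨⟨b, hb, rfl⟩, hbx⟩
            exact ⟨b, ⟨hb, (Commute.conj_iff g).1 hbx⟩, rfl⟩
          · rintro ⟨b, ⟨hb, hbx⟩, rfl⟩
            exact ⟨⟨b, hb, rfl⟩, (Commute.conj_iff g).2 hbx⟩⟩
      one_smul := fun q => Subtype.ext (show ((fun a => (1 : G) * a * 1⁻¹) '' q.1.1,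
        (fun a => (1 : G) * a * 1⁻¹) '' q.1.2) = q.1 by simp)
      mul_smul := fun g h q => Subtype.ext (show ((fun a => g * h * a * (g * h)⁻¹) '' q.1.1,
          (fun a => g * h * a * (g * h)⁻¹) '' q.1.2) = ((fun a => g * a * g⁻¹) '' ((fun a => h * a * h⁻¹) '' q.1.1),
          (fun a => g * a * g⁻¹) '' ((fun a => h * a * h⁻¹) '' q.1.2)) by
        rw [Set.image_image, Set.image_image]
        exact Prod.ext (Set.image_congr fun a _ => by group) (Set.image_congr fun a _ => by group)) }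
  have hsmul : ∀ (g : G) (q : Ω), g • q = q ↔
      ((fun a => g * a * g⁻¹) '' q.1.1 = q.1.1 ∧ (fun a => g * a * g⁻¹) '' q.1.2 = q.1.2) := fun g q =>
    Subtype.ext_iff.trans Prod.ext_iff
  obtain ⟨W, hW⟩ : ∃ W, W = Subgroup.closure E₀ := ⟨_, rfl⟩
  have hWc : ∀ {v a : G}, v ∈ W → a ∈ E₀ → Commute v a := fun {v a} hv ha => commute_of_closure hc₀ (hW ▸ hv) ha
  haveI : Fact (Nat.Prime 2) := ⟨Nat.prime_two⟩
  have hWsq : ∀ v ∈ W, v * v = 1 := by
    intro v hv
    have hcl : v ∈ Subgroup.closure E₀ := hW ▸ hv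
    induction hcl using Subgroup.closure_induction with
    | mem y hy => exact mul_self hD (hE₀ hy)
    | one => exact one_mul 1
    | mul a b ha hb iha ihb =>
      have hab : Commute b a := by
        have hle : Subgroup.closure E₀ ≤ Subgroup.centralizer ({b} : Set G) := (Subgroup.closure_le _).2 fun y hy =>
          Subgroup.mem_centralizer_singleton_iff.2 (commute_of_closure hc₀ hb hy).eq.symm
        exact (Subgroup.mem_centralizer_singleton_iff.1 (hle ha) : a * b = b * a).symm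
      calc a * b * (a * b) = a * (b * a) * b := by group
        _ = a * a * (b * b) := by rw [hab.eq]; group
        _ = 1 := by rw [iha (hW ▸ ha), ihb (hW ▸ hb), one_mul]
    | inv a ha iha => rw [← mul_inv_rev, iha (hW ▸ ha), inv_one]
  have hWp : IsPGroup 2 ↥W := fun v => ⟨1, Subtype.ext (by
    show (v : G) ^ (2 ^ 1) = 1
    rw [pow_one, pow_two]; exact hWsq v v.2)⟩
  have hdp : IsPGroup 2 ↥(Subgroup.zpowers d) := by
    refine IsPGroup.of_card (n := 1) ?_
    rw [Nat.card_zpowers, hD.set.1 d K.mem, pow_one]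
  have h1 := hdp.card_modEq_card_fixedPoints Ω
  have h2 := hWp.card_modEq_card_fixedPoints Ω
  have hfd : Nat.card (MulAction.fixedPoints (↥(Subgroup.zpowers d)) Ω) = Nat.card {q : Ω // d • q = q} := by
    refine Nat.card_congr (Equiv.subtypeEquivRight fun q => ⟨fun h => h ⟨d, Subgroup.mem_zpowers d⟩, fun h => ?_⟩)
    rintro ⟨z, hz⟩
    exact (Subgroup.zpowers_le.2 (MulAction.mem_stabilizer_iff.2 h) hz : z ∈ MulAction.stabilizer G q)
  have hfW : Nat.card (MulAction.fixedPoints (↥W) Ω) = 759 := by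
    rw [← K.card_octads hE₀ hc₀ hn₀]
    have hE : ∀ q ∈ MulAction.fixedPoints (↥W) Ω, q.1.1 = E₀ := by
      intro q hq
      obtain ⟨g1, g2, g3, -, -⟩ := q.2
      refine (Set.eq_of_subset_of_ncard_le (fun a ha => K.mem_of_stable g1 g2 g3 (hE₀ ha) fun b hb => ?_)
        (by rw [hn₀, g3])).symm
      exact (((hsmul a q).1 (hq ⟨a, hW ▸ Subgroup.subset_closure ha⟩)).1).subset ⟨b, hb, rfl⟩
    refine Nat.card_congr
      { toFun := fun q => ⟨q.1.1.2, q.1.2.2.2.2.1, by
          obtain ⟨x, hx, h⟩ := q.1.2.2.2.2.2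
          exact ⟨x, hx, by rw [← hE q.1 q.2, h]⟩⟩
        invFun := fun A => ⟨⟨(E₀, A.1), hE₀, hc₀, hn₀, A.2.1, A.2.2⟩, ?_⟩
        left_inv := fun q => Subtype.ext (Subtype.ext (Prod.ext (hE q.1 q.2).symm rfl))
        right_inv := fun A => rfl }
    rintro ⟨v, hv⟩
    refine (hsmul v _).2 ⟨?_, ?_⟩
    · exact (Set.image_congr fun a ha => by rw [(hWc hv ha).eq, mul_inv_cancel_right]).trans (Set.image_id' E₀)
    · refine (Set.image_congr fun a ha => ?_).trans (Set.image_id' _)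
      obtain ⟨x, -, hx⟩ := A.2.2
      have ha' : a ∈ E₀ := (hx.symm ▸ ha : a ∈ att E₀ x).1
      rw [(hWc hv ha').eq, mul_inv_cancel_right]
  have hodd : Odd (Nat.card {q : Ω // d • q = q}) := by
    rw [← hfd, Nat.odd_iff]
    have := h1.symm.trans h2
    rw [Nat.ModEq, hfW] at this
    omega
  refine exists_sign_of_odd (mul_self hD K.mem) hodd fun q hq => ?_
  obtain ⟨g1, g2, g3, g4, x, hx, g5⟩ := q.2
  obtain ⟨φ, hφ1, hφ2⟩ := K.stab_sign g1 g2 g3 g4 hx g5
  have hst : ∀ k : ↥(MulAction.stabilizer G q), (fun a => (k : G) * a * (k : G)⁻¹) '' q.1.1 = q.1.1 ∧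
      (fun a => (k : G) * a * (k : G)⁻¹) '' q.1.2 = q.1.2 := fun k => (hsmul k q).1 k.2
  refine ⟨MonoidHom.mk' (fun k => φ (k : G)) fun k l => hφ2 k l (hst k) (hst l), fun g hg => ?_⟩
  refine hφ1 _ (K.mem_of_stable g1 g2 g3 ?_ fun a ha => (hst ⟨_, hg⟩).1.subset ⟨a, ha, rfl⟩)
  have := hD.conj g⁻¹ d K.mem
  rwa [inv_inv] at this

/-- The layer has index two. -/
theorem layer_index : (Cfsg.layer G).index = 2 := by
  have hD := K.trans
  have hprim := K.prim
  obtain ⟨a, ha, -⟩ := exists_bar (S := perp D d) K.imgTrans.ne.choose_spec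
  have hw : ∃ x ∈ D, ∃ y ∈ D, x ≠ y ∧ Commute x y := ⟨d, K.mem, a, ha.1, Ne.symm ha.2.1, ha.2.2⟩
  obtain ⟨h2, h3⟩ := core_le_center_of_primitive hD hprim hw
  obtain ⟨L, hLn, hL, hlay, -⟩ := exists_quasisimple hD hprim.2.1 h2 h3
  haveI := hLn
  have hle := index_le_two_of_connected hD hL (connected_of_primitive hD hprim hw)
  have heq := commutator_eq hD hL hle
  obtain ⟨χ, hχ⟩ := K.exists_sign
  have h0 : L.index ≠ 0 := Subgroup.index_ne_zero_of_finite
  have h1 : L.index ≠ 1 := fun h => by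
    have hdL : d ∈ commutator G := by rw [heq, Subgroup.index_eq_one.1 h]; exact Subgroup.mem_top d
    have := Abelianization.commutator_subset_ker χ hdL
    rw [MonoidHom.mem_ker, hχ] at this
    exact absurd this (by decide)
  rw [hlay]
  omega

end M24Data

end Cfsg.Lib.Fischer.Relations
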