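import Cfsg.Agent.Lib.Fischer.Relations.Centralizer.Sizes

/-!
# Members around a maximal commuting set

For a commuting set `E` of maximal size `w`, the members commuting with exactly `j` of its members are counted,
and those commuting with a given `j` of them form one orbit of 32 under the group generated by `E`. These
properties hold in a neighbourhood coordinatised by a unitary space and pass from all neighbourhoods to the class.
-/

set_option autoImplicit false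
set_option linter.unusedSectionVars false

namespace Cfsg.Lib.Fischer.Relations

open Module Cfsg Cfsg.Lib.Fischer Cfsg.Lib.Linear.Herm Cfsg.Agent.S1631
open Cfsg.Lib.Linear

variable {G : Type*} [Group G]

/-- The members of `E` commuting with `x`. -/
def att (E : Set G) (x : G) : Set G := {e | e ∈ E ∧ Commute e x}

/-- Counting around commuting sets of size `w` in `S`. -/
structure Base (S : Set G) (w j N : ℕ) : Prop where
  le : ∀ E, E ⊆ S → (∀ a ∈ E, ∀ b ∈ E, Commute a b) → E.ncard ≤ w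
  count : ∀ E, E ⊆ S → (∀ a ∈ E, ∀ b ∈ E, Commute a b) → E.ncard = w →
    {x | x ∈ S ∧ (att E x).ncard = j}.ncard = N
  fibre_card : ∀ E, E ⊆ S → (∀ a ∈ E, ∀ b ∈ E, Commute a b) → E.ncard = w →
    ∀ x ∈ S, (att E x).ncard = j → {y | y ∈ S ∧ att E y = att E x}.ncard = 32
  fibre_orbit : ∀ E, E ⊆ S → (∀ a ∈ E, ∀ b ∈ E, Commute a b) → E.ncard = w →
    ∀ x ∈ S, (att E x).ncard = j → ∀ y ∈ S, att E y = att E x → ∃ g ∈ Subgroup.closure E, g * x * g⁻¹ = y

/-- Elements generated by a commuting set centralize it. -/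
theorem commute_of_closure {E : Set G} (hc : ∀ a ∈ E, ∀ b ∈ E, Commute a b) {g e : G}
    (hg : g ∈ Subgroup.closure E) (he : e ∈ E) : Commute g e := by
  induction hg using Subgroup.closure_induction with
  | mem x hx => exact hc x hx e he
  | one => exact Commute.one_left e
  | mul x y _ _ hx hy => exact hx.mul_left hy
  | inv x _ hx => exact hx.inv_left

theorem att_conj {E : Set G} (hc : ∀ a ∈ E, ∀ b ∈ E, Commute a b) {g : G} (hg : g ∈ Subgroup.closure E) (x : G) :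
    att E (g * x * g⁻¹) = att E x := by
  ext e
  refine and_congr_right fun he => ?_
  conv_lhs => rw [show e = g * e * g⁻¹ by rw [(commute_of_closure hc hg he).eq, mul_inv_cancel_right]]
  exact Commute.conj_iff g

section Map

variable {G' : Type*} [Group G']

/-- The properties pull back along a homomorphism injective and reflecting commutation on `S`. -/
theorem Base.of_hom {H : Subgroup G} (f : ↥H →* G') {S : Set G} (hH : S ⊆ H)
    (hconj : ∀ g ∈ H, ∀ x ∈ S, g * x * g⁻¹ ∈ S) {S' : Set G'}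
    (himg : f '' {x | (x : G) ∈ S} = S') (hinj : Set.InjOn f {x | (x : G) ∈ S})
    (hc : ∀ x y : ↥H, (x : G) ∈ S → (y : G) ∈ S → Commute (f x) (f y) → Commute x y) {w j N : ℕ}
    (h : Base S' w j N) : Base S w j N := by
  obtain ⟨F, hF⟩ : ∃ F : Set G → Set G', ∀ A, F A = f '' {x | (x : G) ∈ A} := ⟨_, fun _ => rfl⟩
  have hsub : ∀ A ⊆ S, F A ⊆ S' := fun A hA => by
    rw [hF, ← himg]; exact Set.image_mono fun x hx => hA hx
  have hcard : ∀ A ⊆ S, (F A).ncard = A.ncard := fun A hA => by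
    rw [hF]
    refine (Set.InjOn.ncard_image (hinj.mono (show {x : ↥H | (x : G) ∈ A} ⊆ {x : ↥H | (x : G) ∈ S} from fun x hx => hA hx))).trans ?_
    exact Set.ncard_preimage_of_injective_subset_range Subtype.val_injective
      fun a ha => ⟨⟨a, hH (hA ha)⟩, rfl⟩
  have hmem : ∀ A ⊆ S, ∀ x : ↥H, (x : G) ∈ S → (f x ∈ F A ↔ (x : G) ∈ A) := fun A hA x hx => by
    rw [hF]
    exact ⟨fun ⟨y, hy, e⟩ => hinj (hA hy) hx e ▸ hy, fun h' => ⟨x, h', rfl⟩⟩
  have hcomm : ∀ x y : ↥H, (x : G) ∈ S → (y : G) ∈ S → (Commute (f x) (f y) ↔ Commute (x : G) y) := fun x y hx hy =>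
    ⟨fun h' => (hc x y hx hy h').map H.subtype, fun h' => Commute.map (show Commute x y from Subtype.ext h'.eq) f⟩
  have hatt : ∀ E ⊆ S, ∀ x : ↥H, (x : G) ∈ S → att (F E) (f x) = F (att E x) := fun E hE x hx => by
    ext z
    rw [hF, hF]
    constructor
    · rintro ⟨⟨y, hy, rfl⟩, hz⟩
      exact ⟨y, ⟨hy, (hcomm y x (hE hy) hx).1 hz⟩, rfl⟩
    · rintro ⟨y, ⟨hy, hz⟩, rfl⟩
      exact ⟨⟨y, hy, rfl⟩, (hcomm y x (hE hy) hx).2 hz⟩
  have hcl : ∀ E ⊆ S, (∀ a ∈ E, ∀ b ∈ E, Commute a b) → ∀ a ∈ F E, ∀ b ∈ F E, Commute a b := by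
    intro E hE hEc a ha b hb
    rw [hF] at ha hb
    obtain ⟨x, hx, rfl⟩ := ha
    obtain ⟨y, hy, rfl⟩ := hb
    exact (hcomm x y (hE hx) (hE hy)).2 (hEc x hx y hy)
  have hset : ∀ E ⊆ S, ∀ P : Set G' → Prop, F {x | x ∈ S ∧ P (F (att E x))} = {z | z ∈ S' ∧ P (att (F E) z)} := by
    intro E hE P
    rw [hF, ← himg]
    ext z
    constructor
    · rintro ⟨x, ⟨hx, hP⟩, rfl⟩
      exact ⟨⟨x, hx, rfl⟩, (hatt E hE x hx).symm ▸ hP⟩
    · rintro ⟨⟨x, hx, rfl⟩, hP⟩
      exact ⟨x, ⟨hx, hatt E hE x hx ▸ hP⟩, rfl⟩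
  have hF_inj : ∀ A ⊆ S, ∀ A' ⊆ S, F A = F A' → A = A' := by
    intro A hA A' hA' e
    ext a
    constructor <;> intro ha
    · exact (hmem A' hA' ⟨a, hH (hA ha)⟩ (hA ha)).1 (e ▸ (hmem A hA _ (hA ha)).2 ha)
    · exact (hmem A hA ⟨a, hH (hA' ha)⟩ (hA' ha)).1 (e ▸ (hmem A' hA' _ (hA' ha)).2 ha)
  have hattS : ∀ E ⊆ S, ∀ x, att E x ⊆ S := fun E hE x e he => hE he.1
  refine ⟨fun E hE hEc => ?_, fun E hE hEc hw => ?_, fun E hE hEc hw x hx hj => ?_,
    fun E hE hEc hw x hx hj y hy hxy => ?_⟩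
  · rw [← hcard E hE]; exact h.le _ (hsub E hE) (hcl E hE hEc)
  · rw [← hcard _ fun x hx => hx.1, ← h.count _ (hsub E hE) (hcl E hE hEc) ((hcard E hE).trans hw),
      ← hset E hE fun A => A.ncard = j]
    congr 2
    ext x
    simp only [Set.mem_ofPred_eq, hcard _ (hattS E hE x)]
  · have hx' : f ⟨x, hH hx⟩ ∈ S' := himg ▸ ⟨_, hx, rfl⟩
    have hj' : (att (F E) (f ⟨x, hH hx⟩)).ncard = j := by
      rw [hatt E hE ⟨x, hH hx⟩ hx, hcard _ (hattS E hE _)]; exact hj
    rw [← hcard _ fun y hy => hy.1,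
      ← h.fibre_card _ (hsub E hE) (hcl E hE hEc) ((hcard E hE).trans hw) _ hx' hj', hatt E hE ⟨x, hH hx⟩ hx,
      ← hset E hE fun A => A = F (att E x)]
    congr 2
    ext y
    exact and_congr_right fun _ => ⟨fun e => e ▸ rfl, fun e => hF_inj _ (hattS E hE y) _ (hattS E hE x) e⟩
  · have hx' : f ⟨x, hH hx⟩ ∈ S' := himg ▸ ⟨_, hx, rfl⟩
    have hy' : f ⟨y, hH hy⟩ ∈ S' := himg ▸ ⟨_, hy, rfl⟩
    have hj' : (att (F E) (f ⟨x, hH hx⟩)).ncard = j := by
      rw [hatt E hE ⟨x, hH hx⟩ hx, hcard _ (hattS E hE _)]; exact hj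
    obtain ⟨g, hg, e⟩ := h.fibre_orbit _ (hsub E hE) (hcl E hE hEc) ((hcard E hE).trans hw) _ hx' hj' _ hy'
      (by rw [hatt E hE ⟨x, hH hx⟩ hx, hatt E hE ⟨y, hH hy⟩ hy]; exact congrArg F hxy)
    rw [hF, ← MonoidHom.map_closure] at hg
    obtain ⟨k, hk, rfl⟩ := hg
    refine ⟨k, ?_, ?_⟩
    · have hle : (Subgroup.closure {z : ↥H | (z : G) ∈ E}).map H.subtype ≤ Subgroup.closure E := by
        rw [MonoidHom.map_closure]
        exact Subgroup.closure_mono (Set.image_subset_iff.2 fun z hz => hz)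
      exact hle ⟨k, hk, rfl⟩
    · rw [← map_inv, ← map_mul, ← map_mul] at e
      have hkx : ((k * ⟨x, hH hx⟩ * k⁻¹ : ↥H) : G) ∈ S := hconj k k.2 x hx
      exact congrArg Subtype.val (hinj hkx hy e)

end Map

section Lift

variable {D : Set G}

/-- Transport to a conjugate neighbourhood. -/
theorem Base.conj (hD : Trans D) {d : G} {w j N : ℕ} (h : Base (perp D d) w j N) (hd : d ∈ D) (g : G) :
    Base (perp D (g * d * g⁻¹)) w j N := by
  refine Base.of_hom ((MulAut.conj g⁻¹).toMonoidHom.comp (Subgroup.closure (perp D (g * d * g⁻¹))).subtype)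
    Subgroup.subset_closure ?_ ?_ ?_ ?_ h
  · intro k hk x hx
    exact ((conj_mem_perp hD (hD.conj g d hd) (Subgroup.closure_mono (Set.subset_insert _ _) hk)).2 x hx).1
  · ext z
    simp only [MonoidHom.comp_apply, Subgroup.coe_subtype, MulEquiv.coe_toMonoidHom, MulAut.conj_apply, inv_inv,
      Set.mem_image, Set.mem_ofPred_eq]
    constructor
    · rintro ⟨x, hx, rfl⟩
      exact (mem_perp_conj hD g d _).1 hx
    · intro hz
      have hz' : g * z * g⁻¹ ∈ perp D (g * d * g⁻¹) := by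
        rw [mem_perp_conj hD]; simpa [mul_assoc] using hz
      exact ⟨⟨_, Subgroup.subset_closure hz'⟩, hz', by simp [mul_assoc]⟩
  · intro x _ y _ e
    exact Subtype.ext ((MulAut.conj g⁻¹).injective e)
  · intro x y _ _ e
    exact Subtype.ext (e.of_map (f := (MulAut.conj g⁻¹).toMonoidHom) (MulAut.conj g⁻¹).injective).eq

/-- Lifting from the image of a neighbourhood. -/
theorem Base.of_image [Finite G] (hD : Trans D) {d : G} (hd : d ∈ D)
    (hnc : ∀ a ∈ perp D d, ∃ e ∈ perp D d, ¬ Commute a e) {w j N : ℕ} (h : Base (image (perp D d)) w j N) :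
    Base (perp D d) w j N := by
  refine Base.of_hom (QuotientGroup.mk' (Subgroup.center ↥(Subgroup.closure (perp D d)))) Subgroup.subset_closure
    (fun k hk x hx => ((conj_mem_perp hD hd (Subgroup.closure_mono (Set.subset_insert _ _) hk)).2 x hx).1)
    rfl ?_ ?_ h
  · intro x hx y hy e
    exact Subtype.ext (bar_inj hD (fun _ h => h.1) hnc hx hy e)
  · intro x y hx hy e
    exact Subtype.ext ((bar_commute hD (fun _ h => h.1) hx hy).1 e).eq

/-- The properties pass from all neighbourhoods to the class. -/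
theorem Base.lift [Finite G] {w j N N' : ℕ} (hjw : j < w) (h : ∀ d ∈ D, Base (perp D d) w j N)
    (hN : N' * (j + 1) = (w + 1) * N) : Base D (w + 1) (j + 1) N' := by
  classical
  have hsub : ∀ E ⊆ D, (∀ a ∈ E, ∀ b ∈ E, Commute a b) → ∀ e ∈ E, E \ {e} ⊆ perp D e := fun E hE hc e he a ha =>
    ⟨hE ha.1, ha.2, hc e he a ha.1⟩
  have hcl : ∀ E : Set G, (∀ a ∈ E, ∀ b ∈ E, Commute a b) → ∀ e, ∀ a ∈ E \ {e}, ∀ b ∈ E \ {e}, Commute a b :=
    fun E hc e a ha b hb => hc a ha.1 b hb.1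
  have hcard : ∀ E : Set G, ∀ e ∈ E, (E \ {e}).ncard + 1 = E.ncard := fun E e he =>
    Set.ncard_sdiff_singleton_add_one he
  have hins : ∀ E : Set G, ∀ e ∈ E, ∀ x, Commute e x → att E x = insert e (att (E \ {e}) x) := by
    intro E e he x hx
    ext a
    constructor
    · rintro ⟨ha, hax⟩
      by_cases ea : a = e
      exacts [Or.inl ea, Or.inr ⟨⟨ha, ea⟩, hax⟩]
    · rintro (rfl | ⟨⟨ha, -⟩, hax⟩)
      exacts [⟨he, hx⟩, ⟨ha, hax⟩]
  have hatt1 : ∀ E : Set G, ∀ e ∈ E, ∀ x, Commute e x → (att E x).ncard = (att (E \ {e}) x).ncard + 1 := by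
    intro E e he x hx
    rw [hins E e he x hx, Set.ncard_insert_of_notMem]
    exact fun h' => h'.1.2 rfl
  have hne : ∀ E ⊆ D, (∀ a ∈ E, ∀ b ∈ E, Commute a b) → E.ncard = w + 1 → ∀ e ∈ E, ∀ x ∈ D,
      (att E x).ncard = j + 1 → Commute e x → x ∈ perp D e := by
    intro E hE hc hw e he x hx hj hex
    refine ⟨hx, fun eq => ?_, hex⟩
    have : att E x = E := Set.Subset.antisymm (fun a ha => ha.1) fun a ha => ⟨ha, eq ▸ hc a ha e he⟩
    rw [this] at hj
    omega
  refine ⟨fun E hE hc => ?_, fun E hE hc hw => ?_, fun E hE hc hw x hx hj => ?_,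
    fun E hE hc hw x hx hj y hy hxy => ?_⟩
  · rcases E.eq_empty_or_nonempty with rfl | ⟨e, he⟩
    · simp
    · have h1 := (h e (hE he)).le _ (hsub E hE hc e he) (hcl E hc e)
      have h2 := hcard E e he
      omega
  · obtain ⟨X, hX⟩ : ∃ X, X = {x | x ∈ D ∧ (att E x).ncard = j + 1} := ⟨_, rfl⟩
    rw [← hX]
    have h1 : ∀ e : ↥E, Nat.card {x : ↥X // Commute (e : G) x} = N := by
      intro e
      have hw' : (E \ {(e : G)}).ncard = w := by have := hcard E e e.2; omega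
      rw [← (h e (hE e.2)).count _ (hsub E hE hc e e.2) (hcl E hc e) hw', ← Nat.card_coe_set_eq]
      refine Nat.card_congr ⟨fun x => ⟨x.1, ?_⟩, fun x => ⟨⟨x.1, ?_⟩, x.2.1.2.2⟩, fun x => rfl, fun x => rfl⟩
      · obtain ⟨⟨x, hx⟩, hex⟩ := x
        rw [hX] at hx
        refine ⟨hne E hE hc hw e e.2 x hx.1 hx.2 hex, ?_⟩
        have := hatt1 E e e.2 x hex
        have := hx.2
        show (att (E \ {(e : G)}) x).ncard = j
        omega
      · rw [hX]
        obtain ⟨x, hx, hxj⟩ := x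
        refine ⟨hx.1, ?_⟩
        show (att E x).ncard = j + 1
        rw [hatt1 E e e.2 x hx.2.2, hxj]
    have h2 : ∀ x : ↥X, Nat.card {e : ↥E // Commute (e : G) x} = j + 1 := by
      intro x
      have hx : (x : G) ∈ {x | x ∈ D ∧ (att E x).ncard = j + 1} := hX ▸ x.2
      rw [← hx.2, ← Nat.card_coe_set_eq]
      exact Nat.card_congr ⟨fun e => ⟨e.1, e.1.2, e.2⟩, fun e => ⟨⟨e.1, e.2.1⟩, e.2.2⟩, fun e => rfl, fun e => rfl⟩
    have key : Nat.card (Σ e : ↥E, {x : ↥X // Commute (e : G) x}) =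
        Nat.card (Σ x : ↥X, {e : ↥E // Commute (e : G) x}) :=
      Nat.card_congr ⟨fun p => ⟨p.2.1, p.1, p.2.2⟩, fun p => ⟨p.2.1, p.1, p.2.2⟩, fun p => rfl, fun p => rfl⟩
    haveI := Fintype.ofFinite ↥E
    haveI := Fintype.ofFinite ↥X
    rw [Nat.card_sigma, Nat.card_sigma, Finset.sum_const_nat fun e _ => h1 e, Finset.sum_const_nat fun x _ => h2 x,
      Finset.card_univ, Finset.card_univ, ← Nat.card_eq_fintype_card, ← Nat.card_eq_fintype_card,
      Nat.card_coe_set_eq, Nat.card_coe_set_eq, hw, ← hN] at key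
    exact (Nat.eq_of_mul_eq_mul_right (Nat.succ_pos j) key).symm
  · obtain ⟨e, he, hex⟩ : (att E x).Nonempty := Set.nonempty_of_ncard_ne_zero (by omega)
    have hw' : (E \ {e}).ncard = w := by have := hcard E e he; omega
    have hj' : (att (E \ {e}) x).ncard = j := by have := hatt1 E e he x hex; omega
    have hxp := hne E hE hc hw e he x hx hj hex
    rw [← (h e (hE he)).fibre_card _ (hsub E hE hc e he) (hcl E hc e) hw' x hxp hj']
    congr 1
    ext y
    constructor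
    · rintro ⟨hy, hxy⟩
      have hey : Commute e y := (hxy.symm ▸ (⟨he, hex⟩ : e ∈ att E x) : e ∈ att E y).2
      refine ⟨hne E hE hc hw e he y hy (hxy.symm ▸ hj) hey, ?_⟩
      ext a
      constructor <;> rintro ⟨⟨ha, hae⟩, hac⟩
      · exact ⟨⟨ha, hae⟩, (hxy ▸ (⟨ha, hac⟩ : a ∈ att E y) : a ∈ att E x).2⟩
      · exact ⟨⟨ha, hae⟩, (hxy.symm ▸ (⟨ha, hac⟩ : a ∈ att E x) : a ∈ att E y).2⟩
    · rintro ⟨hy, hxy⟩
      exact ⟨hy.1, by rw [hins E e he y hy.2.2, hins E e he x hex, hxy]⟩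
  · obtain ⟨e, he, hex⟩ : (att E x).Nonempty := Set.nonempty_of_ncard_ne_zero (by omega)
    have hw' : (E \ {e}).ncard = w := by have := hcard E e he; omega
    have hj' : (att (E \ {e}) x).ncard = j := by have := hatt1 E e he x hex; omega
    have hey : Commute e y := (hxy.symm ▸ (⟨he, hex⟩ : e ∈ att E x) : e ∈ att E y).2
    obtain ⟨g, hg, eq⟩ := (h e (hE he)).fibre_orbit _ (hsub E hE hc e he) (hcl E hc e) hw' x
      (hne E hE hc hw e he x hx hj hex) hj' y (hne E hE hc hw e he y hy (hxy.symm ▸ hj) hey) (by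
        ext a
        constructor <;> rintro ⟨⟨ha, hae⟩, hac⟩
        · exact ⟨⟨ha, hae⟩, (hxy ▸ (⟨ha, hac⟩ : a ∈ att E y) : a ∈ att E x).2⟩
        · exact ⟨⟨ha, hae⟩, (hxy.symm ▸ (⟨ha, hac⟩ : a ∈ att E x) : a ∈ att E y).2⟩)
    exact ⟨g, Subgroup.closure_mono Set.sdiff_subset hg, eq⟩

end Lift

end Cfsg.Lib.Fischer.Relations
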