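import Cfsg.Agent.Lib.Fischer.Relations.TwentyFour.Base
import Cfsg.Agent.Lib.Linear.HermParabolic

/-!
# Members around a totally isotropic plane

Twenty-one commuting neighbours fill a totally isotropic plane. Every other neighbour commutes with the five
points of a line of it, and the 32 neighbours with the same line form one orbit under the transvections of the plane.
-/

set_option autoImplicit false
set_option linter.unusedSectionVars false

namespace Cfsg.Lib.Fischer.Relations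

open Module Cfsg Cfsg.Lib.Fischer Cfsg.Lib.Linear.Herm Cfsg.Agent.S1631 Cfsg.Lib.Fischer.RadicalAbelian
open Cfsg.Lib.Linear

variable {G : Type*} [Group G] [Finite G] {D : Set G}
  {F : Type} [Field F] [Fintype F] {hF : Fintype.card F = 2 ^ 2} {d : G}

theorem act_append (ws vs : List (Fin 6 → F)) (x : Fin 6 → F) :
    Relations.Linear.act (hB hF 6) (ws ++ vs) x =
      Relations.Linear.act (hB hF 6) ws x + Relations.Linear.act (hB hF 6) vs x := by
  simp [Relations.Linear.act]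

theorem act_reverse (ws : List (Fin 6 → F)) (x : Fin 6 → F) :
    Relations.Linear.act (hB hF 6) ws.reverse x = Relations.Linear.act (hB hF 6) ws x := by
  simp [Relations.Linear.act, List.map_reverse, List.sum_reverse]

/-- A linear functional on a subspace splits it. -/
theorem card_pre {W : Submodule F (Fin 6 → F)} {g : (Fin 6 → F) →ₗ[F] F} {w₀ : Fin 6 → F} (hw : w₀ ∈ W)
    (hg : g w₀ = 1) (P : F → Prop) :
    Nat.card {v | v ∈ W ∧ P (g v)} = Nat.card {v | v ∈ W ∧ g v = 0} * Nat.card {t : F // P t} := by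
  rw [← Nat.card_prod]
  exact Nat.card_congr
    { toFun := fun v => (⟨v.1 - g v.1 • w₀, W.sub_mem v.2.1 (W.smul_mem _ hw), by simp [hg]⟩, ⟨g v.1, v.2.2⟩)
      invFun := fun p => ⟨p.1.1 + p.2.1 • w₀, W.add_mem p.1.2.1 (W.smul_mem _ hw), by simp [hg, p.1.2.2, p.2.2]⟩
      left_inv := fun v => Subtype.ext (by simp)
      right_inv := fun p => by
        refine Prod.ext (Subtype.ext ?_) (Subtype.ext ?_) <;> simp [hg, p.1.2.2] }

namespace Coord

variable (C : Coord D d hF)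
include C

/-- A maximal commuting set of neighbours is a totally isotropic plane. -/
theorem exists_plane {E : Set G} (hE : E ⊆ perp D d) (hc : ∀ a ∈ E, ∀ b ∈ E, Commute a b) (hw : E.ncard = 21) :
    ∃ W : Submodule F (Fin 6 → F), Nat.card W = 64 ∧ Linear.Herm.perp hF W = W ∧
      (∀ e ∈ E, C.U.c e ∈ W) ∧ ∀ s ∈ perp D d, C.U.c s ∈ W → s ∈ E := by
  classical
  have hK := fourField hF
  obtain ⟨W, hW⟩ : ∃ W, W = Submodule.span F (C.U.c '' E) := ⟨_, rfl⟩
  have hmem : ∀ e ∈ E, C.U.c e ∈ W := fun e he => hW ▸ Submodule.subset_span ⟨e, he, rfl⟩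
  have hgen : ∀ a ∈ E, ∀ v ∈ W, hB hF 6 (C.U.c a) v = 0 := by
    intro a ha v hv
    have hle : W ≤ LinearMap.ker (hB hF 6 (C.U.c a)) := by
      rw [hW, Submodule.span_le]
      rintro _ ⟨b, hb, rfl⟩
      exact (C.U.comm a (hE ha) b (hE hb)).1 (hc a ha b hb)
    exact hle hv
  have hperp : W ≤ Linear.Herm.perp hF W := by
    have h1 : Submodule.span F (C.U.c '' E) ≤ Linear.Herm.perp hF W := by
      rw [Submodule.span_le]
      rintro _ ⟨a, ha, rfl⟩ x hx
      exact hB_symm_zero hF (hgen a ha x hx)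
    rwa [← hW] at h1
  have hfin := finrank_perp hF W
  have hdim : finrank F W ≤ 3 := by have := Submodule.finrank_mono hperp; omega
  obtain ⟨S, hS⟩ : ∃ S, S = {s | s ∈ perp D d ∧ C.U.c s ∈ W} := ⟨_, rfl⟩
  obtain ⟨V, hV⟩ : ∃ V : Set (Fin 6 → F), V = {v | v ∈ W ∧ v ≠ 0} := ⟨_, rfl⟩
  have hSV : Nat.card S * 3 = Nat.card V := C.card_points S (fun s hs => (hS ▸ hs : s ∈ {s | _}).1) V fun v => by
    rw [hV, hS]
    constructor
    · rintro ⟨hv, h0⟩
      exact ⟨h0, hB_symm_zero hF (hperp hv v hv), fun s hs ⟨k, hk⟩ => ⟨hs, hk ▸ W.smul_mem k hv⟩⟩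
    · rintro ⟨h0, hiso, h⟩
      obtain ⟨s, hs, k, hk, e⟩ := C.exists_point h0 hiso
      have := (h s hs ⟨k, e⟩).2
      rw [e] at this
      exact ⟨(W.smul_mem_iff hk).1 this, h0⟩
  have hVW : Nat.card V + 1 = Nat.card W := by
    rw [Nat.card_coe_set_eq, show Nat.card W = ((W : Set (Fin 6 → F))).ncard from Nat.card_coe_set_eq _, hV,
      show {v | v ∈ W ∧ v ≠ 0} = (W : Set (Fin 6 → F)) \ {0} from rfl]
    exact Set.ncard_sdiff_singleton_add_one W.zero_mem
  have hES : E ⊆ S := fun e he => hS ▸ ⟨hE he, hmem e he⟩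
  have hle := Set.ncard_le_ncard hES
  have hWc : Nat.card W = 4 ^ finrank F W := by
    rw [Module.natCard_eq_pow_finrank (K := F), Nat.card_eq_fintype_card, hF]; rfl
  rw [← Nat.card_coe_set_eq S] at hle
  have hdim3 : finrank F W = 3 := by
    by_contra h
    have : Nat.card W ≤ 4 ^ 2 := hWc ▸ Nat.pow_le_pow_right (by norm_num) (by omega)
    omega
  rw [hdim3] at hWc
  refine ⟨W, hWc, (Submodule.eq_of_le_of_finrank_eq hperp (by omega)).symm, hmem, fun s hs hsW => ?_⟩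
  have hEq : E = S := Set.eq_of_subset_of_ncard_le hES (by rw [← Nat.card_coe_set_eq S]; omega)
  rw [hEq, hS]
  exact ⟨hs, hsW⟩

/-- A neighbour outside a maximal commuting set of neighbours. -/
theorem around {E : Set G} (hE : E ⊆ perp D d) (hc : ∀ a ∈ E, ∀ b ∈ E, Commute a b) (hw : E.ncard = 21) {x : G}
    (hx : x ∈ perp D d) (hxE : x ∉ E) : (att E x).ncard = 5 ∧ {y | y ∈ perp D d ∧ att E y = att E x}.ncard = 32 ∧
      (∀ y ∈ perp D d, att E y = att E x → ∃ g ∈ Subgroup.closure E, g * x * g⁻¹ = y) ∧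
      (∀ y ∈ perp D d, att E y = att E x → ∀ z ∈ perp D d, att E z = att E x →
        Commute x y → Commute x z → Commute y z) ∧
      {y | y ∈ perp D d ∧ att E y = att E x ∧ Commute x y}.ncard = 16 := by
  classical
  have hK := fourField hF
  have hSym := hB_isSymm hF 6
  have hND := hB_nondegenerate hF 6
  have hD := C.trans
  obtain ⟨W, hWc, hperp, hmem, hinW⟩ := C.exists_plane hE hc hw
  obtain ⟨g, hg⟩ : ∃ g, g = hB hF 6 (C.U.c x) := ⟨_, rfl⟩
  have hWW : ∀ v ∈ W, ∀ w ∈ W, hB hF 6 v w = 0 := fun v hv w hw => by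
    have : w ∈ Linear.Herm.perp hF W := hperp.symm ▸ hw
    exact this v hv
  obtain ⟨w₀, hw₀, hgw₀⟩ : ∃ w ∈ W, g w = 1 := by
    obtain ⟨w, hwW, hne⟩ : ∃ w ∈ W, g w ≠ 0 := by
      by_contra h
      push Not at h
      refine hxE (hinW x hx ?_)
      rw [← hperp]
      exact fun v hv => hB_symm_zero hF (hg ▸ h v hv)
    exact ⟨(g w)⁻¹ • w, W.smul_mem _ hwW, by rw [map_smul, smul_eq_mul, inv_mul_cancel₀ hne]⟩
  have hatt : ∀ e ∈ E, e ∈ att E x ↔ g (C.U.c e) = 0 := fun e he => by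
    rw [att, Set.mem_ofPred_eq, and_iff_right he, show Commute e x ↔ Commute x e from ⟨Commute.symm, Commute.symm⟩,
      C.U.comm x hx e (hE he), hg]
  have hall : Nat.card {v | v ∈ W ∧ g v = 0} * 4 = 64 := by
    have h := card_pre (g := g) hw₀ hgw₀ fun _ => True
    rw [show Nat.card {t : F // True} = 4 by
      rw [Nat.card_congr (Equiv.subtypeUnivEquiv fun _ => trivial), Nat.card_eq_fintype_card, hF]; rfl] at h
    rw [← h, ← hWc]
    exact Nat.card_congr ⟨fun v => ⟨v.1, v.2.1⟩, fun v => ⟨v.1, v.2, trivial⟩, fun _ => rfl, fun _ => rfl⟩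
  obtain ⟨P, hP⟩ : ∃ P : Set (Fin 6 → F), P = {v | v ∈ W ∧ (g v = 0 ∨ g v = 1)} := ⟨_, rfl⟩
  have hPc : Nat.card P = 32 := by
    rw [hP, card_pre (g := g) hw₀ hgw₀ fun t => t = 0 ∨ t = 1, show Nat.card {t : F // t = 0 ∨ t = 1} = 2 by
      rw [show Nat.card {t : F // t = 0 ∨ t = 1} = ({0, 1} : Set F).ncard from Nat.card_coe_set_eq _,
        Set.ncard_pair zero_ne_one]]
    omega
  have h5 : (att E x).ncard = 5 := by
    obtain ⟨V, hV⟩ : ∃ V : Set (Fin 6 → F), V = {v | (v ∈ W ∧ g v = 0) ∧ v ≠ 0} := ⟨_, rfl⟩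
    have hS3 : Nat.card (att E x) * 3 = Nat.card V := C.card_points (att E x) (fun e he => hE he.1) V fun v => by
      rw [hV]
      constructor
      · rintro ⟨⟨hv, hgv⟩, h0⟩
        refine ⟨h0, hWW v hv v hv, fun s hs ⟨k, hk⟩ => ?_⟩
        have hsE := hinW s hs (hk ▸ W.smul_mem k hv)
        rw [hatt s hsE, hk, map_smul, hgv, smul_zero]
      · rintro ⟨h0, hiso, h⟩
        obtain ⟨s, hs, k, hk, e⟩ := C.exists_point h0 hiso
        have hsA := h s hs ⟨k, e⟩
        have hsW := hmem s hsA.1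
        have hg0 := (hatt s hsA.1).1 hsA
        rw [e] at hsW hg0
        rw [map_smul, smul_eq_zero] at hg0
        exact ⟨⟨(W.smul_mem_iff hk).1 hsW, hg0.resolve_left hk⟩, h0⟩
    have hVc : Nat.card V + 1 = Nat.card {v | v ∈ W ∧ g v = 0} := by
      rw [Nat.card_coe_set_eq, Nat.card_coe_set_eq, hV,
        show {v | (v ∈ W ∧ g v = 0) ∧ v ≠ 0} = {v | v ∈ W ∧ g v = 0} \ {0} from rfl]
      exact Set.ncard_sdiff_singleton_add_one ⟨W.zero_mem, map_zero g⟩
    rw [← Nat.card_coe_set_eq]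
    omega
  obtain ⟨Φ, hΦ⟩ : ∃ Φ, Φ = {y | y ∈ perp D d ∧ att E y = att E x} := ⟨_, rfl⟩
  -- the fibre is at most 32
  have hfib : ∀ y : ↥Φ, ∃ p : ↥P, ∃ k : F, k ≠ 0 ∧ k • C.U.c (y : G) = C.U.c x + p := by
    intro y
    obtain ⟨hy, hyx⟩ : (y : G) ∈ {y | y ∈ perp D d ∧ att E y = att E x} := hΦ ▸ y.2
    obtain ⟨gy, hgy⟩ : ∃ gy, gy = hB hF 6 (C.U.c (y : G)) := ⟨_, rfl⟩
    have hker : ∀ v ∈ W, g v = 0 → gy v = 0 := by
      intro v hv hgv
      rcases eq_or_ne v 0 with rfl | h0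
      · exact map_zero gy
      obtain ⟨s, hs, k, hk, e⟩ := C.exists_point h0 (hWW v hv v hv)
      have hsE := hinW s hs (e ▸ W.smul_mem k hv)
      have hsx : s ∈ att E x := (hatt s hsE).2 (by rw [e, map_smul, hgv, smul_zero])
      rw [← hyx] at hsx
      have := (C.U.comm _ hy _ hs).1 hsx.2.symm
      rw [e, map_smul, smul_eq_zero, ← hgy] at this
      exact this.resolve_left hk
    obtain ⟨t, ht⟩ : ∃ t, t = gy w₀ := ⟨_, rfl⟩
    have hgyt : ∀ v ∈ W, gy v = g v * t := fun v hv => by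
      have := hker (v - g v • w₀) (W.sub_mem hv (W.smul_mem _ hw₀)) (by simp [hgw₀])
      rw [map_sub, map_smul, smul_eq_mul, sub_eq_zero, ← ht] at this
      exact this
    have ht0 : t ≠ 0 := by
      intro h0
      have hyW : C.U.c (y : G) ∈ W := by
        rw [← hperp]
        exact fun v hv => hB_symm_zero hF (by rw [← hgy, hgyt v hv, h0, mul_zero])
      have hyE := hinW _ hy hyW
      have hEeq : att E (y : G) = E := Set.Subset.antisymm (fun a ha => ha.1) fun a ha => ⟨ha, hc a ha _ hyE⟩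
      rw [← hyx, hEeq, hw] at h5
      omega
    obtain ⟨k, hk⟩ : ∃ k, k = frob hF t⁻¹ := ⟨_, rfl⟩
    have hk0 : k ≠ 0 := by rw [hk]; simpa using ht0
    obtain ⟨p, hp⟩ : ∃ p, p = k • C.U.c (y : G) - C.U.c x := ⟨_, rfl⟩
    have hku : k • C.U.c (y : G) = C.U.c x + p := by rw [hp]; abel
    have hpW : p ∈ W := by
      rw [← hperp]
      intro v hv
      refine hB_symm_zero hF ?_
      rw [hp, map_sub, LinearMap.sub_apply, LinearMap.map_smulₛₗ, LinearMap.smul_apply, ← hgy, ← hg, hgyt v hv,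
        hk, frob_frob hF, smul_eq_mul, mul_comm (g v) t, ← mul_assoc, inv_mul_cancel₀ ht0, one_mul, sub_self]
    have h0 : hB hF 6 (k • C.U.c (y : G)) (k • C.U.c (y : G)) = 0 := by
      simp [LinearMap.map_smulₛₗ, C.U.iso _ hy]
    rw [hku] at h0
    simp only [map_add, LinearMap.add_apply, C.U.iso x hx, hWW p hpW p hpW, add_zero, zero_add,
      ← hSym.eq (C.U.c x) p, ← hg] at h0
    refine ⟨⟨p, ?_⟩, k, hk0, hku⟩
    rw [hP]
    refine ⟨hpW, fixed_cases hK ?_⟩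
    have hgx : g (C.U.c x) = 0 := hg ▸ C.U.iso x hx
    linear_combination h0 - (g p) * hK.two - hgx
  choose ι κ hκ0 hκ using hfib
  have hι : Function.Injective ι := fun y z h => by
    have e : κ z • C.U.c (z : G) = κ y • C.U.c (y : G) := by rw [hκ, hκ, h]
    have hy : (y : G) ∈ {y | y ∈ perp D d ∧ att E y = att E x} := hΦ ▸ y.2
    have hz : (z : G) ∈ {y | y ∈ perp D d ∧ att E y = att E x} := hΦ ▸ z.2
    refine Subtype.ext (C.U.inj _ hy.1 _ hz.1 ((κ z)⁻¹ * κ y) ?_)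
    rw [mul_smul, ← e, smul_smul, inv_mul_cancel₀ (hκ0 z), one_smul]
  -- the orbit has 32
  have hone : ∀ v ∈ W, g v = 1 → ∃ l : List G, (∀ a ∈ l, a ∈ E) ∧
      Relations.Linear.act (hB hF 6) (l.map C.U.c) (C.U.c x) = v := by
    intro v hv hgv
    have h0 : v ≠ 0 := fun e => by rw [e, map_zero] at hgv; exact zero_ne_one hgv
    obtain ⟨s, hs, k, hk, e⟩ := C.exists_point h0 (hWW v hv v hv)
    refine ⟨[s], fun a ha => by rw [List.mem_singleton.1 ha]; exact hinW s hs (e ▸ W.smul_mem k hv), ?_⟩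
    rw [List.map_singleton, Relations.Linear.act_cons, e, LinearMap.map_smulₛₗ, LinearMap.smul_apply,
      ← hSym.eq (C.U.c x) v, ← hg, hgv, map_one, smul_eq_mul, mul_one, hK.sq, smul_smul, hK.cube k hk, one_smul]
    simp [Relations.Linear.act]
  have hlist : ∀ p : ↥P, ∃ l : List G, (∀ a ∈ l, a ∈ E) ∧
      Relations.Linear.act (hB hF 6) (l.map C.U.c) (C.U.c x) = p := by
    rintro ⟨p, hp⟩
    rw [hP] at hp
    obtain ⟨hpW, h0 | h1⟩ := hp
    · obtain ⟨l₁, hl₁, e₁⟩ := hone (p + w₀) (W.add_mem hpW hw₀) (by rw [map_add, h0, hgw₀, zero_add])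
      obtain ⟨l₂, hl₂, e₂⟩ := hone w₀ hw₀ hgw₀
      refine ⟨l₁ ++ l₂, fun a ha => (List.mem_append.1 ha).elim (hl₁ a) (hl₂ a), ?_⟩
      rw [List.map_append, act_append, e₁, e₂, add_assoc, Relations.Linear.add_self hK hSym hND, add_zero]
    · exact hone p hpW h1
  choose L hLE hL using hlist
  have hLmem : ∀ p, (L p).prod ∈ Subgroup.closure E := fun p =>
    list_prod_mem fun a ha => Subgroup.subset_closure (hLE p a ha)
  have horb : ∀ p, (L p).prod * x * ((L p).prod)⁻¹ ∈ Φ := fun p => by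
    rw [hΦ]
    refine ⟨((conj_mem_perp hD C.mem (Subgroup.closure_mono (fun a ha => Set.mem_insert_of_mem _ (hE ha))
      (hLmem p))).2 x hx).1, att_conj hc (hLmem p) x⟩
  have horbi : Function.Injective fun p => (⟨_, horb p⟩ : ↥Φ) := by
    intro p q h
    have h' : (L p).prod * x * ((L p).prod)⁻¹ = (L q).prod * x * ((L q).prod)⁻¹ := congrArg Subtype.val h
    have hinv : ((L q).prod)⁻¹ = ((L q).reverse).prod := by
      rw [List.prod_inv_reverse, ← List.map_reverse]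
      exact congrArg List.prod ((List.map_congr_left fun a ha =>
        inv_eq hD (hE (hLE q a (List.mem_reverse.1 ha))).1).trans (List.map_id' _))
    have hcomm : Commute ((L q).reverse ++ L p).prod x := by
      rw [List.prod_append, ← hinv]
      refine mul_inv_eq_iff_eq_mul.1 ?_
      rw [show ((L q).prod)⁻¹ * (L p).prod * x * (((L q).prod)⁻¹ * (L p).prod)⁻¹ =
        ((L q).prod)⁻¹ * ((L p).prod * x * ((L p).prod)⁻¹) * (L q).prod by group, h']
      group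
    have hmemE : ∀ a ∈ (L q).reverse ++ L p, a ∈ E := fun a ha => (List.mem_append.1 ha).elim
      (fun h => hLE q a (List.mem_reverse.1 h)) (hLE p a)
    have h0 := (C.U.rel _ (fun a ha => hE (hmemE a ha)) (fun a ha b hb => hc a (hmemE a ha) b (hmemE b hb))
      x hx).1 hcomm
    rw [List.map_append, List.map_reverse, act_append, act_reverse, hL q, hL p] at h0
    exact Subtype.ext (Relations.Linear.eq_of_add_eq_zero hK hSym hND h0).symm
  have hle1 := Nat.card_le_card_of_injective ι hι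
  have hle2 := Nat.card_le_card_of_injective _ horbi
  have hcΦ : Nat.card ↥Φ = 32 := (le_antisymm hle1 hle2).trans hPc
  have hval : ∀ y : ↥Φ, (y : G) ∈ perp D d := fun y => (hΦ ▸ y.2 : (y : G) ∈ {y | y ∈ perp D d ∧ att E y = att E x}).1
  have hgx : g (C.U.c x) = 0 := hg ▸ C.U.iso x hx
  have hpar : ∀ y : ↥Φ, Commute x (y : G) ↔ g (ι y : Fin 6 → F) = 0 := fun y => by
    rw [C.U.comm x hx _ (hval y)]
    have e := congrArg g (hκ y)
    rw [map_smul, map_add, hgx, zero_add, smul_eq_mul] at e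
    rw [← hg, ← e, mul_eq_zero, or_iff_right (hκ0 y)]
  refine ⟨h5, by rw [← hΦ, ← Nat.card_coe_set_eq]; exact hcΦ, fun y hy hyx => ?_, fun y hy hyx z hz hzx hxy hxz => ?_,
    ?_⟩
  have hsurj : Function.Surjective fun p => (⟨_, horb p⟩ : ↥Φ) := by
    haveI := Fintype.ofFinite ↥P
    haveI := Fintype.ofFinite ↥Φ
    exact ((Fintype.bijective_iff_injective_and_card _).2 ⟨horbi, by
      rw [← Nat.card_eq_fintype_card, ← Nat.card_eq_fintype_card]; exact le_antisymm hle2 hle1⟩).2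
  obtain ⟨p, hp⟩ := hsurj ⟨y, hΦ ▸ ⟨hy, hyx⟩⟩
  exact ⟨_, hLmem p, congrArg Subtype.val hp⟩
  · have hy1 := (hpar ⟨y, hΦ ▸ ⟨hy, hyx⟩⟩).1 hxy
    have hz1 := (hpar ⟨z, hΦ ▸ ⟨hz, hzx⟩⟩).1 hxz
    obtain ⟨⟨p, hp⟩, hpe⟩ : ∃ p, p = ι ⟨y, hΦ ▸ ⟨hy, hyx⟩⟩ := ⟨_, rfl⟩
    obtain ⟨⟨q, hq⟩, hqe⟩ : ∃ q, q = ι ⟨z, hΦ ▸ ⟨hz, hzx⟩⟩ := ⟨_, rfl⟩
    have ey := hκ ⟨y, hΦ ▸ ⟨hy, hyx⟩⟩
    have ez := hκ ⟨z, hΦ ▸ ⟨hz, hzx⟩⟩
    rw [← hpe] at ey hy1
    rw [← hqe] at ez hz1
    rw [hP] at hp hq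
    have h0 : hB hF 6 (C.U.c x + p) (C.U.c x + q) = 0 := by
      simp only [map_add, LinearMap.add_apply, C.U.iso x hx, hWW p hp.1 q hq.1, ← hSym.eq (C.U.c x) p, ← hg, hgx]
      simp only at hy1 hz1
      rw [hy1, hz1, map_zero]
      simp
    simp only at ey ez
    rw [← ey, ← ez] at h0
    simp only [LinearMap.map_smulₛₗ, LinearMap.smul_apply, map_smul, smul_eq_mul, RingHom.id_apply, mul_eq_zero,
      map_eq_zero, hκ0, false_or] at h0
    exact (C.U.comm y hy z hz).2 h0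
  · have hbij : Function.Bijective ι := by
      haveI := Fintype.ofFinite ↥P
      haveI := Fintype.ofFinite ↥Φ
      exact (Fintype.bijective_iff_injective_and_card _).2 ⟨hι, by
        rw [← Nat.card_eq_fintype_card, ← Nat.card_eq_fintype_card, hcΦ, hPc]⟩
    have h16 : Nat.card {v | v ∈ W ∧ g v = 0} = 16 := by omega
    rw [← Nat.card_coe_set_eq, ← h16]
    refine Nat.card_eq_of_bijective (fun y => ⟨ι ⟨y.1, hΦ ▸ ⟨y.2.1, y.2.2.1⟩⟩, ?_,
      (hpar ⟨y.1, hΦ ▸ ⟨y.2.1, y.2.2.1⟩⟩).1 y.2.2.2⟩) ⟨fun y z h => ?_, fun v => ?_⟩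
    · exact (hP ▸ (ι _).2 : _ ∈ {v | v ∈ W ∧ (g v = 0 ∨ g v = 1)}).1
    · have e : ι ⟨y.1, hΦ ▸ ⟨y.2.1, y.2.2.1⟩⟩ = ι ⟨z.1, hΦ ▸ ⟨z.2.1, z.2.2.1⟩⟩ :=
        Subtype.ext (congrArg (fun v : {v | v ∈ W ∧ g v = 0} => (v : Fin 6 → F)) h :)
      exact Subtype.ext (congrArg (fun u : ↥Φ => (u : G)) (hι e) :)
    · obtain ⟨y, hy⟩ := hbij.2 ⟨v.1, hP ▸ ⟨v.2.1, Or.inl v.2.2⟩⟩
      have hy' : (y : G) ∈ {y | y ∈ perp D d ∧ att E y = att E x} := hΦ ▸ y.2
      have hxy : Commute x (y : G) := (hpar y).2 (by rw [hy]; exact v.2.2)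
      exact ⟨⟨y, hy'.1, hy'.2, hxy⟩, Subtype.ext (congrArg (fun u : ↥P => (u : Fin 6 → F)) hy :)⟩

/-- Around a maximal commuting set of neighbours. -/
theorem base_perp : Base (perp D d) 21 5 672 := by
  classical
  have hin : ∀ E : Set G, (∀ a ∈ E, ∀ b ∈ E, Commute a b) → ∀ x ∈ E, att E x = E := fun E hc x hx =>
    Set.Subset.antisymm (fun a ha => ha.1) fun a ha => ⟨ha, hc a ha x hx⟩
  have hout : ∀ E : Set G, (∀ a ∈ E, ∀ b ∈ E, Commute a b) → E.ncard = 21 → ∀ x, (att E x).ncard = 5 → x ∉ E := by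
    intro E hc hw x hj hxE
    rw [hin E hc x hxE, hw] at hj
    omega
  refine ⟨fun E hE hc => ?_, fun E hE hc hw => ?_,
    fun E hE hc hw x hx hj => (C.around hE hc hw hx (hout E hc hw x hj)).2.1,
    fun E hE hc hw x hx hj => (C.around hE hc hw hx (hout E hc hw x hj)).2.2.1⟩
  · rw [← Nat.card_coe_set_eq]; exact C.commuting_le hE hc
  · have h := Set.ncard_sdiff hE
    rw [← Nat.card_coe_set_eq (perp D d), C.card_perp, hw] at h
    rw [show {x | x ∈ perp D d ∧ (att E x).ncard = 5} = perp D d \ E from Set.ext fun x =>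
      ⟨fun hx => ⟨hx.1, hout E hc hw x hx.2⟩, fun hx => ⟨hx.1, (C.around hE hc hw hx.1 hx.2).1⟩⟩]
    exact h

/-- The neighbours outside a maximal commuting set through one of its members. -/
theorem card_through {E : Set G} (hE : E ⊆ perp D d) (hc : ∀ a ∈ E, ∀ b ∈ E, Commute a b) (hw : E.ncard = 21)
    {e : G} (he : e ∈ E) : {x | x ∈ perp D d ∧ (att E x).ncard = 5 ∧ e ∈ att E x}.ncard = 160 := by
  classical
  have hEs : E ⊆ {t | t ∈ perp D d ∧ Commute e t} := fun a ha => ⟨hE ha, hc e he a ha⟩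
  have h := Set.ncard_sdiff hEs
  rw [← Nat.card_coe_set_eq {t | t ∈ perp D d ∧ Commute e t}, C.card_common_perp (hE he), hw] at h
  rw [show {x | x ∈ perp D d ∧ (att E x).ncard = 5 ∧ e ∈ att E x} = {t | t ∈ perp D d ∧ Commute e t} \ E from
    Set.ext fun x => ⟨fun hx => ⟨⟨hx.1, hx.2.2.2⟩, fun hxE => ?_⟩,
      fun hx => ⟨hx.1.1, (C.around hE hc hw hx.1.1 hx.2).1, he, hx.1.2⟩⟩]
  · exact h
  have : att E x = E := Set.Subset.antisymm (fun a ha => ha.1) fun a ha => ⟨ha, hc a ha x hxE⟩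
  have hx2 : (att E x).ncard = 5 := hx.2.1
  rw [this, hw] at hx2
  omega

end Coord

end Cfsg.Lib.Fischer.Relations
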