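import Cfsg.Agent.Lib.Fischer.Relations.TwentyFour.Setup
import Cfsg.Agent.Lib.Fischer.Relations.Twenty.NoRel

/-!
# The centralizer of a member in type M(24) is its neighbourhood group

Seven neighbours with product one in the image have product `d`. Every automorphism of the image class fixing a
member is inner, so an element centralizing `d` acts on the neighbours as an element of the neighbourhood group.
-/

set_option autoImplicit false
set_option linter.unusedSectionVars false

namespace Cfsg.Lib.Fischer.Relations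

open Cfsg Cfsg.Lib.Fischer Cfsg.Lib.Linear.Herm Cfsg.Lib.Linear

variable {G : Type*} [Group G] [Finite G] {D : Set G} {d : G}

namespace M24Data

variable (K : M24Data D d)
include K

theorem trans : Trans D := K.fis.toTrans

theorem nc : ∀ a ∈ perp D d, ∃ e ∈ perp D d, ¬ Commute a e := fun _ ha =>
  exists_perp_noncommute K.trans K.sep K.mem ha

theorem closure_le : Subgroup.closure (perp D d) ≤ Subgroup.centralizer ({d} : Set G) :=
  (Subgroup.closure_le _).2 fun x hx => Subgroup.mem_centralizer_singleton_iff.2 hx.2.2.eq.symm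

theorem commute_of_mem {x : G} (hx : x ∈ Subgroup.closure (perp D d)) : Commute x d :=
  Subgroup.mem_centralizer_singleton_iff.1 (K.closure_le hx)

theorem conj_mem {g x : G} (hg : Commute g d) (hx : x ∈ perp D d) : g * x * g⁻¹ ∈ perp D d := by
  have h := conj_perp K.fis g d hx
  rwa [hg.eq, mul_inv_cancel_right] at h

theorem exists_coord : ∃ (F : Type) (_ : Field F) (_ : Fintype F) (hF : Fintype.card F = 2 ^ 2)
    (e f : ↥(Subgroup.closure (perp D d)) ⧸ Subgroup.center ↥(Subgroup.closure (perp D d))),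
      Nonempty (Coord23 (image (perp D d)) e f hF) := by
  obtain ⟨e, K'⟩ := m23_data K.imgTrans K.imgPrim K.img fun c hc Q hQ =>
    Dvd.dvd.trans (by norm_num) (ReflSeven.quot_dvd Q hQ hc)
  obtain ⟨F, i1, i2, hF, f, h⟩ := exists_coord23 K'
  exact ⟨F, i1, i2, hF, e, f, h⟩

/-- No seven commuting members have central product. -/
theorem noRel : NoRel D 7 := by
  obtain ⟨F, _, _, hF, e, f, ⟨C⟩⟩ := K.exists_coord
  exact noRel_lift K.trans K.sep K.mem K.prim.2.1 C.noRel

/-- What centralizes `d` and all its neighbours is `1` or `d`. -/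
theorem eq_one_or {z : G} (hz : Commute z d) (hzc : ∀ y ∈ perp D d, Commute z y) : z = 1 ∨ z = d :=
  eq_or_eq_of_trace K.fis K.prim K.trace K.cen K.mem hz hzc

/-- Seven pairwise commuting neighbours have product `d`. -/
theorem exists_seven : ∃ L : List G, L.Nodup ∧ L.length = 7 ∧ (∀ x ∈ L, x ∈ perp D d) ∧
    (∀ x ∈ L, ∀ y ∈ L, Commute x y) ∧ L.prod = d := by
  obtain ⟨F, _, _, hF, e, f, ⟨C⟩⟩ := K.exists_coord
  obtain ⟨L, hnd, hlen, hmem, hc, hp⟩ := C.exists_seven
  choose! s hs hbar using fun x (hx : x ∈ L) => exists_bar (hmem x hx)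
  have hinj : ∀ x ∈ L, ∀ y ∈ L, s x = s y → x = y := fun x hx y hy h => by
    rw [← hbar x hx, ← hbar y hy]
    simp only [bar, h]
  have hl : ∀ a ∈ L.map s, a ∈ perp D d := fun a ha => by
    obtain ⟨x, hx, rfl⟩ := List.mem_map.1 ha; exact hs x hx
  have hlnd : (L.map s).Nodup := List.Nodup.map_on hinj hnd
  have hlc : ∀ a ∈ L.map s, ∀ b ∈ L.map s, Commute a b := fun a ha b hb => by
    obtain ⟨x, hx, rfl⟩ := List.mem_map.1 ha
    obtain ⟨y, hy, rfl⟩ := List.mem_map.1 hb
    refine (bar_commute K.trans (fun _ h => h.1) (hs x hx) (hs y hy)).1 ?_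
    rw [hbar x hx, hbar y hy]
    exact hc x hx y hy
  have hcl : (L.map s).prod ∈ Subgroup.closure (perp D d) :=
    list_prod_mem fun a ha => Subgroup.subset_closure (hl a ha)
  have hmk : (QuotientGroup.mk ⟨(L.map s).prod, hcl⟩ :
      ↥(Subgroup.closure (perp D d)) ⧸ Subgroup.center ↥(Subgroup.closure (perp D d))) = L.prod := by
    have key : ∀ L' : List _, (∀ x ∈ L', x ∈ L) → ∀ h : (L'.map s).prod ∈ Subgroup.closure (perp D d),
        (QuotientGroup.mk ⟨(L'.map s).prod, h⟩ :
          ↥(Subgroup.closure (perp D d)) ⧸ Subgroup.center ↥(Subgroup.closure (perp D d))) = L'.prod := by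
      intro L'
      induction L' with
      | nil => intro _ h; exact (congrArg QuotientGroup.mk (Subtype.ext rfl)).trans (QuotientGroup.mk_one _)
      | cons x L' ih =>
        intro hsub h
        have hx : x ∈ L := hsub x (by simp)
        have h' : (L'.map s).prod ∈ Subgroup.closure (perp D d) := list_prod_mem fun a ha => by
          obtain ⟨y, hy, rfl⟩ := List.mem_map.1 ha
          exact Subgroup.subset_closure (hs y (hsub y (by simp [hy])))
        rw [List.prod_cons, ← ih (fun y hy => hsub y (by simp [hy])) h']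
        refine Eq.trans ?_ (congrArg (· * _) (hbar x hx))
        simp only [bar, ← QuotientGroup.mk_mul]
        exact congrArg QuotientGroup.mk (Subtype.ext rfl)
    exact key L (fun _ h => h) hcl
  rw [hp, QuotientGroup.eq_one_iff, Subgroup.mem_center_iff] at hmk
  refine ⟨L.map s, hlnd, by rw [List.length_map, hlen], hl, hlc, ?_⟩
  rcases K.eq_one_or (K.commute_of_mem hcl)
    (fun y hy => (congrArg Subtype.val (hmk ⟨y, Subgroup.subset_closure hy⟩)).symm) with h | h
  · exfalso
    have := K.noRel (L.map s) hlnd (fun a ha => (hl a ha).1) hlc (fun y _ => h ▸ Commute.one_left y)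
      (by rw [List.length_map, hlen])
    rw [List.map_eq_nil_iff] at this
    simp [this] at hlen
  · exact h

theorem self_mem : d ∈ Subgroup.closure (perp D d) := by
  obtain ⟨L, -, -, hL, -, hp⟩ := K.exists_seven
  have h : L.prod ∈ Subgroup.closure (perp D d) := list_prod_mem fun a ha => Subgroup.subset_closure (hL a ha)
  rwa [hp] at h

/-- The centre of the neighbourhood group. -/
theorem center_eq : Subgroup.center ↥(Subgroup.closure (perp D d)) =
    (Subgroup.zpowers d).subgroupOf (Subgroup.closure (perp D d)) := by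
  ext z
  rw [Subgroup.mem_center_iff, Subgroup.mem_subgroupOf]
  constructor
  · intro h
    rcases K.eq_one_or (K.commute_of_mem z.2)
      (fun y hy => (congrArg Subtype.val (h ⟨y, Subgroup.subset_closure hy⟩)).symm) with h' | h'
    · rw [h']; exact one_mem _
    · rw [h']; exact Subgroup.mem_zpowers d
  · rintro ⟨k, hk⟩ y
    refine Subtype.ext ?_
    show (y : G) * (z : G) = z * y
    rw [← hk]
    exact ((K.commute_of_mem y.2).zpow_right k).eq

/-- The centralizer of `d` is the neighbourhood group. -/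
theorem centralizer_eq : Subgroup.closure (perp D d) = Subgroup.centralizer ({d} : Set G) := by
  obtain ⟨F, _, _, hF, e, f, ⟨C⟩⟩ := K.exists_coord
  refine le_antisymm K.closure_le fun g hg => ?_
  have hg' : Commute g d := Subgroup.mem_centralizer_singleton_iff.1 hg
  have hmap : (Subgroup.closure (perp D d)).map (MulAut.conj g).toMonoidHom = Subgroup.closure (perp D d) := by
    have h := map_conj_closure_perp K.trans g d
    rwa [hg'.eq, mul_inv_cancel_right] at h
  obtain ⟨θ, hθ⟩ : ∃ θ : ↥(Subgroup.closure (perp D d)) ≃* ↥(Subgroup.closure (perp D d)),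
      ∀ x, ((θ x : ↥(Subgroup.closure (perp D d))) : G) = g * (x : G) * g⁻¹ :=
    ⟨((MulAut.conj g).subgroupMap _).trans (MulEquiv.subgroupCongr hmap), fun x => rfl⟩
  obtain ⟨ψ, hψdef⟩ : ∃ ψ, ψ = QuotientGroup.congr _ _ θ (AutPSL.map_center θ) := ⟨_, rfl⟩
  have hψ : ∀ x (hx : x ∈ perp D d), ψ (bar hx) = bar (K.conj_mem hg' hx) := fun x hx => by
    simp only [hψdef, bar, QuotientGroup.congr_mk]
    exact congrArg QuotientGroup.mk (Subtype.ext (hθ _))
  have hψE : ∀ y ∈ image (perp D d), ψ y ∈ image (perp D d) := fun y hy => by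
    obtain ⟨x, hx, rfl⟩ := exists_bar hy
    rw [hψ x hx]; exact bar_mem _
  obtain ⟨k₀, hk₀⟩ := K.imgTrans.trans _ (hψE e C.data.mem) e C.data.mem
  obtain ⟨u, -, hu⟩ := C.aut_inner (φ₀ := MulAut.conj k₀ * ψ)
    (by rw [MulAut.mul_apply, MulAut.conj_apply, hk₀])
    fun y hy => by rw [MulAut.mul_apply, MulAut.conj_apply]; exact K.imgTrans.conj k₀ _ (hψE y hy)
  obtain ⟨⟨h, hh⟩, hhe⟩ := QuotientGroup.mk_surjective (k₀⁻¹ * u)
  have hψh : ψ = MulAut.conj (QuotientGroup.mk ⟨h, hh⟩) := by
    rw [hhe, map_mul, ← hu, map_inv, inv_mul_cancel_left]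
  have hfix : ∀ x ∈ perp D d, g * x * g⁻¹ = h * x * h⁻¹ := fun x hx => by
    refine bar_inj K.trans (fun _ h => h.1) K.nc (K.conj_mem hg' hx) (K.conj_mem (K.commute_of_mem hh) hx) ?_
    rw [← hψ x hx, hψh]
    rfl
  suffices hz : h⁻¹ * g ∈ Subgroup.closure (perp D d) by simpa using mul_mem hh hz
  rcases K.eq_one_or (z := h⁻¹ * g) ((K.commute_of_mem hh).inv_left.mul_left hg') (fun y hy => by
    refine mul_inv_eq_iff_eq_mul.1 ?_
    rw [show h⁻¹ * g * y * (h⁻¹ * g)⁻¹ = h⁻¹ * (g * y * g⁻¹) * h by group, hfix y hy]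
    group) with e | e <;> rw [e]
  exacts [one_mem _, K.self_mem]

end M24Data

end Cfsg.Lib.Fischer.Relations
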