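import Cfsg.Agent.Lib.Fischer.Relations.TwentyFour.Involutions
import Cfsg.Agent.Lib.Fischer.Relations.Plane

/-!
# The only class of 3-transpositions in type M(24)

For two commuting pairs `a, b` and `c, e` with `c` commuting with neither of `a, b` and `e` with all, the product
of `a * b * R` and `c * e * R` has order four, so no product of two to four members lies in a class of
3-transpositions.
-/

set_option autoImplicit false
set_option linter.unusedSectionVars false

namespace Cfsg.Lib.Fischer.Relations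

open Module Cfsg Cfsg.Lib.Fischer Cfsg.Lib.Linear.Herm Cfsg.Agent.S1631 Cfsg.Lib.Fischer.RadicalAbelian
open Cfsg.Lib.Linear

variable {G : Type*} [Group G] [Finite G] {D : Set G}

theorem Coord.exists_fork {F : Type} [Field F] [Fintype F] {hF : Fintype.card F = 2 ^ 2} {d : G}
    (C : Coord D d hF) :
    ∃ a b c : G, a ∈ perp D d ∧ b ∈ perp D d ∧ c ∈ perp D d ∧ a ≠ b ∧ Commute a b ∧ ¬ Commute c a ∧
      ¬ Commute c b := by
  classical
  have hK := fourField hF
  have hS := hB_isSymm hF 6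
  have hND := hB_nondegenerate hF 6
  have h5 : 5 ≤ finrank F (Fin 6 → F) := by rw [finrank_fin_fun]; norm_num
  obtain ⟨a, ha, -, -, -⟩ := C.exists_point (pv_ne_zero (a := (1 : F)) (b := 0) (c := 0) (Or.inl one_ne_zero))
    (pv_orth hF _ _ _ _ _ _)
  obtain ⟨c, hc, hac⟩ := C.U.exists_noncommute hK hS hND h5 ha
  have hac' : hB hF 6 (C.U.c a) (C.U.c c) ≠ 0 := fun h => hac ((C.U.comm a ha c hc).2 h)
  obtain ⟨z, hz, hz0, haz, hcz⟩ : ∃ z, hB hF 6 z z = 0 ∧ z ≠ 0 ∧ hB hF 6 (C.U.c a) z = 0 ∧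
      hB hF 6 (C.U.c c) z = 0 := by
    by_contra h
    push Not at h
    obtain ⟨u, hu, hu0⟩ : ∃ u ∈ LinearMap.ker ((hB hF 6 (C.U.c a)).prod (hB hF 6 (C.U.c c))), u ≠ 0 := by
      refine Submodule.exists_mem_ne_zero_of_ne_bot fun hbot => ?_
      have h1 := LinearMap.finrank_range_add_finrank_ker ((hB hF 6 (C.U.c a)).prod (hB hF 6 (C.U.c c)))
      have h2 := Submodule.finrank_le (LinearMap.range ((hB hF 6 (C.U.c a)).prod (hB hF 6 (C.U.c c))))
      rw [Module.finrank_prod, Module.finrank_self] at h2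
      rw [hbot, finrank_bot, finrank_fin_fun] at h1
      omega
    simp only [LinearMap.ker_prod, Submodule.mem_inf, LinearMap.mem_ker] at hu
    exact hu0 (Relations.Linear.span_iso_pair hK hS hND h5 (C.U.iso a ha) (C.U.iso c hc) hac'
      (f := LinearMap.id) (fun r h1 h2 h3 h4 => absurd h4 (h r h1 h2 h3)) hu.1 hu.2)
  have hza : hB hF 6 z (C.U.c a) = 0 := hS.isRefl _ _ haz
  have hca : hB hF 6 (C.U.c c) (C.U.c a) ≠ 0 := fun h => hac' (hS.isRefl _ _ h)
  have hv0 : z + C.U.c a ≠ 0 := fun h => by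
    have := congrArg (hB hF 6 (C.U.c c)) h
    rw [map_add, hcz, zero_add, map_zero] at this
    exact hca this
  have hv : hB hF 6 (z + C.U.c a) (z + C.U.c a) = 0 := by
    simp only [map_add, LinearMap.add_apply, hz, haz, hza, C.U.iso a ha, add_zero]
  obtain ⟨b, hb, k, hk, e⟩ := C.exists_point hv0 hv
  refine ⟨a, b, c, ha, hb, hc, fun h => ?_, ?_, fun h => hac h.symm, fun h => ?_⟩
  · subst h
    have e' : z = (k⁻¹ - 1) • C.U.c a := by
      rw [sub_smul, one_smul, eq_sub_iff_add_eq]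
      conv_rhs => rw [e, smul_smul, inv_mul_cancel₀ hk, one_smul]
    rw [e', map_smul, smul_eq_mul, mul_eq_zero, or_iff_left hca] at hcz
    rw [e', hcz, zero_smul] at hz0
    exact hz0 rfl
  · refine (C.U.comm a ha b hb).2 ?_
    rw [e, map_smul, map_add, haz, C.U.iso a ha, add_zero, smul_zero]
  · have := (C.U.comm c hc b hb).1 h
    rw [e, map_smul, map_add, hcz, zero_add, smul_eq_mul, mul_eq_zero] at this
    exact hca (this.resolve_left hk)

namespace M24Data

variable {d : G} (K : M24Data D d)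
include K

/-- A fork inside the common neighbours of two commuting members. -/
theorem exists_fork : ∃ a b c e r : G, a ∈ perp D d ∧ b ∈ perp D d ∧ c ∈ perp D d ∧ e ∈ perp D d ∧ r ∈ perp D d ∧
    a ≠ b ∧ Commute a b ∧ ¬ Commute c a ∧ ¬ Commute c b ∧
    (∀ u ∈ [a, b, c], e ≠ u ∧ r ≠ u ∧ Commute e u ∧ Commute r u) ∧ e ≠ r ∧ Commute e r := by
  have hD := K.trans
  have hsub : ∀ u ∈ perp D d, u ∈ D := fun u hu => hu.1
  obtain ⟨F, _, _, hF, r₁, f, ⟨C⟩⟩ := K.exists_coord
  obtain ⟨a₂, b₂, c₂, ha, hb, hc, hab, cab, nca, ncb⟩ := C.co.exists_fork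
  obtain ⟨r, hr, rfl⟩ := exists_bar C.data.mem
  obtain ⟨e, he, rfl⟩ := exists_bar C.bmem.1
  -- lifting a member of the last neighbourhood
  have hl : ∀ u, u ∈ perp (image (perp (image (perp D d)) (bar hr))) (bar C.bmem) → ∃ x, ∃ hx : x ∈ perp D d,
      ∃ hx' : bar hx ∈ perp (image (perp D d)) (bar hr), bar hx' = u ∧ x ≠ r ∧ x ≠ e ∧ Commute r x ∧ Commute e x := by
    intro u hu
    obtain ⟨w, hw, rfl⟩ := exists_bar hu.1
    obtain ⟨x, hx, rfl⟩ := exists_bar hw.1
    refine ⟨x, hx, hw, rfl, fun h => hw.2.1 ?_, fun h => hu.2.1 ?_, (bar_commute hD hsub hr hx).1 hw.2.2,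
      (bar_commute hD hsub he hx).1 ((bar_commute C.data.trans (fun _ h => h.1) C.bmem hw).1 hu.2.2)⟩
    · subst h; rfl
    · subst h; rfl
  obtain ⟨a, ha₁, ha₂, rfl, a1, a2, a3, a4⟩ := hl a₂ ha
  obtain ⟨b, hb₁, hb₂, rfl, b1, b2, b3, b4⟩ := hl b₂ hb
  obtain ⟨c, hc₁, hc₂, rfl, c1, c2, c3, c4⟩ := hl c₂ hc
  have cm : ∀ {x y : G} (hx : x ∈ perp D d) (hy : y ∈ perp D d) (hx' : bar hx ∈ perp (image (perp D d)) (bar hr))
      (hy' : bar hy ∈ perp (image (perp D d)) (bar hr)), Commute (bar hx') (bar hy') ↔ Commute x y :=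
    fun hx hy hx' hy' => (bar_commute C.data.trans (fun _ h => h.1) hx' hy').trans (bar_commute hD hsub hx hy)
  refine ⟨a, b, c, e, r, ha₁, hb₁, hc₁, he, hr, fun h => hab (by subst h; rfl), (cm ha₁ hb₁ ha₂ hb₂).1 cab,
    fun h => nca ((cm hc₁ ha₁ hc₂ ha₂).2 h), fun h => ncb ((cm hc₁ hb₁ hc₂ hb₂).2 h), ?_,
    fun h => C.bmem.2.1 (by subst h; rfl), ((bar_commute hD hsub hr he).1 C.bmem.2.2).symm⟩
  simp only [List.mem_cons, List.not_mem_nil, or_false]
  rintro u (rfl | rfl | rfl)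
  exacts [⟨a2.symm, a1.symm, a4, a3⟩, ⟨b2.symm, b1.symm, b4, b3⟩, ⟨c2.symm, c1.symm, c4, c3⟩]

/-- The fork products have product of order at least four. -/
theorem fork_order {a b c e : G} (ha : a ∈ D) (hb : b ∈ D) (hc : c ∈ D) (he : e ∈ D) (hab : a ≠ b)
    (cab : Commute a b) (nca : ¬ Commute c a) (ncb : ¬ Commute c b) (hec : e ≠ c) (cea : Commute e a)
    (ceb : Commute e b) (cec : Commute e c) :
    (a * b * (c * e)) ^ 2 ≠ 1 ∧ (a * b * (c * e)) ^ 3 ≠ 1 := by
  have hD := K.trans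
  have m : ∀ {x : G}, x ∈ D → x * x = 1 := fun hx => mul_self hD hx
  obtain ⟨u, hu⟩ : ∃ u, u = a * b := ⟨_, rfl⟩
  obtain ⟨v, hv⟩ : ∃ v, v = c * e := ⟨_, rfl⟩
  rw [← hu, ← hv]
  have hu2 : u * u = 1 := by rw [hu, cab.symm.mul_mul_mul_comm, m ha, m hb, one_mul]
  have hv2 : v * v = 1 := by rw [hv, cec.mul_mul_mul_comm, m hc, m he, one_mul]
  have hac : cj c a ∈ D := by
    have := hD.conj c a ha
    rwa [inv_eq hD hc, ← cj_def] at this
  have hbc : cj c b ∈ D := by
    have := hD.conj c b hb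
    rwa [inv_eq hD hc, ← cj_def] at this
  have hna : ∀ {x : G}, ¬ Commute c x → ¬ Commute c (cj c x) := fun {x} hn h => hn (by
    have h' := (Commute.conj_iff c).2 h
    rwa [mul_inv_cancel_right, show c * cj c x * c⁻¹ = x by
      rw [cj_def, inv_eq hD hc, show c * (c * x * c) * c = c * c * x * (c * c) by group, m hc, one_mul, mul_one]] at h')
  have cjc : Commute (cj c a) (cj c b) := by
    have h := (Commute.conj_iff c).2 cab
    rw [inv_eq hD hc] at h
    exact h
  have huv : v * u * v = cj c a * cj c b := by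
    have he' : Commute e u := hu ▸ cea.mul_right ceb
    rw [hv, cj_def, cj_def, show c * e * u * (c * e) = c * (e * u) * c * e by simp [mul_assoc], he'.eq,
      show c * (u * e) * c * e = c * u * (e * c) * e by simp [mul_assoc], cec.eq,
      show c * u * (c * e) * e = c * u * c * (e * e) by simp [mul_assoc], m he, mul_one, hu,
      show c * a * c * (c * b * c) = c * a * (c * c) * b * c by simp [mul_assoc], m hc, mul_one]
    simp [mul_assoc]
  have hpair : ∀ {x y p q : G}, x ∈ D → y ∈ D → p ∈ D → q ∈ D → x ≠ y → p ≠ q → Commute x y → Commute p q →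
      x * y = p * q → ∀ z, (z = x ∨ z = y) → (z = p ∨ z = q) := by
    intro x y p q hx hy hp hq hxy hpq cxy cpq h z hz
    have hiff := mem_iff_of_prod_eq hD K.noRel (l := [x, y]) (l' := [p, q]) (by simp [hxy]) (by simp [hpq])
      (by simp [hx, hy]) (by simp [hp, hq]) (by simp [cxy, cxy.symm]) (by simp [cpq, cpq.symm]) (by simp) (by simp)
      (by simpa using h) z
    simpa using hiff.1 (by simpa using hz)
  have hcjne : cj c a ≠ cj c b := fun h => hab ((cj_inj hD hc).1 h)
  constructor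
  · intro h
    have e1 : v * u * v = u := by
      rw [pow_two, ← eq_inv_iff_mul_eq_one, mul_inv_rev, inv_eq_of_mul_eq_one_right hu2,
        inv_eq_of_mul_eq_one_right hv2] at h
      rw [← h, mul_assoc, hv2, mul_one]
    rw [huv, hu] at e1
    rcases hpair hac hbc ha hb hcjne hab cjc cab e1 _ (Or.inl rfl) with h' | h'
    · exact nca ((cj_eq_self hD hc).1 h')
    · refine ncb ?_
      have hbe : cj c b = a := by rw [← h', cj_cj hD hc]
      rcases hpair hac hbc ha hb hcjne hab cjc cab e1 _ (Or.inr rfl) with h'' | h''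
      · exfalso
        refine nca ?_
        have : Commute a (cj c a) := h' ▸ cab
        have hb' := braid hD hc ha nca
        rw [hb', cj_def] at this
        have := (Commute.conj_iff a).2 this
        rw [inv_eq hD ha, show a * a * a = a by rw [m ha, one_mul],
          show a * (a * c * a) * a = a * a * c * (a * a) by group, m ha, one_mul, mul_one] at this
        exact this.symm
      · exact (cj_eq_self hD hc).1 h''
  · intro h
    have e1 : v * u * v = u * v * u := by
      rw [pow_succ, pow_two, show u * v * (u * v) * (u * v) = (u * v * u) * (v * u * v) by group,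
        ← eq_inv_iff_mul_eq_one, mul_inv_rev, mul_inv_rev, inv_eq_of_mul_eq_one_right hu2,
        inv_eq_of_mul_eq_one_right hv2, ← mul_assoc] at h
      exact h.symm
    obtain ⟨t, ht⟩ : ∃ t, t = u * c * u⁻¹ := ⟨_, rfl⟩
    have htD : t ∈ D := ht ▸ hD.conj u c hc
    have hue : Commute u e := hu ▸ (cea.mul_right ceb).symm
    have hte : Commute t e := ht ▸ (hue.mul_left cec.symm).mul_left hue.inv_left
    have hne : t ≠ e := fun h' => hec (by
      refine conj_injective (x := u) ?_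
      show u * e * u⁻¹ = u * c * u⁻¹
      rw [hue.eq, mul_inv_cancel_right, ← ht, h'])
    have e2 : u * v * u = t * e := by
      rw [hv, ht, inv_eq_of_mul_eq_one_right hu2, show u * (c * e) * u = u * c * (e * u) by simp [mul_assoc],
        hue.symm.eq]
      simp [mul_assoc]
    rw [huv, e2] at e1
    rcases hpair htD he hac hbc hne hcjne hte cjc e1.symm _ (Or.inr rfl) with h' | h'
    · exact hna nca (h' ▸ cec.symm)
    · exact hna ncb (h' ▸ cec.symm)

/-- A product of two to four members is not in a class of 3-transpositions. -/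
theorem exists_far {m : ℕ} (hm2 : 2 ≤ m) (hm : m ≤ 4) {x : G} (hx : IsProd D m x) :
    ∃ y, IsConj x y ∧ (x * y) ^ 2 ≠ 1 ∧ (x * y) ^ 3 ≠ 1 := by
  have hD := K.trans
  obtain ⟨a, b, c, e, r, ha, hb, hc, he, hr, hab, cab, nca, ncb, hall, her, cer⟩ := K.exists_fork
  simp only [List.mem_cons, List.not_mem_nil, or_false, forall_eq_or_imp, forall_eq] at hall
  obtain ⟨⟨ea, ra, cea, cra⟩, ⟨eb, rb, ceb, crb⟩, ec, rc, cec, crc⟩ := hall
  obtain ⟨R, hRdef⟩ : ∃ R : List G, R = [r, d].take (m - 2) := ⟨_, rfl⟩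
  have hRlen : R.length + 2 = m := by rw [hRdef, List.length_take]; simp; omega
  have hRm : ∀ u ∈ R, u = r ∨ u = d := fun u hu => by
    rw [hRdef] at hu
    simpa using List.mem_of_mem_take hu
  have hRn : R.Nodup := hRdef ▸ List.Nodup.sublist (List.take_sublist _ _) (by simp [hr.2.1])
  have hRD : ∀ u ∈ R, u ∈ D := fun u hu => by
    rcases hRm u hu with rfl | rfl
    exacts [hr.1, K.mem]
  have hRc : ∀ u ∈ R, ∀ v ∈ R, Commute u v := fun u hu v hv => by
    rcases hRm u hu with rfl | rfl <;> rcases hRm v hv with rfl | rfl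
    exacts [Commute.refl _, hr.2.2.symm, hr.2.2, Commute.refl _]
  have hRall : ∀ u ∈ R, u ≠ a ∧ u ≠ b ∧ u ≠ c ∧ u ≠ e ∧ Commute u a ∧ Commute u b ∧ Commute u c ∧ Commute u e :=
    fun u hu => by
      rcases hRm u hu with rfl | rfl
      exacts [⟨ra, rb, rc, her.symm, cra, crb, crc, cer.symm⟩,
        ⟨ha.2.1.symm, hb.2.1.symm, hc.2.1.symm, he.2.1.symm, ha.2.2, hb.2.2, hc.2.2, he.2.2⟩]
  have hprod : ∀ p q : G, p ∈ D → q ∈ D → p ≠ q → Commute p q →
      (∀ u ∈ R, u ≠ p ∧ u ≠ q ∧ Commute u p ∧ Commute u q) → IsProd D m (p * q * R.prod) := by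
    intro p q hp hq hpq cpq h
    refine ⟨p :: q :: R, ?_, by simpa using hRlen, ?_, ?_, by simp [mul_assoc]⟩
    · simp only [List.nodup_cons, List.mem_cons, not_or]
      exact ⟨⟨hpq, fun h' => (h p h').1 rfl⟩, fun h' => (h q h').2.1 rfl, hRn⟩
    · intro u hu
      simp only [List.mem_cons] at hu
      rcases hu with rfl | rfl | hu
      exacts [hp, hq, hRD u hu]
    · intro u hu v hv
      simp only [List.mem_cons] at hu hv
      rcases hu with eu | eu | hu <;> rcases hv with ev | ev | hv <;>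
        first | rw [eu, ev] | (rw [eu]) | (rw [ev]) | skip
      · exact cpq
      · exact (h v hv).2.2.1.symm
      · exact cpq.symm
      · exact (h v hv).2.2.2.symm
      · exact (h u hu).2.2.1
      · exact (h u hu).2.2.2
      · exact hRc u hu v hv
  have hx₀ := hprod a b ha.1 hb.1 hab cab fun u hu =>
    ⟨(hRall u hu).1, (hRall u hu).2.1, (hRall u hu).2.2.2.2.1, (hRall u hu).2.2.2.2.2.1⟩
  have hy₀ := hprod c e hc.1 he.1 ec.symm cec.symm fun u hu =>
    ⟨(hRall u hu).2.2.1, (hRall u hu).2.2.2.1, (hRall u hu).2.2.2.2.2.2.1, (hRall u hu).2.2.2.2.2.2.2⟩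
  obtain ⟨g, hg⟩ := isConj_iff.1 (K.isConj_prod (by omega) hm hx₀ hx)
  refine ⟨g * (c * e * R.prod) * g⁻¹,
    (K.isConj_prod (by omega) hm hx hy₀).trans (isConj_iff.2 ⟨g, rfl⟩), ?_⟩
  have hR2 : R.prod * R.prod = 1 := prod_sq hD hRD hRc
  have hRcomm : Commute R.prod (c * e) := Commute.list_prod_left _ _ fun u hu =>
    (hRall u hu).2.2.2.2.2.2.1.mul_right (hRall u hu).2.2.2.2.2.2.2
  have e' : x * (g * (c * e * R.prod) * g⁻¹) = g * (a * b * (c * e)) * g⁻¹ := by
    rw [← hg, show g * (a * b * R.prod) * g⁻¹ * (g * (c * e * R.prod) * g⁻¹) =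
      g * (a * b * (R.prod * (c * e)) * R.prod) * g⁻¹ by group, hRcomm.eq,
      show g * (a * b * (c * e * R.prod) * R.prod) * g⁻¹ = g * (a * b * (c * e) * (R.prod * R.prod)) * g⁻¹ by group,
      hR2, mul_one]
  obtain ⟨h1, h2⟩ := K.fork_order ha.1 hb.1 hc.1 he.1 hab cab nca ncb ec cea ceb cec
  rw [e', conj_pow, conj_pow, Ne, Ne, conj_eq_one_iff, conj_eq_one_iff]
  exact ⟨h1, h2⟩

/-- The members form the only class of 3-transpositions. -/
theorem class_eq {D' : Set G} (hD' : Cfsg.IsThreeTranspositionClass D') : D' = D := by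
  obtain ⟨⟨hord, h23⟩, ⟨x, hx, hconj⟩, -⟩ := hD'
  obtain ⟨m, hm, hp⟩ := K.isProd_of_sq (x := x) (by rw [← pow_two, ← hord x hx, pow_orderOf_eq_one])
  rcases Nat.lt_trichotomy m 1 with h | h | h
  · exfalso
    obtain ⟨l, -, hlen, -, -, e⟩ := hp
    rw [List.length_eq_zero_iff.1 (show l.length = 0 by omega), List.prod_nil] at e
    have := hord x hx
    rw [← e, orderOf_one] at this
    omega
  · obtain ⟨l, -, hlen, hl, -, e⟩ := hp
    obtain ⟨a, rfl⟩ := List.length_eq_one_iff.1 (hlen.trans h)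
    rw [List.prod_singleton] at e
    subst e
    rw [hconj]
    ext y
    refine ⟨fun hy => ?_, fun hy => ?_⟩
    · obtain ⟨g, rfl⟩ := isConj_iff.1 hy
      exact K.trans.conj g a (hl a (by simp))
    · obtain ⟨g, hg⟩ := K.trans.trans a (hl a (by simp)) y hy
      exact isConj_iff.2 ⟨g, hg⟩
  · exfalso
    obtain ⟨y, hy, h2, h3⟩ := K.exists_far (by omega) hm hp
    exact (h23 x hx y (hconj ▸ hy)).elim h2 h3

end M24Data

end Cfsg.Lib.Fischer.Relations
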