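import Cfsg.Agent.Lib.Fischer.Relations.TwentyFour.Fixed
import Cfsg.Agent.Lib.Fischer.Relations.Involutions.Twenty

/-!
# Involutions in type M(24)

An element of square one centralizes a member, so it is that member or one times a product of at most three of its
commuting neighbours.
-/

set_option autoImplicit false
set_option linter.unusedSectionVars false

namespace Cfsg.Lib.Fischer.Relations

open Cfsg Cfsg.Lib.Fischer

universe u

variable {G : Type u} [Group G] [Finite G] {D : Set G}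

/-- Prepending a member commuting with a short product. -/
theorem IsProd.cons {d : G} {l : List G} (hd : d ∈ D) (hn : l.Nodup) (hl : ∀ a ∈ l, a ∈ perp D d)
    (hc : ∀ a ∈ l, ∀ b ∈ l, Commute a b) : IsProd D (l.length + 1) (d * l.prod) := by
  refine ⟨d :: l, List.nodup_cons.2 ⟨fun h => (hl d h).2.1 rfl, hn⟩, List.length_cons, ?_, ?_, List.prod_cons⟩
  · intro a ha
    rcases List.mem_cons.1 ha with rfl | ha
    exacts [hd, (hl a ha).1]
  · intro a ha b hb
    rcases List.mem_cons.1 ha with ea | ha <;> rcases List.mem_cons.1 hb with eb | hb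
    · rw [ea, eb]
    · rw [ea]; exact (hl b hb).2.2
    · rw [eb]; exact (hl a ha).2.2.symm
    · exact hc a ha b hb

namespace M24Data

variable {d : G} (K : M24Data D d)
include K

/-- Commuting lists of the image class lift. -/
theorem lift_list :
    ∀ (L : List (↥(Subgroup.closure (perp D d)) ⧸ Subgroup.center ↥(Subgroup.closure (perp D d)))),
    L.Nodup → (∀ q ∈ L, q ∈ image (perp D d)) → (∀ q ∈ L, ∀ r ∈ L, Commute q r) →
    ∃ l : List G, l.length = L.length ∧ l.Nodup ∧ (∀ a ∈ l, a ∈ perp D d) ∧ (∀ a ∈ l, ∀ b ∈ l, Commute a b) ∧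
      (∀ a ∈ l, ∀ ha : a ∈ perp D d, bar ha ∈ L) ∧
      ∃ hP : l.prod ∈ Subgroup.closure (perp D d), pmk hP = L.prod
  | [], _, _, _ => ⟨[], rfl, List.nodup_nil, by simp, by simp, by simp, one_mem _, rfl⟩
  | q :: L, hnd, hl, hc => by
    rw [List.nodup_cons] at hnd
    obtain ⟨l, h1, h2, h3, h4, h5, hP, h7⟩ := lift_list L hnd.2 (fun r hr => hl r (by simp [hr]))
      fun r hr s hs => hc r (by simp [hr]) s (by simp [hs])
    obtain ⟨a, ha, rfl⟩ := exists_bar (hl q (by simp))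
    have hcm : ∀ b ∈ l, Commute a b := fun b hb =>
      (bar_commute K.trans (fun _ h => h.1) ha (h3 b hb)).1 (hc _ (by simp) _ (by simp [h5 b hb (h3 b hb)]))
    refine ⟨a :: l, by simp [h1], List.nodup_cons.2 ⟨fun h => hnd.1 (h5 a h ha), h2⟩, ?_, ?_, ?_,
      by rw [List.prod_cons]; exact mul_mem (Subgroup.subset_closure ha) hP, ?_⟩
    · intro b hb
      rcases List.mem_cons.1 hb with rfl | hb
      exacts [ha, h3 b hb]
    · intro b hb c hc'
      rcases List.mem_cons.1 hb with eb | hb <;> rcases List.mem_cons.1 hc' with ec | hc'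
      · rw [eb, ec]
      · rw [eb]; exact hcm c hc'
      · rw [ec]; exact (hcm b hb).symm
      · exact h4 b hb c hc'
    · intro b hb hb'
      rcases List.mem_cons.1 hb with rfl | hb
      exacts [List.mem_cons_self .., List.mem_cons_of_mem _ (h5 b hb hb')]
    · refine Eq.trans ?_ ((congrArg (bar ha * ·) h7).trans List.prod_cons.symm)
      exact congrArg QuotientGroup.mk (Subtype.ext List.prod_cons)

/-- An element of square one centralizing `d` is a short product. -/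
theorem isProd_of_commute {x : G} (hxd : Commute x d) (hx : x * x = 1) : ∃ m, m ≤ 4 ∧ IsProd D m x := by
  have hxH : x ∈ Subgroup.closure (perp D d) := by
    rw [K.centralizer_eq]
    exact Subgroup.mem_centralizer_singleton_iff.2 hxd
  obtain ⟨F, _, _, hF, e, f, ⟨C⟩⟩ := K.exists_coord
  have hxx : pmk hxH * pmk hxH = 1 :=
    (congrArg QuotientGroup.mk (Subtype.ext hx :
      (⟨x, hxH⟩ * ⟨x, hxH⟩ : ↥(Subgroup.closure (perp D d))) = 1) : _)
  obtain ⟨a, ha, hxa⟩ := exists_fixed_member K.imgTrans (by rw [K.img_order.1]; norm_num) hxx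
  obtain ⟨g, hg⟩ := K.imgTrans.trans a ha e C.data.mem
  obtain ⟨m, hm, hy⟩ := C.involution_isProd C.noRel (x := g * pmk hxH * g⁻¹) (hg ▸ (Commute.conj_iff g).2 hxa) (by
    calc g * pmk hxH * g⁻¹ * (g * pmk hxH * g⁻¹) = g * (pmk hxH * pmk hxH) * g⁻¹ := by group
      _ = 1 := by rw [hxx, mul_one, mul_inv_cancel])
  obtain ⟨L, hn, hlen, hl, hc, hp⟩ : IsProd (image (perp D d)) m (pmk hxH) := by
    simpa [mul_assoc] using hy.conj K.imgTrans g⁻¹
  obtain ⟨l, l1, l2, l3, l4, -, hP, l7⟩ := K.lift_list L hn hl hc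
  have hz := QuotientGroup.eq.1 (l7.trans hp)
  rw [Subgroup.mem_center_iff] at hz
  rcases K.eq_one_or (z := l.prod⁻¹ * x) (K.commute_of_mem (mul_mem (inv_mem hP) hxH))
    (fun s hs => (congrArg Subtype.val (hz ⟨s, Subgroup.subset_closure hs⟩)).symm) with h | h
  · exact ⟨m, by omega, l, l2, l1.trans hlen, fun a ha => (l3 a ha).1, l4, inv_mul_eq_one.1 h⟩
  · refine ⟨m + 1, by omega, ?_⟩
    have h' : x = d * l.prod := by rw [inv_mul_eq_iff_eq_mul.1 h, (K.commute_of_mem hP).eq]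
    rw [h', ← hlen, ← l1]
    exact IsProd.cons K.mem l2 l3 l4

/-- An element of square one is a short product. -/
theorem isProd_of_sq {x : G} (hx : x * x = 1) : ∃ m, m ≤ 4 ∧ IsProd D m x := by
  obtain ⟨a, ha, hxa⟩ := K.exists_fixed hx
  obtain ⟨g, hg⟩ := K.trans.trans a ha d K.mem
  obtain ⟨m, hm, hy⟩ := K.isProd_of_commute (x := g * x * g⁻¹) (hg ▸ (Commute.conj_iff g).2 hxa) (by
    calc g * x * g⁻¹ * (g * x * g⁻¹) = g * (x * x) * g⁻¹ := by group
      _ = 1 := by rw [hx, mul_one, mul_inv_cancel])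
  exact ⟨m, hm, by simpa [mul_assoc] using hy.conj K.trans g⁻¹⟩

/-- A nonempty short product has order two. -/
theorem orderOf_prod {m : ℕ} {x : G} (hm1 : 1 ≤ m) (hm : m ≤ 7) (h : IsProd D m x) : orderOf x = 2 := by
  obtain ⟨l, hn, hlen, hl, hc, rfl⟩ := h
  refine orderOf_eq_prime (by rw [pow_two, prod_sq K.trans hl hc]) fun e => ?_
  have h0 := K.noRel l hn hl hc (fun y _ => e ▸ Commute.one_left y) (by omega)
  simp [h0] at hlen
  omega

/-- Ordered quadruples of commuting members form one orbit. -/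
theorem quad_transitive {a b c e a' b' c' e' : G} (ha : a ∈ D) (h : Triad D a b c) (he : e ∈ oth D a b c)
    (ha' : a' ∈ D) (h' : Triad D a' b' c') (he' : e' ∈ oth D a' b' c') :
    ∃ g : G, g * a * g⁻¹ = a' ∧ g * b * g⁻¹ = b' ∧ g * c * g⁻¹ = c' ∧ g * e * g⁻¹ = e' := by
  obtain ⟨g, rfl, rfl, rfl⟩ := K.tri_transitive h ha h' ha'
  have he₁ := oth_conj K.trans g he
  obtain ⟨k, hk, hkb, hkc, hke⟩ := K.oth_transitive ha' h' he₁ he'
  have hfix : ∀ u ∈ ({g * a * g⁻¹, g * b * g⁻¹, g * c * g⁻¹} : Set G), k * u * k⁻¹ = u := fun u hu => by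
    refine mul_inv_eq_iff_eq_mul.2 (Commute.eq ?_)
    rcases hu with rfl | rfl | rfl
    exacts [hk, hkb, hkc]
  refine ⟨k * g, ?_, ?_, ?_, ?_⟩
  · rw [show k * g * a * (k * g)⁻¹ = k * (g * a * g⁻¹) * k⁻¹ by group]; exact hfix _ (by simp)
  · rw [show k * g * b * (k * g)⁻¹ = k * (g * b * g⁻¹) * k⁻¹ by group]; exact hfix _ (by simp)
  · rw [show k * g * c * (k * g)⁻¹ = k * (g * c * g⁻¹) * k⁻¹ by group]; exact hfix _ (by simp)
  · rw [← hke]; group

/-- Short products of one length are conjugate. -/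
theorem isConj_prod {m : ℕ} {x y : G} (hm1 : 1 ≤ m) (hm : m ≤ 4) (hx : IsProd D m x) (hy : IsProd D m y) :
    IsConj x y := by
  have hT := K.trans
  obtain ⟨l, hn, hlen, hl, hc, rfl⟩ := hx
  obtain ⟨l', hn', hlen', hl', hc', rfl⟩ := hy
  suffices ∃ g : G, (l.map fun a => g * a * g⁻¹) = l' by
    obtain ⟨g, hg⟩ := this
    exact isConj_iff.2 ⟨g, by rw [← prod_conj_list hT g l, hg]⟩
  interval_cases m
  · obtain ⟨a, rfl⟩ := List.length_eq_one_iff.1 hlen
    obtain ⟨a', rfl⟩ := List.length_eq_one_iff.1 hlen'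
    obtain ⟨g, hg⟩ := hT.trans a (hl a (by simp)) a' (hl' a' (by simp))
    exact ⟨g, by simp [hg]⟩
  · obtain ⟨a, b, rfl⟩ := List.length_eq_two.1 hlen
    obtain ⟨a', b', rfl⟩ := List.length_eq_two.1 hlen'
    obtain ⟨g, hg⟩ := hT.trans a (hl a (by simp)) a' (hl' a' (by simp))
    have hp : b ∈ perp D a := ⟨hl b (by simp), fun e => by simp [e] at hn, hc a (by simp) b (by simp)⟩
    have hp' : b' ∈ perp D a' := ⟨hl' b' (by simp), fun e => by simp [e] at hn', hc' a' (by simp) b' (by simp)⟩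
    obtain ⟨k, hk, hkb⟩ := perp_transitive K.fis (hl' a' (by simp)) (hg ▸ conj_perp K.fis g a hp) hp'
    refine ⟨k * g, ?_⟩
    simp only [List.map_cons, List.map_nil, List.cons.injEq, and_true]
    refine ⟨?_, ?_⟩
    · rw [show k * g * a * (k * g)⁻¹ = k * (g * a * g⁻¹) * k⁻¹ by group, hg,
        (commute_of_mem_closure K.fis (hl' a' (by simp))
          (Subgroup.closure_mono (Set.subset_insert _ _) hk)).eq, mul_inv_cancel_right]
    · rw [← hkb]; group
  · obtain ⟨a, b, c, rfl⟩ := List.length_eq_three.1 hlen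
    obtain ⟨a', b', c', rfl⟩ := List.length_eq_three.1 hlen'
    simp only [List.mem_cons, List.not_mem_nil, or_false, forall_eq_or_imp, forall_eq] at hl hl' hc hc'
    simp only [List.nodup_cons, List.mem_cons, List.not_mem_nil, or_false, not_or, List.nodup_nil, and_true] at hn hn'
    obtain ⟨g, g1, g2, g3⟩ := K.tri_transitive (d₁ := a) (y₁ := b) (z₁ := c) (d₂ := a') (y₂ := b') (z₂ := c')
      ⟨⟨hl.2.1, Ne.symm hn.1.1, hc.1.2.1⟩, ⟨hl.2.2, Ne.symm hn.1.2, hc.1.2.2⟩, ⟨hl.2.2, Ne.symm hn.2.1, hc.2.1.2.2⟩⟩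
      hl.1
      ⟨⟨hl'.2.1, Ne.symm hn'.1.1, hc'.1.2.1⟩, ⟨hl'.2.2, Ne.symm hn'.1.2, hc'.1.2.2⟩,
        ⟨hl'.2.2, Ne.symm hn'.2.1, hc'.2.1.2.2⟩⟩ hl'.1
    exact ⟨g, by simp [g1, g2, g3]⟩
  · rcases l with _ | ⟨a, _ | ⟨b, _ | ⟨c, _ | ⟨e, _ | ⟨_, _⟩⟩⟩⟩⟩ <;>
      simp only [List.length_cons, List.length_nil] at hlen <;> try omega
    rcases l' with _ | ⟨a', _ | ⟨b', _ | ⟨c', _ | ⟨e', _ | ⟨_, _⟩⟩⟩⟩⟩ <;>
      simp only [List.length_cons, List.length_nil] at hlen' <;> try omega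
    simp only [List.mem_cons, List.not_mem_nil, or_false, forall_eq_or_imp, forall_eq] at hl hl' hc hc'
    simp only [List.nodup_cons, List.mem_cons, List.not_mem_nil, or_false, not_or, List.nodup_nil, and_true] at hn hn'
    obtain ⟨⟨nab, nac, nae⟩, ⟨nbc, nbe⟩, nce, -⟩ := hn
    obtain ⟨⟨nab', nac', nae'⟩, ⟨nbc', nbe'⟩, nce', -⟩ := hn'
    obtain ⟨g, g1, g2, g3, g4⟩ := K.quad_transitive (a := a) (b := b) (c := c) (e := e) (a' := a') (b' := b')
      (c' := c') (e' := e') hl.1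
      ⟨⟨hl.2.1, Ne.symm nab, hc.1.2.1⟩, ⟨hl.2.2.1, Ne.symm nac, hc.1.2.2.1⟩, ⟨hl.2.2.1, Ne.symm nbc, hc.2.1.2.2.1⟩⟩
      ⟨⟨hl.2.2.2, Ne.symm nae, hc.1.2.2.2⟩, ⟨hl.2.2.2, Ne.symm nbe, hc.2.1.2.2.2⟩,
        ⟨hl.2.2.2, Ne.symm nce, hc.2.2.1.2.2.2⟩⟩
      hl'.1
      ⟨⟨hl'.2.1, Ne.symm nab', hc'.1.2.1⟩, ⟨hl'.2.2.1, Ne.symm nac', hc'.1.2.2.1⟩,
        ⟨hl'.2.2.1, Ne.symm nbc', hc'.2.1.2.2.1⟩⟩
      ⟨⟨hl'.2.2.2, Ne.symm nae', hc'.1.2.2.2⟩, ⟨hl'.2.2.2, Ne.symm nbe', hc'.2.1.2.2.2⟩,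
        ⟨hl'.2.2.2, Ne.symm nce', hc'.2.2.1.2.2.2⟩⟩
    exact ⟨g, by simp [g1, g2, g3, g4]⟩

/-- Some product of any length up to four. -/
theorem exists_prod {m : ℕ} (hm : m ≤ 4) : ∃ x, IsProd D m x := by
  obtain ⟨E, hE, hc, hn, -⟩ := K.exists_base
  have hlen : (E.toFinite.toFinset.toList.take m).length = m := by
    rw [List.length_take, Finset.length_toList, ← Set.ncard_eq_toFinset_card E E.toFinite, hn]
    omega
  have hsub : ∀ a ∈ E.toFinite.toFinset.toList.take m, a ∈ E := fun a ha =>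
    E.toFinite.mem_toFinset.1 (Finset.mem_toList.1 (List.mem_of_mem_take ha))
  exact ⟨_, _, (Finset.nodup_toList _).sublist (List.take_sublist _ _), hlen, fun a ha => hE (hsub a ha),
    fun a ha b hb => hc a (hsub a ha) b (hsub b hb), rfl⟩

/-- The length of a short product is determined. -/
theorem prod_length {m m' : ℕ} {x : G} (hm : m ≤ 4) (hm' : m' ≤ 4) (h : IsProd D m x) (h' : IsProd D m' x) :
    m = m' := by
  wlog hle : m ≤ m' generalizing m m'
  · exact (this hm' hm h' h (by omega)).symm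
  by_contra hne
  obtain ⟨l, hn, hlen, hl, hc, e⟩ := h
  obtain ⟨l', hn', hlen', hl', hc', e'⟩ := h'
  have hiff := mem_iff_of_prod_eq K.trans K.noRel hn hn' hl hl' hc hc' (by omega) (by omega) (e.trans e'.symm)
  have := ((List.perm_ext_iff_of_nodup hn hn').2 hiff).length_eq
  omega

end M24Data

end Cfsg.Lib.Fischer.Relations
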