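import Cfsg.Agent.Lib.Fischer.Relations.TwentyFour.PairWitness
import Cfsg.Agent.Lib.Fischer.Fi22Recog.Iso
import Cfsg.Agent.Lib.CosetEnum.Fi22Aut

/-!
# The centralizer of a product of two members in the derived group

Modulo the pair the centralizer of a commuting pair is Fi22; its intersection with the derived group is a perfect
double cover, and adding an exchange of the pair gives the automorphism group.
-/

set_option autoImplicit false
set_option linter.unusedSectionVars false

namespace Cfsg.Lib.Fischer.Relations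

open Cfsg Cfsg.Lib.Fischer Cfsg.Spor
open scoped commutatorElement

universe u

variable {G : Type u} [Group G] [Finite G] {D : Set G}

namespace M24Data

variable {d : G} (K : M24Data D d)
include K

/-- The sign and the derived group. -/
theorem exists_global : ∃ χ : G →* ℤˣ, (∀ x ∈ D, χ x = -1) ∧ ∀ g, g ∈ commutator G ↔ χ g = 1 := by
  have hD := K.trans
  have hprim := K.prim
  obtain ⟨χ, hχ⟩ := K.exists_sign
  have hmem : ∀ x ∈ D, χ x = -1 := fun x hx => by
    obtain ⟨g, rfl⟩ := hD.trans d K.mem x hx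
    rw [map_mul, map_mul, map_inv, hχ, mul_right_comm, mul_inv_cancel, one_mul]
  obtain ⟨a, ha, -⟩ := exists_bar (S := perp D d) K.imgTrans.ne.choose_spec
  have hw : ∃ x ∈ D, ∃ y ∈ D, x ≠ y ∧ Commute x y := ⟨d, K.mem, a, ha.1, Ne.symm ha.2.1, ha.2.2⟩
  obtain ⟨h2, h3⟩ := core_le_center_of_primitive hD hprim hw
  obtain ⟨L, hLn, hL, hlay, -⟩ := exists_quasisimple hD hprim.2.1 h2 h3
  haveI := hLn
  have hidx := K.layer_index
  rw [hlay] at hidx
  have heq := commutator_eq hD hL hidx.le
  refine ⟨χ, hmem, fun g => ⟨fun hg => MonoidHom.mem_ker.1 (Abelianization.commutator_subset_ker χ hg), fun hg => ?_⟩⟩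
  have hdL : d ∉ commutator G := fun h => by
    have := MonoidHom.mem_ker.1 (Abelianization.commutator_subset_ker χ h)
    rw [hχ] at this
    exact absurd this (by decide)
  by_contra hg'
  have hgd : g * d ∈ commutator G := by
    rw [heq] at hg' hdL ⊢
    exact (Subgroup.mul_mem_iff_of_index_two hidx).2 ⟨fun h => absurd h hg', fun h => absurd h hdL⟩
  have := MonoidHom.mem_ker.1 (Abelianization.commutator_subset_ker χ hgd)
  rw [map_mul, hg, hχ, one_mul] at this
  exact absurd this (by decide)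

/-- At a standard pair the centralizer maps onto Fi22. -/
theorem exists_pair_proj_std : ∃ y, ∃ _ : y ∈ perp D d, ∃ π : ↥(Subgroup.centralizer ({d, y} : Set G)) →* Fi22,
    Function.Surjective π ∧ ∀ g, π g = 1 → (g : G) ∈ Subgroup.closure ({d, y} : Set G) := by
  have hD := K.trans
  have hsub : ∀ u ∈ perp D d, u ∈ D := fun u hu => hu.1
  obtain ⟨F, _, _, hF, e₁, f, ⟨C⟩⟩ := K.exists_coord
  obtain ⟨y, hy, rfl⟩ := exists_bar C.data.mem
  refine ⟨y, hy, ?_⟩
  obtain ⟨iso, -⟩ := Fi22Recog.exists_equiv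
    (D := image (perp (image (perp D d)) (bar hy)))
    ⟨C.data.imgTrans.set, C.data.imgTrans.conj, C.data.imgTrans.gen⟩ C.data.imgPrim C.data.img
  obtain ⟨Cz, hC⟩ : ∃ Cz, Cz = Subgroup.centralizer ({d, y} : Set G) := ⟨_, rfl⟩
  rw [← hC]
  have hCd : ∀ g ∈ Cz, Commute d g ∧ Commute y g := fun g hg => by
    rw [hC, Subgroup.mem_centralizer_iff] at hg
    exact ⟨hg d (by simp), hg y (by simp)⟩
  have hmemC : ∀ x, Commute d x → Commute y x → x ∈ Cz := fun x a b => by
    rw [hC, Subgroup.mem_centralizer_iff]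
    rintro _ (rfl | rfl)
    exacts [a.eq, b.eq]
  have hH1 : Cz ≤ Subgroup.closure (perp D d) := fun g hg => by
    rw [K.centralizer_eq]; exact Subgroup.mem_centralizer_singleton_iff.2 (hCd g hg).1.eq.symm
  obtain ⟨f₁, hf₁⟩ : ∃ f₁ : ↥Cz →* _, f₁ = (QuotientGroup.mk' (Subgroup.center ↥(Subgroup.closure (perp D d)))).comp
      (Subgroup.inclusion hH1) := ⟨_, rfl⟩
  have h2 : ∀ g, f₁ g ∈ Subgroup.closure (perp (image (perp D d)) (bar hy)) := fun g => by
    rw [(K.img_loc C.data.mem).1, Subgroup.mem_centralizer_singleton_iff, hf₁]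
    exact congrArg QuotientGroup.mk (Subtype.ext (hCd g g.2).2.eq.symm)
  obtain ⟨f₂, hf₂⟩ : ∃ f₂ : ↥Cz →* _, f₂ = (QuotientGroup.mk' (Subgroup.center
      ↥(Subgroup.closure (perp (image (perp D d)) (bar hy))))).comp (f₁.codRestrict _ h2) := ⟨_, rfl⟩
  refine ⟨iso.symm.toMonoidHom.comp f₂, iso.symm.surjective.comp ?_, fun g hg => ?_⟩
  · rw [← MonoidHom.range_eq_top, eq_top_iff, ← image_closure (perp (image (perp D d)) (bar hy)),
      Subgroup.closure_le]
    intro q hq
    obtain ⟨w, hw, rfl⟩ := exists_bar hq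
    obtain ⟨x, hx, rfl⟩ := exists_bar hw.1
    refine ⟨⟨x, hmemC x hx.2.2 ((bar_commute hD hsub hy hx).1 hw.2.2)⟩, ?_⟩
    subst hf₁; subst hf₂; rfl
  · have hg2 : f₂ g = 1 := iso.symm.injective (by rw [map_one]; exact hg)
    rw [hf₂, MonoidHom.comp_apply, QuotientGroup.mk'_apply, QuotientGroup.eq_one_iff, (K.img_loc C.data.mem).2,
      Subgroup.mem_subgroupOf] at hg2
    obtain ⟨k, hk⟩ := Subgroup.mem_zpowers_iff.1 hg2
    have hyC : y ∈ Cz := hmemC y hy.2.2 (Commute.refl _)
    have hfy : f₁ ⟨y, hyC⟩ = bar hy := by subst hf₁; rfl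
    have h1 : f₁ (g * (⟨y, hyC⟩ ^ k)⁻¹) = 1 := by
      rw [map_mul, map_inv, map_zpow, hfy, hk]; exact mul_inv_cancel _
    rw [hf₁, MonoidHom.comp_apply, QuotientGroup.mk'_apply, QuotientGroup.eq_one_iff, K.center_eq,
      Subgroup.mem_subgroupOf] at h1
    obtain ⟨j, hj⟩ := Subgroup.mem_zpowers_iff.1 h1
    have h1' : (g : G) * (y ^ k)⁻¹ ∈ Subgroup.closure ({d, y} : Set G) := by
      rw [show (g : G) * (y ^ k)⁻¹ = d ^ j from hj.symm]
      exact zpow_mem (Subgroup.subset_closure (show d ∈ ({d, y} : Set G) from Or.inl rfl)) j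
    simpa using mul_mem h1' (zpow_mem (Subgroup.subset_closure (show y ∈ ({d, y} : Set G) from Or.inr rfl)) k)

/-- The centralizer of a commuting pair maps onto Fi22. -/
theorem exists_pair_proj {a b : G} (ha : a ∈ D) (hb : b ∈ perp D a) :
    ∃ π : ↥(Subgroup.centralizer ({a, b} : Set G)) →* Fi22,
      Function.Surjective π ∧ ∀ g, π g = 1 → (g : G) ∈ Subgroup.closure ({a, b} : Set G) := by
  obtain ⟨y, hy, π, hπs, hπk⟩ := K.exists_pair_proj_std
  obtain ⟨g, ga, gb⟩ := K.exists_move ha hb hy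
  have himg : (fun u => g * u * g⁻¹) '' ({a, b} : Set G) = {d, y} := by
    rw [Set.image_insert_eq, Set.image_singleton, ga, gb]
  have hmap : (Subgroup.centralizer ({a, b} : Set G)).map (MulAut.conj g).toMonoidHom =
      Subgroup.centralizer ({d, y} : Set G) := by
    rw [centralizer_map, himg]
  obtain ⟨θ, hθ⟩ : ∃ θ : ↥(Subgroup.centralizer ({a, b} : Set G)) ≃* ↥(Subgroup.centralizer ({d, y} : Set G)),
      ∀ u, (θ u : G) = g * u * g⁻¹ :=
    ⟨((MulAut.conj g).subgroupMap _).trans (MulEquiv.subgroupCongr hmap), fun u => rfl⟩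
  refine ⟨π.comp θ.toMonoidHom, hπs.comp θ.surjective, fun u hu => ?_⟩
  have h := hπk (θ u) hu
  rw [hθ, ← himg] at h
  have h' : (MulAut.conj g).toMonoidHom (u : G) ∈
      (Subgroup.closure ({a, b} : Set G)).map (MulAut.conj g).toMonoidHom := by
    rw [MonoidHom.map_closure]
    exact h
  obtain ⟨w, hw, e⟩ := h'
  have e' : (MulAut.conj g) w = (MulAut.conj g) (u : G) := e
  exact (MulAut.conj g).injective e' ▸ hw

end M24Data

/-- The group generated by two commuting members. -/
theorem closure_pair (hD : Trans D) {a b : G} (ha : a ∈ D) (hb : b ∈ D) (hab : Commute a b) {g : G}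
    (hg : g ∈ Subgroup.closure ({a, b} : Set G)) : g = 1 ∨ g = a ∨ g = b ∨ g = a * b := by
  induction hg using Subgroup.closure_induction with
  | mem x hx => rcases hx with rfl | rfl <;> simp
  | one => exact Or.inl rfl
  | mul x y _ _ hx hy =>
    have e1 : a * (a * b) = b := by rw [← mul_assoc, mul_self hD ha, one_mul]
    have e2 : b * (a * b) = a := by rw [hab.eq, ← mul_assoc, mul_self hD hb, one_mul]
    have e3 : a * b * a = b := by rw [hab.eq, mul_assoc, mul_self hD ha, mul_one]
    have e4 : a * b * b = a := by rw [mul_assoc, mul_self hD hb, mul_one]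
    rcases hx with rfl | rfl | rfl | rfl <;> rcases hy with rfl | rfl | rfl | rfl <;>
      simp [mul_self hD ha, mul_self hD hb, e1, e2, e3, e4, hab.eq.symm]
    rw [← mul_assoc, e3, mul_self hD hb]
    simp
  | inv x _ hx =>
    rcases hx with rfl | rfl | rfl | rfl
    · simp
    · rw [inv_eq hD ha]; simp
    · rw [inv_eq hD hb]; simp
    · rw [mul_inv_rev, inv_eq hD ha, inv_eq hD hb, hab.eq]; simp

end Cfsg.Lib.Fischer.Relations
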