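import Cfsg.Agent.Lib.Fischer.Relations.TwentyFour.QuadKernel
import Cfsg.Agent.Lib.Fischer.Relations.TwentyFour.PairCentralizer
import Cfsg.Agent.Lib.Core.Layer
import Cfsg.Agent.Lib.Extra.Structure
import Cfsg.Agent.Lib.Linear.PSUSimple
import Cfsg.Agent.Lib.Linear.PSUFourSeven

/-!
# The centralizer of a product of four members in the derived group of a group of type M(24)

It is `2¹⁺¹²·3·U₄(3).2`.
-/

set_option autoImplicit false
set_option linter.unusedSectionVars false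

namespace Cfsg.Lib.Fischer.Relations

open Cfsg Cfsg.Lib.Fischer
open scoped commutatorElement

universe u

variable {G : Type u} [Group G] [Finite G] {D : Set G}

namespace M24Data

variable {d : G} (K : M24Data D d)
include K

/-- An element commuting with the action of every member keeps every quad. -/
theorem keep_of_central {z : G} (hz : IsProd D 4 z) {h : G} (hh : Commute h z)
    (hc : ∀ a ∈ fixD D z, ∀ S, IsQuad D z S →
      (fun u => (h * a * h⁻¹) * u * (h * a * h⁻¹)⁻¹) '' S = (fun u => a * u * a⁻¹) '' S) : h ∈ Keep D z := by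
  have hD := K.trans
  refine ⟨hh, fun S hS => ?_⟩
  obtain ⟨a, ha⟩ : S.Nonempty := Set.nonempty_of_ncard_ne_zero (by rw [hS.ncard]; norm_num)
  have hS' : IsQuad D z ((fun u => h * u * h⁻¹) '' S) := hS.conj hD hh
  obtain ⟨a', ha'⟩ : ∃ a', a' = h * a * h⁻¹ := ⟨_, rfl⟩
  have ha'S : a' ∈ (fun u => h * u * h⁻¹) '' S := ⟨a, ha, ha'.symm⟩
  by_contra hne
  have eq := hc a (K.mem_fixD hS ha)
  rw [← ha'] at eq
  have fix : ∀ {b : G} {T : Set G}, (∀ u ∈ T, Commute b u) → (fun u => b * u * b⁻¹) '' T = T := fun {b T} hb =>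
    (Set.image_congr fun u hu => by rw [(hb u hu).eq, mul_inv_cancel_right]).trans (Set.image_id' T)
  have move : ∀ {b : G} {T : Set G}, b ∈ D → IsQuad D z T → (fun u => b * u * b⁻¹) '' T = T →
      ∀ u ∈ T, Commute b u := fun {b T} hb hT e u hu => by
    by_contra hn
    exact K.not_commute_conj hb (hT.subset hu) hn (hT.comm u hu _ (e.subset ⟨u, hu, rfl⟩))
  by_cases hcomm : Commute a a'
  · obtain ⟨Sp, hadj⟩ := K.exists_space hz
    have hadjSS : QuadAdj D z ⟨S, hS⟩ ⟨_, hS'⟩ :=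
      ⟨fun e => hne (congrArg Subtype.val e).symm, K.commute_all hS hS' ha ha'S hcomm⟩
    obtain ⟨F, hF, hsub⟩ := Sp.extend {⟨S, hS⟩, ⟨_, hS'⟩} (by
      intro x hx y hy hxy
      rw [hadj]
      rcases hx with rfl | rfl <;> rcases hy with rfl | rfl
      · exact absurd rfl hxy
      · exact hadjSS
      · exact ⟨hadjSS.1.symm, fun u hu v hv => (hadjSS.2 v hv u hu).symm⟩
      · exact absurd rfl hxy)
    obtain ⟨i, hi⟩ := hsub (Set.mem_insert _ _)
    obtain ⟨j, hj⟩ := hsub (Set.mem_insert_of_mem _ rfl)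
    have hij : i ≠ j := fun e => hadjSS.1 (by rw [← hi, ← hj, e])
    obtain ⟨k, hkj, hki⟩ : ∃ k : Fin 6, j ≠ k ∧ i ≠ k :=
      (by decide : ∀ i j : Fin 6, ∃ k, j ≠ k ∧ i ≠ k) i j
    obtain ⟨x, hx⟩ := Sp.exists_mem hF hkj
    have hadjx : QuadAdj D z x ⟨_, hS'⟩ := by rw [← hadj, ← hj]; exact Sp.adj_left hF hx
    have hfix := fix fun u hu => (hadjx.2 u hu a' ha'S).symm
    rw [eq x.1 x.2] at hfix
    refine Sp.not_adj hF hx hij hki (Sp.adj_symm ?_)
    rw [hi, hadj]
    refine ⟨fun e => Sp.not_range hF hx ⟨i, hi.trans e.symm⟩, fun u hu v hv => ?_⟩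
    obtain ⟨w, hw⟩ : x.1.Nonempty := Set.nonempty_of_ncard_ne_zero (by rw [x.2.ncard]; norm_num)
    exact K.commute_all x.2 hS hw ha (move (hS.subset ha) x.2 hfix w hw).symm u hu v hv
  · have hfix := fix (b := a') (fun u hu => hS'.comm a' ha'S u hu)
    rw [eq _ hS'] at hfix
    exact hcomm (move (hS.subset ha) hS' hfix a' ha'S)

/-- The structure of the centralizer of a product of four in the derived group. -/
theorem quad_centralizer {z : G} (hz : IsProd D 4 z) {C : Subgroup G}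
    (hC : C = commutator G ⊓ Subgroup.centralizer ({z} : Set G)) :
    ∃ (Q : Subgroup ↥C) (_ : Q.Normal), Cfsg.generalizedFittingSubgroup ↥C = Q ∧ Cfsg.IsExtraspecial 2 ↥Q ∧
      Nat.card Q = 2 ^ 13 ∧ ∃ (N M : Subgroup ↥C) (_ : N.Normal) (_ : M.Normal), Q ≤ N ∧ N ≤ M ∧
        Nat.card N = 3 * Nat.card Q ∧
        (∃ (F : Type) (_ : Field F) (_ : Fintype F), Fintype.card F = 9 ∧
          Nonempty (↥M ⧸ N.subgroupOf M ≃* Cfsg.PSU 4 F 3)) ∧ M.index = 2 := by
  classical
  haveI : Fact (Nat.Prime 2) := ⟨Nat.prime_two⟩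
  have hD := K.trans
  obtain ⟨χ, hχD, hχL⟩ := K.exists_global
  obtain ⟨Q₀, hQK, hQc, hQmem, hQcube, hQn, hQext, hQcen, hQχ⟩ := K.exists_core hz
  obtain ⟨hKcard, Sp, φ, hadj, hφ, hrange, hker⟩ := K.exists_action hz
  have hχz : χ z = 1 := by
    obtain ⟨l, -, l2, l3, -, rfl⟩ := hz
    rw [map_list_prod, List.eq_replicate_of_mem (a := (-1 : ℤˣ)) (l := l.map χ) (fun b hb => by
      obtain ⟨a, ha, rfl⟩ := List.mem_map.1 hb
      exact hχD a (l3 a ha)), List.length_map, l2]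
    decide
  have hm : ∀ {g : G}, g ∈ C ↔ χ g = 1 ∧ Commute g z := fun {g} => by
    rw [hC, Subgroup.mem_inf, hχL, Subgroup.mem_centralizer_singleton_iff, ← commute_iff_eq]
  have hKC : Keep D z ≤ C := fun g hg => hm.2 ⟨hQχ χ hχz g hg, hg.1⟩
  obtain ⟨Cz, hCz⟩ : ∃ Cz, Cz = Subgroup.centralizer ({z} : Set G) := ⟨_, rfl⟩
  subst hCz
  have hCle : C ≤ Subgroup.centralizer ({z} : Set G) := fun g hg => by
    rw [hC] at hg; exact hg.2
  let φA : ↥(Subgroup.centralizer ({z} : Set G)) →* ↥Sp.autGroup :=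
    φ.codRestrict _ fun g => hrange ▸ ⟨g, rfl⟩
  have hφAs : Function.Surjective φA := fun a => by
    obtain ⟨g, hg⟩ := hrange.ge a.2
    exact ⟨g, Subtype.ext hg⟩
  have hφAk : φA.ker = (Keep D z).subgroupOf (Subgroup.centralizer ({z} : Set G)) := by
    rw [← hker]; ext g; simp [φA, MonoidHom.mem_ker, Subtype.ext_iff]
  let ψ : ↥C →* ↥Sp.autGroup := φA.comp (Subgroup.inclusion hCle)
  have hψk : ∀ c : ↥C, c ∈ ψ.ker ↔ (c : G) ∈ Keep D z := fun c => by
    show Subgroup.inclusion hCle c ∈ φA.ker ↔ _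
    rw [hφAk]; rfl
  obtain ⟨hA, hA4, hPSU⟩ := Sp.aut_structure
  haveI : Fact (Nat.Prime 3) := ⟨Nat.prime_three⟩
  letI : Fintype (GaloisField 3 2) := Fintype.ofFinite _
  have hF9 : Fintype.card (GaloisField 3 2) = 9 := by
    rw [← Nat.card_eq_fintype_card, GaloisField.card 3 2 (by norm_num)]; norm_num
  obtain ⟨e⟩ := hPSU (GaloisField 3 2) hF9
  haveI := Cfsg.Lib.Linear.Herm.psu_simple (F := GaloisField 3 2) (q := 3) (n := 4) (by rw [hF9]; norm_num) le_rfl
  haveI : IsSimpleGroup ↥(commutator ↥Sp.autGroup) := by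
    haveI : Nontrivial ↥(commutator ↥Sp.autGroup) := e.toEquiv.nontrivial
    exact IsSimpleGroup.isSimpleGroup_of_surjective e.symm.toMonoidHom e.symm.surjective
  have hA'card : Nat.card ↥(commutator ↥Sp.autGroup) = 3265920 := by
    rw [Nat.card_congr e.toEquiv, Cfsg.Lib.Linear.PSUFourSeven.card_PSU hF9]
  have hA'B : commutator ↥Sp.autGroup ≤ ψ.range := by
    rw [_root_.commutator_def, Subgroup.commutator_le]
    intro x _ y _
    obtain ⟨g, rfl⟩ := hφAs x
    obtain ⟨h, rfl⟩ := hφAs y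
    refine ⟨⟨((⁅g, h⁆ : ↥(Subgroup.centralizer ({z} : Set G))) : G),
      hm.2 ⟨?_, Subgroup.mem_centralizer_singleton_iff.1 (⁅g, h⁆).2⟩⟩, (map_commutatorElement φA g h)⟩
    simp only [commutatorElement_def, Subgroup.coe_mul, Subgroup.coe_inv, map_mul, map_inv]
    rw [mul_comm (χ (g : G)) (χ (h : G)), mul_inv_cancel_right, mul_inv_cancel]
  have hBindex : ψ.range.index = 2 := by
    have e1 : ψ.range = (C.subgroupOf (Subgroup.centralizer ({z} : Set G))).map φA := by
      rw [MonoidHom.range_comp, Subgroup.inclusion_range]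
    rw [e1, Subgroup.index_map_eq _ hφAs (fun g hg => by rw [hφAk] at hg; exact hKC hg)]
    let χz : ↥(Subgroup.centralizer ({z} : Set G)) →* ℤˣ := χ.comp (Subgroup.centralizer ({z} : Set G)).subtype
    have e2 : C.subgroupOf (Subgroup.centralizer ({z} : Set G)) = χz.ker := by
      ext g
      rw [Subgroup.mem_subgroupOf, hm, MonoidHom.mem_ker]
      exact ⟨fun h => h.1, fun h => ⟨h, Subgroup.mem_centralizer_singleton_iff.1 g.2⟩⟩
    have hs : Function.Surjective χz := by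
      intro v
      rcases Int.units_eq_one_or v with rfl | rfl
      · exact ⟨1, map_one _⟩
      · obtain ⟨l, -, l2, l3, l4, l5⟩ := id hz
        rcases l with _ | ⟨a, l⟩
        · simp at l2
        refine ⟨⟨a, Subgroup.mem_centralizer_singleton_iff.2 ?_⟩, hχD a (l3 a (List.mem_cons_self ..))⟩
        rw [← l5]
        exact (Commute.list_prod_right _ _ fun b hb => l4 a (List.mem_cons_self ..) b hb).eq
    rw [e2, Subgroup.index_ker, MonoidHom.range_eq_top.2 hs, Subgroup.card_top]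
    simp [Nat.card_eq_fintype_card]
  -- the centralizer of the derived subgroup of the automorphism group is trivial
  have hX : ∀ x : ↥Sp.autGroup, (∀ y ∈ commutator ↥Sp.autGroup, Commute x y) → x = 1 := by
    intro x hx
    have hcenA' : ∀ w ∈ commutator ↥Sp.autGroup, (∀ y ∈ commutator ↥Sp.autGroup, Commute w y) → w = 1 := by
      intro w hw hwc
      rcases (inferInstance : (Subgroup.center ↥(commutator ↥Sp.autGroup)).Normal).eq_bot_or_eq_top with h | h
      · have : (⟨w, hw⟩ : ↥(commutator ↥Sp.autGroup)) ∈ Subgroup.center ↥(commutator ↥Sp.autGroup) :=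
          Subgroup.mem_center_iff.2 fun y => Subtype.ext (hwc y y.2).eq.symm
        rw [h, Subgroup.mem_bot] at this
        exact congrArg Subtype.val this
      · exfalso
        have hab : ∀ a b : ↥(commutator ↥Sp.autGroup), a * b = b * a := fun a b =>
          (Subgroup.mem_center_iff.1 (h ▸ Subgroup.mem_top b) a)
        letI : CommGroup ↥(commutator ↥Sp.autGroup) := { (inferInstance : Group _) with mul_comm := hab }
        haveI : IsSimpleGroup ↥(commutator ↥Sp.autGroup) := inferInstance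
        have hp : (Nat.card ↥(commutator ↥Sp.autGroup)).Prime := IsSimpleGroup.prime_card
        rw [hA'card] at hp
        norm_num at hp
    have hxc : ∀ y : ↥Sp.autGroup, Commute x y := fun y => by
      have hn : (commutator ↥Sp.autGroup).Normal := inferInstance
      have hyx : ∀ w ∈ commutator ↥Sp.autGroup, Commute (y * x⁻¹ * y⁻¹) w := fun w hw => by
        refine (Commute.conj_iff y⁻¹).1 ?_
        rw [show y⁻¹ * (y * x⁻¹ * y⁻¹) * y⁻¹⁻¹ = x⁻¹ by group]
        exact (hx _ (hn.conj_mem w hw y⁻¹)).inv_left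
      have h1 : x * y * x⁻¹ * y⁻¹ = 1 := by
        refine hcenA' _ ?_ fun w hw => ?_
        · rw [← commutatorElement_def]
          exact Subgroup.commutator_mem_commutator (Subgroup.mem_top _) (Subgroup.mem_top _)
        · rw [show x * y * x⁻¹ * y⁻¹ = x * (y * x⁻¹ * y⁻¹) by group]
          exact (hx w hw).mul_left (hyx w hw)
      exact mul_inv_eq_iff_eq_mul.1 (mul_inv_eq_one.1 h1)
    obtain ⟨h, rfl⟩ := hφAs x
    rw [← MonoidHom.mem_ker, hφAk, Subgroup.mem_subgroupOf]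
    refine K.keep_of_central hz (Subgroup.mem_centralizer_singleton_iff.1 h.2) fun a ha S hS => ?_
    have haC : a ∈ Subgroup.centralizer ({z} : Set G) := Subgroup.mem_centralizer_singleton_iff.2 ha.2
    have e3 : φA (h * ⟨a, haC⟩ * h⁻¹) = φA ⟨a, haC⟩ := by
      rw [map_mul, map_mul, map_inv, (hxc _).eq, mul_inv_cancel_right]
    have e4 := congrArg (fun p : ↥Sp.autGroup => ((p.1 ⟨S, hS⟩ : Quads D z) : Set G)) e3
    simp only [φA, MonoidHom.codRestrict_apply] at e4
    rw [hφ, hφ] at e4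
    simpa using e4
  have hQC : Q₀ ≤ C := hQK.trans hKC
  obtain ⟨Q, hQ⟩ : ∃ Q : Subgroup ↥C, Q = Q₀.subgroupOf C := ⟨_, rfl⟩
  have hQnorm : Q.Normal := ⟨fun q hq g => by
    rw [hQ, Subgroup.mem_subgroupOf] at hq ⊢
    exact hQn _ (hm.1 g.2).2 _ hq⟩
  have hQcard : Nat.card Q = 2 ^ 13 := by
    rw [hQ, Nat.card_congr (Subgroup.subgroupOfEquivOfLe hQC).toEquiv, hQc]
  have hQext' : Cfsg.IsExtraspecial 2 ↥Q := by
    subst hQ
    exact Cfsg.Lib.Extra.isExtraspecial_congr (Subgroup.subgroupOfEquivOfLe hQC).symm hQext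
  have hQp : IsPGroup 2 Q := IsPGroup.of_card hQcard
  have hcoreQ : Cfsg.pCore 2 ↥C = Q := by
    refine le_antisymm ?_ (Cfsg.Lib.Core.le_pCore' hQnorm hQp)
    intro c hc
    have hpow : ∀ c ∈ Cfsg.pCore 2 ↥C, ∃ k, c ^ 2 ^ k = 1 := fun c hc => by
      obtain ⟨k, hk⟩ := Cfsg.Lib.Core.pCore_isPGroup 2 ↥C ⟨c, hc⟩
      exact ⟨k, congrArg Subtype.val hk⟩
    have hψc : ψ c = 1 := by
      refine hX _ fun y hy => ?_
      obtain ⟨P, hP⟩ : ∃ P : Subgroup ↥(commutator ↥Sp.autGroup),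
          P = ((Cfsg.pCore 2 ↥C).map ψ).subgroupOf (commutator ↥Sp.autGroup) := ⟨_, rfl⟩
      have hnr : ∀ g ∈ ψ.range, ∀ x ∈ (Cfsg.pCore 2 ↥C).map ψ, g * x * g⁻¹ ∈ (Cfsg.pCore 2 ↥C).map ψ := by
        rintro _ ⟨g, rfl⟩ _ ⟨x, hx, rfl⟩
        exact ⟨g * x * g⁻¹, (inferInstance : (Cfsg.pCore 2 ↥C).Normal).conj_mem x hx g, by simp⟩
      haveI : P.Normal := ⟨fun x hx g => by
        rw [hP, Subgroup.mem_subgroupOf] at hx ⊢
        exact hnr _ (hA'B g.2) _ hx⟩
      have hPbot : P = ⊥ := by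
        refine (‹P.Normal›.eq_bot_or_eq_top).resolve_right fun h => ?_
        have hp : IsPGroup 2 P := hP ▸ ((Cfsg.Lib.Core.pCore_isPGroup 2 ↥C).map ψ).comap_of_injective
          (commutator ↥Sp.autGroup).subtype (Subgroup.subtype_injective _)
        obtain ⟨k, hk⟩ := hp.exists_card_eq
        rw [h, Subgroup.card_top, hA'card] at hk
        have h3 : (3 : ℕ) ∣ 2 ^ k := hk ▸ by norm_num
        exact absurd (Nat.Prime.dvd_of_dvd_pow Nat.prime_three h3) (by norm_num)
      have hmem : ψ c * y * (ψ c)⁻¹ * y⁻¹ ∈ (Cfsg.pCore 2 ↥C).map ψ ∧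
          ψ c * y * (ψ c)⁻¹ * y⁻¹ ∈ commutator ↥Sp.autGroup := by
        refine ⟨?_, ?_⟩
        · rw [mul_assoc (ψ c) y, mul_assoc (ψ c)]
          exact mul_mem ⟨c, hc, rfl⟩ (hnr y (hA'B hy) _ (inv_mem ⟨c, hc, rfl⟩))
        · rw [← commutatorElement_def]
          exact Subgroup.commutator_mem_commutator (Subgroup.mem_top _) (Subgroup.mem_top _)
      have : (⟨_, hmem.2⟩ : ↥(commutator ↥Sp.autGroup)) ∈ P := by rw [hP, Subgroup.mem_subgroupOf]; exact hmem.1
      rw [hPbot, Subgroup.mem_bot] at this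
      have h1 := congrArg Subtype.val this
      exact mul_inv_eq_iff_eq_mul.1 (mul_inv_eq_one.1 h1)
    rw [hQ, Subgroup.mem_subgroupOf]
    have hk := (hψk c).1 hψc
    obtain ⟨k, hk2⟩ := hpow c hc
    refine hQmem _ hk ?_
    have hx : (c : G) ^ 2 ^ k = 1 := by simpa using congrArg Subtype.val hk2
    have hy : (c : G) ^ (2 ^ 13 * 3) = 1 := by
      have := congrArg Subtype.val (pow_card_eq_one' (x := (⟨(c : G), hk⟩ : ↥(Keep D z))))
      rwa [hKcard, Subgroup.coe_pow] at this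
    have hy' : ((c : G) ^ 2 ^ 13) ^ 3 = 1 := by rw [← pow_mul]; exact hy
    have hx' : ((c : G) ^ 2 ^ 13) ^ 2 ^ k = 1 := by rw [← pow_mul, mul_comm, pow_mul, hx, one_pow]
    have := pow_gcd_eq_one.2 ⟨hy', hx'⟩
    rwa [Nat.Coprime.gcd_eq_one (Nat.Coprime.pow_right k (by norm_num)), pow_one] at this
  have hgf : Cfsg.generalizedFittingSubgroup ↥C = Q := by
    rw [← hcoreQ]
    refine Cfsg.Lib.Core.generalizedFitting_eq_pCore_iff.2 ?_
    rw [hcoreQ]
    intro g hg
    rw [hQ, Subgroup.mem_subgroupOf]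
    refine hQcen _ (hm.1 g.2).2 fun q hq => ?_
    exact congrArg Subtype.val (Subgroup.mem_centralizer_iff.1 hg ⟨q, hQC hq⟩
      (by rw [hQ, SetLike.mem_coe, Subgroup.mem_subgroupOf]; exact hq)).symm
  obtain ⟨M, hM⟩ : ∃ M : Subgroup ↥C, M = (commutator ↥Sp.autGroup).comap ψ := ⟨_, rfl⟩
  haveI hMn : M.Normal := hM ▸ Subgroup.Normal.comap inferInstance ψ
  have hNcard : Nat.card ψ.ker = 3 * Nat.card Q := by
    rw [show ψ.ker = (Keep D z).subgroupOf C from Subgroup.ext hψk,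
      Nat.card_congr (Subgroup.subgroupOfEquivOfLe hKC).toEquiv, hKcard, hQcard, mul_comm]
  refine ⟨Q, hQnorm, hgf, hQext', hQcard, ψ.ker, M, inferInstance, hMn, ?_, ?_, hNcard,
    ⟨GaloisField 3 2, inferInstance, inferInstance, hF9, ?_⟩, ?_⟩
  · intro q hq
    rw [hQ, Subgroup.mem_subgroupOf] at hq
    exact (hψk q).2 (hQK hq)
  · rw [hM]
    exact fun q hq => Subgroup.mem_comap.2 (by rw [MonoidHom.mem_ker.1 hq]; exact one_mem _)
  · let ω : ↥M →* ↥(commutator ↥Sp.autGroup) := (ψ.comp M.subtype).codRestrict _ fun x => hM.le x.2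
    have hω : Function.Surjective ω := fun y => by
      obtain ⟨c, hc⟩ := hA'B y.2
      exact ⟨⟨c, hM.ge (show ψ c ∈ _ from hc ▸ y.2)⟩, Subtype.ext hc⟩
    have hωk : ψ.ker.subgroupOf M = ω.ker := by
      ext x; exact ⟨fun h => Subtype.ext h, fun h => congrArg Subtype.val h⟩
    exact ⟨((QuotientGroup.quotientMulEquivOfEq hωk).trans (QuotientGroup.quotientKerEquivOfSurjective ω hω)).trans e⟩
  · have h1 := Subgroup.relIndex_mul_index hA'B
    rw [hBindex, hA4] at h1
    rw [hM, Subgroup.index_comap]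
    omega

end M24Data

end Cfsg.Lib.Fischer.Relations
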