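import Cfsg.Agent.Lib.Fischer.Relations.TwentyFour.Global

/-!
# Finer counts around a commuting set of 24 members

An outside member commuting with three of the 24 commutes with exactly eight, the members with a given eight fall
into two commuting halves of 16, and 2464 and 160 members pass through a given pair and a given four.
-/

set_option autoImplicit false
set_option linter.unusedSectionVars false

namespace Cfsg.Lib.Fischer.Relations

open Cfsg Cfsg.Lib.Fischer

variable {G : Type*} [Group G]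

/-- Outside members and fibres around commuting sets of size `w`. -/
structure Extra (S : Set G) (w j k : ℕ) : Prop where
  big : ∀ E, E ⊆ S → (∀ a ∈ E, ∀ b ∈ E, Commute a b) → E.ncard = w →
    ∀ x ∈ S, x ∉ E → k ≤ (att E x).ncard → (att E x).ncard = j
  par : ∀ E, E ⊆ S → (∀ a ∈ E, ∀ b ∈ E, Commute a b) → E.ncard = w → ∀ x ∈ S, (att E x).ncard = j →
    ∀ y ∈ S, att E y = att E x → ∀ z ∈ S, att E z = att E x → Commute x y → Commute x z → Commute y z
  half : ∀ E, E ⊆ S → (∀ a ∈ E, ∀ b ∈ E, Commute a b) → E.ncard = w → ∀ x ∈ S, (att E x).ncard = j →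
    {y | y ∈ S ∧ att E y = att E x ∧ Commute x y}.ncard = 16

/-- The members through a given `t`-subset. -/
def Thr (S : Set G) (w j t n : ℕ) : Prop :=
  ∀ E, E ⊆ S → (∀ a ∈ E, ∀ b ∈ E, Commute a b) → E.ncard = w → ∀ T ⊆ E, T.ncard = t →
    {x | x ∈ S ∧ (att E x).ncard = j ∧ T ⊆ att E x}.ncard = n

/-- A bijection of `S` onto `S'` preserving and reflecting commutation. -/
structure Pull {G' : Type*} [Group G'] (φ : G → G') (S : Set G) (S' : Set G') : Prop where
  bij : Set.BijOn φ S S'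
  comm : ∀ x ∈ S, ∀ y ∈ S, (Commute (φ x) (φ y) ↔ Commute x y)

namespace Pull

variable {G' : Type*} [Group G'] {φ : G → G'} {S : Set G} {S' : Set G'} (P : Pull φ S S')
include P

theorem sub {E : Set G} (hE : E ⊆ S) : φ '' E ⊆ S' := (Set.image_mono hE).trans P.bij.image_eq.subset

theorem ncard {E : Set G} (hE : E ⊆ S) : (φ '' E).ncard = E.ncard :=
  Set.InjOn.ncard_image (P.bij.injOn.mono hE)

theorem clique {E : Set G} (hE : E ⊆ S) (hc : ∀ a ∈ E, ∀ b ∈ E, Commute a b) :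
    ∀ a ∈ φ '' E, ∀ b ∈ φ '' E, Commute a b := by
  rintro _ ⟨a, ha, rfl⟩ _ ⟨b, hb, rfl⟩
  exact (P.comm a (hE ha) b (hE hb)).2 (hc a ha b hb)

theorem att_eq {E : Set G} (hE : E ⊆ S) {x : G} (hx : x ∈ S) : att (φ '' E) (φ x) = φ '' att E x := by
  ext z
  constructor
  · rintro ⟨⟨a, ha, rfl⟩, h⟩
    exact ⟨a, ⟨ha, (P.comm a (hE ha) x hx).1 h⟩, rfl⟩
  · rintro ⟨a, ⟨ha, h⟩, rfl⟩
    exact ⟨⟨a, ha, rfl⟩, (P.comm a (hE ha) x hx).2 h⟩

theorem subset_iff {A B : Set G} (hA : A ⊆ S) (hB : B ⊆ S) : φ '' A ⊆ φ '' B ↔ A ⊆ B :=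
  ⟨fun h a ha => by
    obtain ⟨b, hb, e⟩ := h ⟨a, ha, rfl⟩
    exact P.bij.injOn (hB hb) (hA ha) e ▸ hb, Set.image_mono⟩

theorem eq_iff {A B : Set G} (hA : A ⊆ S) (hB : B ⊆ S) : φ '' A = φ '' B ↔ A = B := by
  rw [Set.Subset.antisymm_iff, Set.Subset.antisymm_iff, P.subset_iff hA hB, P.subset_iff hB hA]

theorem image_sep (p : G → Prop) (q : G' → Prop) (h : ∀ x ∈ S, p x ↔ q (φ x)) :
    φ '' {x | x ∈ S ∧ p x} = {z | z ∈ S' ∧ q z} := by
  ext z
  constructor
  · rintro ⟨x, ⟨hx, hp⟩, rfl⟩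
    exact ⟨P.bij.mapsTo hx, (h x hx).1 hp⟩
  · rintro ⟨hz, hq⟩
    obtain ⟨x, hx, rfl⟩ := P.bij.surjOn hz
    exact ⟨x, ⟨hx, (h x hx).2 hq⟩, rfl⟩

theorem att_card {E : Set G} (hE : E ⊆ S) {x : G} (hx : x ∈ S) : (att (φ '' E) (φ x)).ncard = (att E x).ncard := by
  rw [P.att_eq hE hx, P.ncard fun a ha => hE ha.1]

theorem extra {w j k : ℕ} (h : Extra S' w j k) : Extra S w j k := by
  refine ⟨fun E hE hc hw x hx hxE hk => ?_, fun E hE hc hw x hx hj y hy hyx z hz hzx hxy hxz => ?_,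
    fun E hE hc hw x hx hj => ?_⟩
  · rw [← P.att_card hE hx] at hk ⊢
    refine h.big _ (P.sub hE) (P.clique hE hc) ((P.ncard hE).trans hw) _ (P.bij.mapsTo hx) ?_ hk
    rintro ⟨a, ha, e⟩
    exact hxE (P.bij.injOn (hE ha) hx e ▸ ha)
  · refine (P.comm y hy z hz).1 (h.par _ (P.sub hE) (P.clique hE hc) ((P.ncard hE).trans hw) _ (P.bij.mapsTo hx)
      ((P.att_card hE hx).trans hj) _ (P.bij.mapsTo hy) ?_ _ (P.bij.mapsTo hz) ?_ ((P.comm x hx y hy).2 hxy)
      ((P.comm x hx z hz).2 hxz))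
    · rw [P.att_eq hE hy, P.att_eq hE hx, hyx]
    · rw [P.att_eq hE hz, P.att_eq hE hx, hzx]
  · rw [← h.half _ (P.sub hE) (P.clique hE hc) ((P.ncard hE).trans hw) _ (P.bij.mapsTo hx)
      ((P.att_card hE hx).trans hj), ← P.image_sep (fun y => att E y = att E x ∧ Commute x y) _ fun y hy => by
        rw [P.att_eq hE hy, P.att_eq hE hx, P.eq_iff (fun a ha => hE ha.1) (fun a ha => hE ha.1),
          P.comm x hx y hy]]
    exact (P.ncard fun y hy => hy.1).symm

theorem thr {w j t n : ℕ} (h : Thr S' w j t n) : Thr S w j t n := by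
  intro E hE hc hw T hT ht
  rw [← h _ (P.sub hE) (P.clique hE hc) ((P.ncard hE).trans hw) (φ '' T) (Set.image_mono hT)
    ((P.ncard (hT.trans hE)).trans ht),
    ← P.image_sep (fun y => (att E y).ncard = j ∧ T ⊆ att E y) _ fun y hy => by
      rw [P.att_eq hE hy, P.ncard (fun a ha => hE ha.1), P.subset_iff (hT.trans hE) (fun a ha => hE ha.1)]]
  exact (P.ncard fun y hy => hy.1).symm

end Pull

/-- Conjugation as a pull. -/
theorem pull_conj {D : Set G} (hD : Trans D) (g d : G) :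
    Pull (fun x => g⁻¹ * x * g) (perp D (g * d * g⁻¹)) (perp D d) := by
  refine ⟨⟨fun x hx => (mem_perp_conj hD g d x).1 hx, fun x _ y _ e => ?_, fun z hz => ?_⟩, fun x _ y _ => ?_⟩
  · simpa using e
  · exact ⟨g * z * g⁻¹, (mem_perp_conj hD g d _).2 (by simpa [mul_assoc] using hz), by simp [mul_assoc]⟩
  · simpa using Commute.conj_iff (a := x) (b := y) g⁻¹

/-- The map to the image of a neighbourhood as a pull. -/
theorem exists_pull_image [Finite G] {D : Set G} (hD : Trans D) {d : G}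
    (hnc : ∀ a ∈ perp D d, ∃ e ∈ perp D d, ¬ Commute a e) :
    ∃ φ, Pull φ (perp D d) (image (perp D d)) := by
  classical
  refine ⟨fun x => if h : x ∈ perp D d then bar h else 1, ⟨fun x hx => ?_, fun x hx y hy e => ?_, fun z hz => ?_⟩,
    fun x hx y hy => ?_⟩
  · simp only [dif_pos hx]; exact bar_mem hx
  · simp only [dif_pos hx, dif_pos hy] at e
    exact bar_inj hD (fun _ h => h.1) hnc hx hy e
  · obtain ⟨a, ha, rfl⟩ := exists_bar hz
    exact ⟨a, ha, dif_pos ha⟩
  · simp only [dif_pos hx, dif_pos hy]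
    exact bar_commute hD (fun _ h => h.1) hx hy

section Lift

variable [Finite G] {D : Set G} {w j : ℕ}

theorem ncard_sdiff_one {E : Set G} {e : G} (he : e ∈ E) {w : ℕ} (hw : E.ncard = w + 1) : (E \ {e}).ncard = w := by
  have := Set.ncard_sdiff_singleton_add_one he
  omega

theorem att_insert {E : Set G} {e x : G} (he : e ∈ E) (hx : Commute e x) :
    att E x = insert e (att (E \ {e}) x) := by
  ext a
  constructor
  · rintro ⟨ha, hax⟩
    by_cases ea : a = e
    exacts [Or.inl ea, Or.inr ⟨⟨ha, ea⟩, hax⟩]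
  · rintro (rfl | ⟨⟨ha, -⟩, hax⟩)
    exacts [⟨he, hx⟩, ⟨ha, hax⟩]

theorem att_insert_card {E : Set G} {e x : G} (he : e ∈ E) (hx : Commute e x) :
    (att E x).ncard = (att (E \ {e}) x).ncard + 1 := by
  rw [att_insert he hx, Set.ncard_insert_of_notMem]
  exact fun h => h.1.2 rfl

theorem att_sdiff {E : Set G} (e x : G) : att (E \ {e}) x = att E x \ {e} := by
  ext a
  exact ⟨fun h => ⟨⟨h.1.1, h.2⟩, h.1.2⟩, fun h => ⟨⟨h.1.1, h.2⟩, h.1.2⟩⟩

theorem att_eq_of_sdiff {E : Set G} {e x y : G} (he : e ∈ E) (hx : Commute e x) (hy : Commute e y) :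
    att E y = att E x ↔ att (E \ {e}) y = att (E \ {e}) x :=
  ⟨fun h => by rw [att_sdiff, att_sdiff, h], fun h => by rw [att_insert he hx, att_insert he hy, h]⟩

theorem att_full {E : Set G} (hc : ∀ a ∈ E, ∀ b ∈ E, Commute a b) {x : G} (hx : x ∈ E) : att E x = E :=
  Set.Subset.antisymm (fun _ ha => ha.1) fun a ha => ⟨ha, hc a ha x hx⟩

theorem mem_perp_of_att {E : Set G} (hc : ∀ a ∈ E, ∀ b ∈ E, Commute a b) (hw : E.ncard = w + 1) (hjw : j < w)
    {e x : G} (he : e ∈ E) (hx : x ∈ D) (hj : (att E x).ncard = j + 1) (hex : Commute e x) : x ∈ perp D e := by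
  refine ⟨hx, fun h => ?_, hex⟩
  rw [att_full hc (h ▸ he : x ∈ E)] at hj
  omega

theorem Extra.lift {k : ℕ} (hjw : j < w) (h : ∀ d ∈ D, Extra (perp D d) w j k) : Extra D (w + 1) (j + 1) (k + 1) := by
  have sub : ∀ E ⊆ D, (∀ a ∈ E, ∀ b ∈ E, Commute a b) → ∀ e ∈ E, E \ {e} ⊆ perp D e := fun E hE hc e he a ha =>
    ⟨hE ha.1, ha.2, hc e he a ha.1⟩
  have cl : ∀ E : Set G, (∀ a ∈ E, ∀ b ∈ E, Commute a b) → ∀ e, ∀ a ∈ E \ {e}, ∀ b ∈ E \ {e}, Commute a b :=
    fun E hc e a ha b hb => hc a ha.1 b hb.1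
  refine ⟨fun E hE hc hw x hx hxE hk => ?_, fun E hE hc hw x hx hj y hy hyx z hz hzx hxy hxz => ?_,
    fun E hE hc hw x hx hj => ?_⟩ <;> obtain ⟨e, he, hex⟩ : (att E x).Nonempty :=
      Set.nonempty_of_ncard_ne_zero (by omega)
  · have hxp : x ∈ perp D e := ⟨hx, fun h' => hxE (h' ▸ he), hex⟩
    have := (h e (hE he)).big _ (sub E hE hc e he) (cl E hc e) (ncard_sdiff_one he hw) x hxp (fun h' => hxE h'.1)
      (by have := att_insert_card he hex; omega)
    rw [att_insert_card he hex, this]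
  · have hey : Commute e y := (hyx.symm ▸ (⟨he, hex⟩ : e ∈ att E x) : e ∈ att E y).2
    have hez : Commute e z := (hzx.symm ▸ (⟨he, hex⟩ : e ∈ att E x) : e ∈ att E z).2
    exact (h e (hE he)).par _ (sub E hE hc e he) (cl E hc e) (ncard_sdiff_one he hw) x
      (mem_perp_of_att hc hw hjw he hx hj hex) (by have := att_insert_card he hex; omega)
      y (mem_perp_of_att hc hw hjw he hy (hyx.symm ▸ hj) hey) ((att_eq_of_sdiff he hex hey).1 hyx)
      z (mem_perp_of_att hc hw hjw he hz (hzx.symm ▸ hj) hez) ((att_eq_of_sdiff he hex hez).1 hzx) hxy hxz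
  · rw [← (h e (hE he)).half _ (sub E hE hc e he) (cl E hc e) (ncard_sdiff_one he hw) x
      (mem_perp_of_att hc hw hjw he hx hj hex) (by have := att_insert_card he hex; omega)]
    congr 1
    ext y
    constructor
    · rintro ⟨hy, hyx, hxy⟩
      have hey : Commute e y := (hyx.symm ▸ (⟨he, hex⟩ : e ∈ att E x) : e ∈ att E y).2
      exact ⟨mem_perp_of_att hc hw hjw he hy (hyx.symm ▸ hj) hey, (att_eq_of_sdiff he hex hey).1 hyx, hxy⟩
    · rintro ⟨hy, hyx, hxy⟩
      exact ⟨hy.1, (att_eq_of_sdiff he hex hy.2.2).2 hyx, hxy⟩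

theorem Thr.lift {t n : ℕ} (hjw : j < w) (h : ∀ d ∈ D, Thr (perp D d) w j t n) :
    Thr D (w + 1) (j + 1) (t + 1) n := by
  intro E hE hc hw T hT ht
  obtain ⟨e, heT⟩ : T.Nonempty := Set.nonempty_of_ncard_ne_zero (by omega)
  have he := hT heT
  rw [← h e (hE he) (E \ {e}) (fun a ha => ⟨hE ha.1, ha.2, hc e he a ha.1⟩) (fun a ha b hb => hc a ha.1 b hb.1)
    (ncard_sdiff_one he hw) (T \ {e}) (fun a ha => ⟨hT ha.1, ha.2⟩) (ncard_sdiff_one heT ht)]
  congr 1
  ext x
  constructor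
  · rintro ⟨hx, hj, hTx⟩
    have hex := (hTx heT).2
    refine ⟨mem_perp_of_att hc hw hjw he hx hj hex, ?_, fun a ha => ⟨⟨hT ha.1, ha.2⟩, (hTx ha.1).2⟩⟩
    have := att_insert_card he hex
    omega
  · rintro ⟨hx, hj, hTx⟩
    refine ⟨hx.1, by rw [att_insert_card he hx.2.2, hj], fun a ha => ?_⟩
    by_cases e' : a = e
    · subst e'; exact ⟨he, hx.2.2⟩
    · exact ⟨hT ha, (hTx ⟨ha, e'⟩).2⟩

end Lift

namespace M24Data

variable [Finite G] {D : Set G} {d : G} (K : M24Data D d)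
include K

/-- The finer counts for type M(24). -/
theorem design : Extra D 24 8 3 ∧ Thr D 24 8 2 2464 ∧ Thr D 24 8 4 160 := by
  have hD := K.trans
  obtain ⟨F, _, _, hF, e, f, ⟨C⟩⟩ := K.exists_coord
  have hC := C.co
  have h5 : Extra (perp (image (perp (image (perp D d)) e)) (bar C.bmem)) 21 5 0 := by
    refine ⟨fun E hE hc hw x hx hxE _ => (C.co.around hE hc hw hx hxE).1, fun E hE hc hw x hx hj => ?_,
      fun E hE hc hw x hx hj => ?_⟩
    · exact (C.co.around hE hc hw hx fun hxE => by rw [att_full hc hxE] at hj; omega).2.2.2.1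
    · exact (C.co.around hE hc hw hx fun hxE => by rw [att_full hc hxE] at hj; omega).2.2.2.2
  have h5t : Thr (perp (image (perp (image (perp D d)) e)) (bar C.bmem)) 21 5 1 160 := by
    intro E hE hc hw T hT ht
    obtain ⟨a, rfl⟩ := Set.ncard_eq_one.1 ht
    rw [← C.co.card_through hE hc hw (hT rfl)]
    simp only [Set.singleton_subset_iff]
  have up₂₂ : ∀ {P : Set _ → Prop}, (∀ {S S' : Set _} {φ}, Pull φ S S' → P S' → P S) →
      P (perp (image (perp (image (perp D d)) e)) (bar C.bmem)) → ∀ a ∈ image (perp (image (perp D d)) e),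
      P (perp (image (perp (image (perp D d)) e)) a) := by
    intro P hP h a ha
    obtain ⟨g, rfl⟩ := C.co.trans.trans _ C.co.mem a ha
    exact hP (pull_conj C.co.trans g _) h
  obtain ⟨φ₂, P₂⟩ := exists_pull_image C.data.trans C.data.nc
  obtain ⟨φ₃, P₃⟩ := exists_pull_image hD K.nc
  have h22 : Base (image (perp (image (perp D d)) e)) 22 6 2464 :=
    Base.lift (by norm_num) (fun a ha => by
      obtain ⟨g, rfl⟩ := C.co.trans.trans _ C.co.mem a ha
      exact C.co.base_perp.conj C.co.trans C.co.mem g) (by norm_num : 2464 * (5 + 1) = (21 + 1) * 672)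
  have t22 : Thr (image (perp (image (perp D d)) e)) 22 6 0 2464 := by
    intro E hE hc hw T hT ht
    rw [Set.ncard_eq_zero] at ht
    subst ht
    simpa using h22.count E hE hc hw
  refine ⟨?_, ?_, ?_⟩
  · have e22 : Extra (image (perp (image (perp D d)) e)) 22 6 1 :=
      Extra.lift (by norm_num) (up₂₂ (fun hP h => hP.extra h) h5)
    have e23 : Extra (image (perp D d)) 23 7 2 := Extra.lift (by norm_num) fun a ha => by
      obtain ⟨g, rfl⟩ := C.data.trans.trans _ C.data.mem a ha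
      exact (pull_conj C.data.trans g e).extra (P₂.extra e22)
    exact Extra.lift (by norm_num) fun a ha => by
      obtain ⟨g, rfl⟩ := hD.trans _ K.mem a ha
      exact (pull_conj hD g d).extra (P₃.extra e23)
  · have e23 : Thr (image (perp D d)) 23 7 1 2464 := Thr.lift (by norm_num) fun a ha => by
      obtain ⟨g, rfl⟩ := C.data.trans.trans _ C.data.mem a ha
      exact (pull_conj C.data.trans g e).thr (P₂.thr t22)
    exact Thr.lift (by norm_num) fun a ha => by
      obtain ⟨g, rfl⟩ := hD.trans _ K.mem a ha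
      exact (pull_conj hD g d).thr (P₃.thr e23)
  · have e22 : Thr (image (perp (image (perp D d)) e)) 22 6 2 160 :=
      Thr.lift (by norm_num) (up₂₂ (fun hP h => hP.thr h) h5t)
    have e23 : Thr (image (perp D d)) 23 7 3 160 := Thr.lift (by norm_num) fun a ha => by
      obtain ⟨g, rfl⟩ := C.data.trans.trans _ C.data.mem a ha
      exact (pull_conj C.data.trans g e).thr (P₂.thr e22)
    exact Thr.lift (by norm_num) fun a ha => by
      obtain ⟨g, rfl⟩ := hD.trans _ K.mem a ha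
      exact (pull_conj hD g d).thr (P₃.thr e23)

end M24Data

end Cfsg.Lib.Fischer.Relations
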