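import Cfsg.Agent.Lib.Fischer.Relations.TwentyFour.Design

/-!
# An element of square one centralizes a member

Otherwise it moves every member to a different commuting one. It stabilizes a commuting set of 24 members; by
counting, some eight of them meet their image in exactly two, and a member with these eight commutes with its
image, which then commutes with at least nine of another set of 24.
-/

set_option autoImplicit false
set_option linter.unusedSectionVars false

namespace Cfsg.Lib.Fischer.Relations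

open Cfsg Cfsg.Lib.Fischer

universe u

variable {G : Type u} [Group G] [Finite G] {D : Set G}

/-- An element of square one moving a member to a noncommuting one fixes the third member of the triple. -/
theorem commute_of_no_fixed (hD : Trans D) {x : G} (hx : x * x = 1) (hno : ∀ a ∈ D, ¬ Commute x a) {a : G}
    (ha : a ∈ D) : Commute a (x * a * x) := by
  by_contra hn
  have hxinv : x⁻¹ = x := inv_eq_of_mul_eq_one_right hx
  have hb : x * a * x ∈ D := by
    have := hD.conj x a ha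
    rwa [hxinv] at this
  obtain ⟨t, ht⟩ : ∃ t, t = a * (x * a * x) * a := ⟨_, rfl⟩
  have htD : t ∈ D := by
    have := hD.conj a _ hb
    rwa [inv_eq hD ha, ← ht] at this
  have hbr := braid hD ha hb hn
  simp only [cj_def] at hbr
  refine hno t htD ?_
  have e : x * t * x⁻¹ = t := by
    rw [hxinv]
    calc x * t * x = x * a * x * a * (x * a * x) := by rw [ht]; simp [mul_assoc]
      _ = a * (x * a * x) * a := hbr.symm
      _ = t := ht.symm
  exact mul_inv_eq_iff_eq_mul.1 e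

/-- Elements generated by commuting members have square one. -/
theorem sq_of_closure (hD : Trans D) {E : Set G} (hE : E ⊆ D) (hc : ∀ a ∈ E, ∀ b ∈ E, Commute a b) {v : G}
    (hv : v ∈ Subgroup.closure E) : v * v = 1 := by
  induction hv using Subgroup.closure_induction with
  | mem y hy => exact mul_self hD (hE hy)
  | one => exact one_mul 1
  | mul a b ha hb iha ihb =>
    have hab : Commute b a := by
      have hle : Subgroup.closure E ≤ Subgroup.centralizer ({b} : Set G) := (Subgroup.closure_le _).2 fun y hy =>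
        Subgroup.mem_centralizer_singleton_iff.2 (commute_of_closure hc hb hy).eq.symm
      exact (Subgroup.mem_centralizer_singleton_iff.1 (hle ha) : a * b = b * a).symm
    calc a * b * (a * b) = a * (b * a) * b := by group
      _ = a * a * (b * b) := by rw [hab.eq]; group
      _ = 1 := by rw [iha, ihb, one_mul]
  | inv a _ iha => rw [← mul_inv_rev, iha, inv_one]

theorem isPGroup_closure (hD : Trans D) {E : Set G} (hE : E ⊆ D) (hc : ∀ a ∈ E, ∀ b ∈ E, Commute a b)
    {V : Subgroup G} (hV : V ≤ Subgroup.closure E) : IsPGroup 2 ↥V := fun v => ⟨1, Subtype.ext (by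
  show (v : G) ^ (2 ^ 1) = 1
  rw [pow_one, pow_two]
  exact sq_of_closure hD hE hc (hV v.2))⟩

namespace M24Data

variable {d : G} (K : M24Data D d)
include K

/-- An element of square one stabilizes some commuting set of 24 members. -/
theorem exists_stable {x : G} (hx : x * x = 1) :
    ∃ E : Set G, E ⊆ D ∧ (∀ a ∈ E, ∀ b ∈ E, Commute a b) ∧ E.ncard = 24 ∧ ∀ a ∈ E, x * a * x ∈ E := by
  classical
  have hD := K.trans
  haveI : Fact (Nat.Prime 2) := ⟨Nat.prime_two⟩
  obtain ⟨E₀, hE₀, hc₀, hn₀, -⟩ := K.exists_base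
  let Ω := {E : Set G // E ⊆ D ∧ (∀ a ∈ E, ∀ b ∈ E, Commute a b) ∧ E.ncard = 24}
  letI : MulAction G Ω :=
    { smul := fun g E => ⟨(fun a => g * a * g⁻¹) '' E.1, by
        rintro _ ⟨a, ha, rfl⟩; exact hD.conj g a (E.2.1 ha), by
        rintro _ ⟨a, ha, rfl⟩ _ ⟨b, hb, rfl⟩; exact (Commute.conj_iff g).2 (E.2.2.1 a ha b hb),
        (Set.ncard_image_of_injective _ fun a b h => conj_injective (x := g) h).trans E.2.2.2⟩
      one_smul := fun E => Subtype.ext (show (fun a => (1 : G) * a * 1⁻¹) '' E.1 = E.1 by simp)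
      mul_smul := fun g h E => Subtype.ext (show (fun a => g * h * a * (g * h)⁻¹) '' E.1 =
          (fun a => g * a * g⁻¹) '' ((fun a => h * a * h⁻¹) '' E.1) by
        rw [Set.image_image]; exact Set.image_congr fun a _ => by group) }
  have h0 := (isPGroup_closure hD hE₀ hc₀ le_rfl).card_modEq_card_fixedPoints Ω
  have hone : Nat.card (MulAction.fixedPoints (↥(Subgroup.closure E₀)) Ω) = 1 := by
    rw [Nat.card_eq_one_iff_exists]
    refine ⟨⟨⟨E₀, hE₀, hc₀, hn₀⟩, fun v => Subtype.ext ?_⟩, fun E => Subtype.ext (Subtype.ext ?_)⟩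
    · exact (Set.image_congr fun a ha => by rw [(commute_of_closure hc₀ v.2 ha).eq, mul_inv_cancel_right]).trans
        (Set.image_id' E₀)
    · obtain ⟨g1, g2, g3⟩ := E.1.2
      refine (Set.eq_of_subset_of_ncard_le (fun a ha => K.mem_of_stable g1 g2 g3 (hE₀ ha) fun b hb => ?_)
        (by rw [hn₀, g3])).symm
      exact (congrArg Subtype.val (E.2 ⟨a, Subgroup.subset_closure ha⟩) :
        (fun u => a * u * a⁻¹) '' E.1.1 = E.1.1).subset ⟨b, hb, rfl⟩
  have hxp : IsPGroup 2 ↥(Subgroup.zpowers x) := by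
    rcases eq_or_ne x 1 with rfl | h1
    · exact IsPGroup.of_card (n := 0) (by simp)
    · exact IsPGroup.of_card (n := 1) (by rw [Nat.card_zpowers, orderOf_eq_prime (by rwa [pow_two]) h1, pow_one])
  obtain ⟨E, hE⟩ := hxp.nonempty_fixed_point_of_prime_not_dvd_card Ω fun h2 => by
    rw [Nat.ModEq, hone] at h0
    omega
  refine ⟨E.1, E.2.1, E.2.2.1, E.2.2.2, fun a ha => ?_⟩
  have h := (congrArg Subtype.val (hE ⟨x, Subgroup.mem_zpowers x⟩) : (fun u => x * u * x⁻¹) '' E.1 = E.1).subset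
    ⟨a, ha, rfl⟩
  simpa only [inv_eq_of_mul_eq_one_right hx] using h

/-- Every element of square one centralizes a member. -/
theorem exists_fixed {x : G} (hx : x * x = 1) : ∃ a ∈ D, Commute x a := by
  classical
  by_contra hcon
  push Not at hcon
  have hD := K.trans
  obtain ⟨hX, hT2, hT4⟩ := K.design
  obtain ⟨E, hE, hc, hn, hst⟩ := K.exists_stable hx
  obtain ⟨τ, hτdef⟩ : ∃ τ : G → G, ∀ a, τ a = x * a * x := ⟨_, fun _ => rfl⟩
  have hxinv : x⁻¹ = x := inv_eq_of_mul_eq_one_right hx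
  have hτconj : ∀ a, τ a = x * a * x⁻¹ := fun a => by rw [hτdef, hxinv]
  have hττ : ∀ a, τ (τ a) = a := fun a => by
    rw [hτdef, hτdef]
    calc x * (x * a * x) * x = x * x * a * (x * x) := by group
      _ = a := by rw [hx, one_mul, mul_one]
  have hτinj : Function.Injective τ := fun a b h => by rw [← hττ a, h, hττ b]
  have hτne : ∀ a ∈ D, τ a ≠ a := fun a ha h => hcon a ha (mul_inv_eq_iff_eq_mul.1 (hτconj a ▸ h))
  have hτE : ∀ a ∈ E, τ a ∈ E := fun a ha => hτdef a ▸ hst a ha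
  have hτD : ∀ a ∈ D, τ a ∈ D := fun a ha => hτconj a ▸ hD.conj x a ha
  have hτatt : ∀ y a, a ∈ att E (τ y) ↔ τ a ∈ att E y := fun y a => by
    constructor
    · rintro ⟨ha, hc'⟩
      refine ⟨hτE a ha, ?_⟩
      have := (Commute.conj_iff x).2 hc'
      rwa [← hτconj, ← hτconj, hττ] at this
    · rintro ⟨ha, hc'⟩
      refine ⟨hττ a ▸ hτE _ ha, ?_⟩
      have := (Commute.conj_iff x).2 hc'
      rwa [← hτconj, ← hτconj, hττ] at this
  obtain ⟨e, he⟩ := Set.nonempty_of_ncard_ne_zero (s := E) (by omega)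
  have hee : τ e ≠ e := hτne e (hE he)
  -- eight meeting their image in two
  obtain ⟨X2, hX2⟩ : ∃ X2, X2 = {y | y ∈ D ∧ (att E y).ncard = 8 ∧ ({e, τ e} : Set G) ⊆ att E y} := ⟨_, rfl⟩
  have hX2c : Nat.card ↥X2 = 2464 := by
    rw [Nat.card_coe_set_eq, hX2]
    exact hT2 E hE hc hn _ (Set.insert_subset he (Set.singleton_subset_iff.2 (hτE e he))) (Set.ncard_pair hee.symm)
  obtain ⟨y, hy, hone⟩ : ∃ y ∈ X2, ∀ a ∈ att E y, τ a ∈ att E y → a = e ∨ a = τ e := by
    by_contra hcon2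
    push Not at hcon2
    obtain ⟨R, hR⟩ : ∃ R, R = E \ {e, τ e} := ⟨_, rfl⟩
    have hRc : Nat.card ↥R = 22 := by
      rw [Nat.card_coe_set_eq, hR, Set.ncard_sdiff (Set.insert_subset he (Set.singleton_subset_iff.2 (hτE e he))),
        hn, Set.ncard_pair hee.symm]
    have h1 : ∀ a : ↥R, Nat.card {y : ↥X2 // (a : G) ∈ att E y ∧ τ a ∈ att E y} = 160 := by
      rintro ⟨a, ha⟩
      rw [hR] at ha
      obtain ⟨haE, hae⟩ := ha
      simp only [Set.mem_insert_iff, Set.mem_singleton_iff, not_or] at hae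
      have h4 : ({e, τ e, a, τ a} : Set G).ncard = 4 := by
        have n1 : τ a ≠ e := fun h => hae.2 (by rw [← h, hττ])
        have n2 : τ a ≠ τ e := fun h => hae.1 (hτinj h)
        have n3 : τ a ≠ a := hτne a (hE haE)
        rw [Set.ncard_insert_of_notMem (by simp [hee.symm, Ne.symm hae.1, n1.symm]),
          Set.ncard_insert_of_notMem (by simp [Ne.symm hae.2, n2.symm]), Set.ncard_pair n3.symm]
      rw [← hT4 E hE hc hn _ (by
        simp only [Set.insert_subset_iff, Set.singleton_subset_iff]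
        exact ⟨he, hτE e he, haE, hτE a haE⟩) h4, ← Nat.card_coe_set_eq]
      refine Nat.card_congr ⟨fun p => ⟨p.1, ?_⟩, fun p => ⟨⟨p.1, ?_⟩, ?_⟩, fun _ => rfl, fun _ => rfl⟩
      · obtain ⟨⟨y, hy⟩, h1, h2⟩ := p
        rw [hX2] at hy
        obtain ⟨hy1, hy2, hy3⟩ := hy
        refine ⟨hy1, hy2, ?_⟩
        simp only [Set.insert_subset_iff, Set.singleton_subset_iff] at hy3 ⊢
        exact ⟨hy3.1, hy3.2, h1, h2⟩
      · rw [hX2]
        obtain ⟨y, hy1, hy2, hy3⟩ := p
        simp only [Set.insert_subset_iff, Set.singleton_subset_iff] at hy3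
        refine ⟨hy1, hy2, ?_⟩
        simp only [Set.insert_subset_iff, Set.singleton_subset_iff]
        exact ⟨hy3.1, hy3.2.1⟩
      · have h := p.2.2.2
        simp only [Set.insert_subset_iff, Set.singleton_subset_iff] at h
        exact h.2.2
    have h2 : ∀ y : ↥X2, 2 ≤ Nat.card {a : ↥R // (a : G) ∈ att E y ∧ τ a ∈ att E y} := by
      rintro ⟨y, hy⟩
      obtain ⟨a, ha, hta, hne, hne'⟩ := hcon2 y hy
      have hmem : ∀ b, b ∈ att E y → b ≠ e → b ≠ τ e → b ∈ R := fun b hb b1 b2 => by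
        rw [hR]
        exact ⟨hb.1, by simp [b1, b2]⟩
      have hta' : τ a ∈ R := hmem _ hta (fun h => hne' (by rw [← h, hττ])) fun h => hne (hτinj h)
      haveI := Fintype.ofFinite {b : ↥R // (b : G) ∈ att E y ∧ τ b ∈ att E y}
      rw [Nat.card_eq_fintype_card, Nat.succ_le_iff, Fintype.one_lt_card_iff]
      refine ⟨⟨⟨a, hmem a ha hne hne'⟩, ha, hta⟩, ⟨⟨τ a, hta'⟩, hta, (hττ a).symm ▸ ha⟩, fun h => ?_⟩
      exact hτne a (hE ha.1) (congrArg (fun q => ((q.1 : ↥R) : G)) h).symm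
    have key : Nat.card (Σ a : ↥R, {y : ↥X2 // (a : G) ∈ att E y ∧ τ a ∈ att E y}) =
        Nat.card (Σ y : ↥X2, {a : ↥R // (a : G) ∈ att E y ∧ τ a ∈ att E y}) :=
      Nat.card_congr ⟨fun p => ⟨p.2.1, p.1, p.2.2⟩, fun p => ⟨p.2.1, p.1, p.2.2⟩, fun _ => rfl, fun _ => rfl⟩
    haveI := Fintype.ofFinite ↥R
    haveI := Fintype.ofFinite ↥X2
    rw [Nat.card_sigma, Nat.card_sigma, Finset.sum_const_nat fun a _ => h1 a, Finset.card_univ,
      ← Nat.card_eq_fintype_card, hRc] at key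
    have hge := Finset.card_nsmul_le_sum (Finset.univ : Finset ↥X2) _ 2 fun y _ => h2 y
    rw [Finset.card_univ, ← Nat.card_eq_fintype_card, hX2c, smul_eq_mul] at hge
    omega
  rw [hX2] at hy
  obtain ⟨hyD, hy8, hye⟩ := hy
  simp only [Set.insert_subset_iff, Set.singleton_subset_iff] at hye
  obtain ⟨A, hA⟩ : ∃ A, A = att E y := ⟨_, rfl⟩
  have hAE : A ⊆ E := fun a ha => (hA ▸ ha : a ∈ att E y).1
  have hyy : Commute y (τ y) := hτdef y ▸ commute_of_no_fixed hD hx hcon hyD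
  have hyE : y ∉ E := fun h => by rw [att_full hc h] at hy8; omega
  -- the half of the fibre around `y`
  obtain ⟨P, hP⟩ : ∃ P, P = {f | f ∈ D ∧ att E f = att E y ∧ Commute y f} := ⟨_, rfl⟩
  have hPc : P.ncard = 16 := hP ▸ hX.half E hE hc hn y hyD hy8
  have hPm : ∀ f ∈ P, f ∈ D ∧ att E f = att E y ∧ Commute y f := fun f hf => by rw [hP] at hf; exact hf
  have hPA : Disjoint P A := Set.disjoint_left.2 fun f hf hfA => by
    have h := att_full hc (hAE hfA)
    rw [(hPm f hf).2.1] at h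
    rw [h] at hy8
    omega
  have hQD : P ∪ A ⊆ D := Set.union_subset (fun f hf => (hPm f hf).1) (hAE.trans hE)
  have hQc : ∀ a ∈ P ∪ A, ∀ b ∈ P ∪ A, Commute a b := by
    have hPA' : ∀ f ∈ P, ∀ a ∈ A, Commute f a := fun f hf a ha => by
      have := hA ▸ ha
      rw [← (hPm f hf).2.1] at this
      exact this.2.symm
    rintro a (ha | ha) b (hb | hb)
    · obtain ⟨a1, a2, a3⟩ := hPm a ha
      obtain ⟨b1, b2, b3⟩ := hPm b hb
      exact hX.par E hE hc hn y hyD hy8 a a1 a2 b b1 b2 a3 b3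
    · exact hPA' a ha b hb
    · exact (hPA' b hb a ha).symm
    · exact hc a (hAE ha) b (hAE hb)
  have hQn : (P ∪ A).ncard = 24 := by
    rw [Set.ncard_union_eq hPA, hPc, hA, hy8]
  -- the six further members of the image
  obtain ⟨A', hA'⟩ : ∃ A', A' = att E (τ y) \ {e, τ e} := ⟨_, rfl⟩
  have hτy8 : (att E (τ y)).ncard = 8 := by
    rw [show att E (τ y) = τ '' att E y from Set.ext fun a =>
      ⟨fun h => ⟨τ a, (hτatt y a).1 h, hττ a⟩, fun ⟨b, hb, hba⟩ => (hτatt y a).2 (by rw [← hba, hττ]; exact hb)⟩,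
      Set.ncard_image_of_injective _ hτinj, hy8]
  have hA'6 : A'.ncard = 6 := by
    rw [hA', Set.ncard_sdiff (Set.insert_subset ((hτatt y e).2 hye.2)
      (Set.singleton_subset_iff.2 ((hτatt y _).2 (by rw [hττ]; exact hye.1)))), hτy8, Set.ncard_pair hee.symm]
  have hA'm : ∀ a ∈ A', a ∈ E ∧ Commute a (τ y) ∧ ¬ Commute a y := by
    intro a ha
    rw [hA'] at ha
    refine ⟨ha.1.1, ha.1.2, fun h => ha.2 ?_⟩
    rcases hone a ⟨ha.1.1, h⟩ ((hτatt y a).1 ha.1) with e' | e' <;> simp [e']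
  have hτyP : τ y ∉ P := fun h => by
    obtain ⟨a, ha⟩ := Set.nonempty_of_ncard_ne_zero (s := A') (by omega)
    obtain ⟨a1, a2, a3⟩ := hA'm a ha
    have h' : a ∈ att E (τ y) := ⟨a1, a2⟩
    rw [(hPm _ h).2.1] at h'
    exact a3 h'.2
  have hτyA : τ y ∉ A := fun h => hyE (hττ y ▸ hτE _ (hAE h))
  obtain ⟨a₀, ha₀⟩ := Set.nonempty_of_ncard_ne_zero (s := A') (by omega)
  obtain ⟨V, hV⟩ : ∃ V, V = Subgroup.closure ((fun a => a₀ * a) '' A') := ⟨_, rfl⟩
  have hVE : V ≤ Subgroup.closure E := by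
    rw [hV, Subgroup.closure_le]
    rintro _ ⟨a, ha, rfl⟩
    exact mul_mem (Subgroup.subset_closure (hA'm a₀ ha₀).1) (Subgroup.subset_closure (hA'm a ha).1)
  -- conjugates of `y` under even products stay in `P` and commute with the image
  have hpair : ∀ a ∈ A', Commute y (a₀ * a * y * (a₀ * a)⁻¹) := by
    intro a ha
    obtain ⟨a1, -, a3⟩ := hA'm a ha
    obtain ⟨b1, -, b3⟩ := hA'm a₀ ha₀
    have h1 := braid hD (hE a1) hyD a3
    have h2 := braid hD (hE b1) hyD b3
    simp only [cj_def] at h1 h2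
    have h : Commute (a₀ * y * a₀⁻¹) (a * y * a⁻¹) := by
      rw [inv_eq hD (hE b1), inv_eq hD (hE a1), h1, h2, ← inv_eq hD hyD, inv_eq hD hyD]
      nth_rw 2 [← inv_eq hD hyD]
      nth_rw 4 [← inv_eq hD hyD]
      exact (Commute.conj_iff y).2 (hc a₀ b1 a a1)
    have h' := (Commute.conj_iff a₀).2 h
    rw [show a₀ * (a₀ * y * a₀⁻¹) * a₀⁻¹ = a₀ * a₀ * y * (a₀ * a₀)⁻¹ by group, mul_self hD (hE b1), one_mul,
      inv_one, mul_one] at h'
    rwa [show a₀ * (a * y * a⁻¹) * a₀⁻¹ = a₀ * a * y * (a₀ * a)⁻¹ by group] at h'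
  have horbP : ∀ v ∈ V, v * y * v⁻¹ ∈ P ∧ Commute v (τ y) := by
    intro v hv
    have hfix : Commute v (τ y) := by
      have hle : V ≤ Subgroup.centralizer ({τ y} : Set G) := by
        rw [hV, Subgroup.closure_le]
        rintro _ ⟨a, ha, rfl⟩
        exact Subgroup.mem_centralizer_singleton_iff.2 ((hA'm a₀ ha₀).2.1.mul_left (hA'm a ha).2.1).eq
      exact Subgroup.mem_centralizer_singleton_iff.1 (hle hv)
    refine ⟨?_, hfix⟩
    have hin : ∀ v ∈ V, v * y * v⁻¹ ∈ D ∧ att E (v * y * v⁻¹) = att E y := fun v hv =>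
      ⟨hD.conj v y hyD, att_conj hc (hVE hv) y⟩
    suffices Commute y (v * y * v⁻¹) by rw [hP]; exact ⟨(hin v hv).1, (hin v hv).2, this⟩
    have gy : ∀ {p q : G}, p ∈ V → q ∈ V → Commute y (p * y * p⁻¹) → Commute y (q * y * q⁻¹) →
        Commute y (p * q * y * (p * q)⁻¹) := by
      intro p q hp hq h1 h2
      have h3 : Commute (p * y * p⁻¹) (p * q * y * (p * q)⁻¹) := by
        rw [show p * q * y * (p * q)⁻¹ = p * (q * y * q⁻¹) * p⁻¹ by group]
        exact (Commute.conj_iff p).2 h2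
      exact hX.par E hE hc hn _ (hin p hp).1 (by rw [(hin p hp).2]; exact hy8) y hyD (hin p hp).2.symm
        _ (hin _ (mul_mem hp hq)).1 ((hin _ (mul_mem hp hq)).2.trans (hin p hp).2.symm) h1.symm h3
    rw [hV] at hv
    induction hv using Subgroup.closure_induction with
    | mem v hv => obtain ⟨a, ha, rfl⟩ := hv; exact hpair a ha
    | one => simp
    | mul p q hp hq ihp ihq =>
      have hle : ∀ {g}, g ∈ Subgroup.closure ((fun a => a₀ * a) '' A') → Commute g (τ y) := fun {g} hg => by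
        have hle' : V ≤ Subgroup.centralizer ({τ y} : Set G) := by
          rw [hV, Subgroup.closure_le]
          rintro _ ⟨a, ha, rfl⟩
          exact Subgroup.mem_centralizer_singleton_iff.2 ((hA'm a₀ ha₀).2.1.mul_left (hA'm a ha).2.1).eq
        exact Subgroup.mem_centralizer_singleton_iff.1 (hle' (hV ▸ hg))
      exact gy (hV ▸ hp) (hV ▸ hq) (ihp (hle hp)) (ihq (hle hq))
    | inv p hp ihp =>
      rw [inv_eq_of_mul_eq_one_right (sq_of_closure hD hE hc (hVE (hV ▸ hp)))]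
      exact ihp (by simpa using hfix.inv_left)
  letI : MulAction ↥V G := MulAction.compHom G ((MulAut.conj).comp V.subtype)
  obtain ⟨O, hO⟩ : ∃ O, O = MulAction.orbit ↥V y := ⟨_, rfl⟩
  have h6 : 6 ≤ O.ncard := by
    rw [← hA'6]
    refine Set.ncard_le_ncard_of_injOn (fun a => a₀ * a * y * (a₀ * a)⁻¹) (fun a ha => ?_) fun a ha b hb h => ?_
    · rw [hO]
      exact ⟨⟨a₀ * a, hV ▸ Subgroup.subset_closure ⟨a, ha, rfl⟩⟩, rfl⟩
    · obtain ⟨a1, -, a3⟩ := hA'm a ha
      obtain ⟨b1, -, b3⟩ := hA'm b hb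
      refine eq_of_cj_eq hD (hE a1) (hE b1) hyD (fun h' => a3 h'.symm) (fun h' => b3 h'.symm) ?_
      have h' : a * y * a⁻¹ = b * y * b⁻¹ := conj_injective (x := a₀) (by
        show a₀ * (a * y * a⁻¹) * a₀⁻¹ = a₀ * (b * y * b⁻¹) * a₀⁻¹
        rw [show a₀ * (a * y * a⁻¹) * a₀⁻¹ = a₀ * a * y * (a₀ * a)⁻¹ by group,
          show a₀ * (b * y * b⁻¹) * a₀⁻¹ = a₀ * b * y * (a₀ * b)⁻¹ by group]
        exact h)
      rw [cj_def, cj_def]
      rwa [inv_eq hD (hE a1), inv_eq hD (hE b1)] at h'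
  have h7 : 7 ≤ O.ncard := by
    haveI : Fact (Nat.Prime 2) := ⟨Nat.prime_two⟩
    obtain ⟨n, hn'⟩ := (isPGroup_closure hD hE hc hVE).card_orbit (α := G) y
    rw [Nat.card_coe_set_eq, ← hO] at hn'
    rcases n with _ | _ | _ | n <;> simp only [hn', pow_succ, pow_zero] at h6 ⊢ <;> omega
  have hOQ : O ∪ {e, τ e} ⊆ att (P ∪ A) (τ y) := by
    rintro f (hf | hf)
    · rw [hO] at hf
      obtain ⟨⟨v, hv⟩, rfl⟩ := hf
      show v * y * v⁻¹ ∈ att (P ∪ A) (τ y)
      obtain ⟨h1, h2⟩ := horbP v hv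
      refine ⟨Or.inl h1, ?_⟩
      have h3 := (Commute.conj_iff v).2 hyy
      rwa [h2.eq, mul_inv_cancel_right] at h3
    · rcases hf with hf | hf <;> rw [hf]
      · exact ⟨Or.inr (hA ▸ hye.1), ((hτatt y e).2 hye.2).2⟩
      · exact ⟨Or.inr (hA ▸ hye.2), ((hτatt y _).2 (by rw [hττ]; exact hye.1)).2⟩
  have hdis : Disjoint O ({e, τ e} : Set G) := Set.disjoint_left.2 fun f hf hfe => by
    rw [hO] at hf
    obtain ⟨⟨v, hv⟩, rfl⟩ := hf
    have hfP : v * y * v⁻¹ ∈ P := (horbP v hv).1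
    refine Set.disjoint_left.1 hPA hfP ?_
    rcases hfe with h | h
    · rw [hA, show v * y * v⁻¹ = e from h]; exact hye.1
    · rw [hA, show v * y * v⁻¹ = τ e from h]; exact hye.2
  have h9 : 9 ≤ (att (P ∪ A) (τ y)).ncard := by
    refine le_trans ?_ (Set.ncard_le_ncard hOQ)
    rw [Set.ncard_union_eq hdis, Set.ncard_pair hee.symm]
    omega
  have := hX.big (P ∪ A) hQD hQc hQn (τ y) (hτD y hyD) (fun h => h.elim hτyP hτyA) (by omega)
  omega

end M24Data

end Cfsg.Lib.Fischer.Relations
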