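import Cfsg.Agent.Lib.Fischer.Relations.Levels
import Mathlib.Algebra.Ring.Int.Units

/-!
# Signs and member-generated centralizers

A sign of a subgroup is a homomorphism with value `-1` on each member in it; two signs agree on a group generated
by members. The centralizer of commuting members is generated by members as soon as this holds modulo one of them.
-/

set_option autoImplicit false
set_option linter.unusedSectionVars false

namespace Cfsg.Lib.Fischer.Relations

open Cfsg Cfsg.Lib.Fischer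

variable {G : Type*} [Group G] {D : Set G}

/-- A sign of `K`, as a function on the whole group. -/
structure IsSign (D : Set G) (K : Subgroup G) (χ : G → ℤˣ) : Prop where
  map_mul : ∀ a ∈ K, ∀ b ∈ K, χ (a * b) = χ a * χ b
  member : ∀ x ∈ D, x ∈ K → χ x = -1

/-- The subgroup has a sign. -/
def Signed (D : Set G) (K : Subgroup G) : Prop := ∃ χ, IsSign D K χ

namespace IsSign

variable {K L : Subgroup G} {χ ψ : G → ℤˣ}

theorem map_one (h : IsSign D K χ) : χ 1 = 1 := by
  have := h.map_mul 1 K.one_mem 1 K.one_mem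
  rw [mul_one] at this
  exact mul_eq_left.1 this.symm

theorem mono (h : IsSign D K χ) (hle : L ≤ K) : IsSign D L χ :=
  ⟨fun a ha b hb => h.map_mul a (hle ha) b (hle hb), fun x hx hxL => h.member x hx (hle hxL)⟩

theorem map_inv (h : IsSign D K χ) {a : G} (ha : a ∈ K) : χ a⁻¹ = χ a := by
  have := h.map_mul a⁻¹ (inv_mem ha) a ha
  rw [inv_mul_cancel, h.map_one] at this
  rw [eq_inv_of_mul_eq_one_left this.symm, Int.units_inv_eq_self]

/-- Signs agree on what members generate. -/
theorem eq_on (h : IsSign D K χ) (h' : IsSign D L ψ) {S : Set G} (hS : S ⊆ D) (hK : S ⊆ K) (hL : S ⊆ L)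
    {g : G} (hg : g ∈ Subgroup.closure S) : χ g = ψ g := by
  suffices g ∈ K ∧ g ∈ L ∧ χ g = ψ g from this.2.2
  induction hg using Subgroup.closure_induction with
  | mem x hx => exact ⟨hK hx, hL hx, by rw [h.member x (hS hx) (hK hx), h'.member x (hS hx) (hL hx)]⟩
  | one => exact ⟨K.one_mem, L.one_mem, by rw [h.map_one, h'.map_one]⟩
  | mul x y _ _ ix iy =>
    exact ⟨mul_mem ix.1 iy.1, mul_mem ix.2.1 iy.2.1, by
      rw [h.map_mul x ix.1 y iy.1, h'.map_mul x ix.2.1 y iy.2.1, ix.2.2, iy.2.2]⟩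
  | inv x _ ix => exact ⟨inv_mem ix.1, inv_mem ix.2.1, by rw [h.map_inv ix.1, h'.map_inv ix.2.1, ix.2.2]⟩

/-- Transport by conjugation. -/
theorem conj (hD : Trans D) (h : IsSign D K χ) (g : G) :
    IsSign D (K.map (MulAut.conj g).toMonoidHom) fun x => χ (g⁻¹ * x * g) := by
  refine ⟨?_, ?_⟩
  · rintro _ ⟨a, ha, rfl⟩ _ ⟨b, hb, rfl⟩
    simp only [MulEquiv.coe_toMonoidHom, MulAut.conj_apply]
    rw [show g⁻¹ * (g * a * g⁻¹ * (g * b * g⁻¹)) * g = a * b by group, show g⁻¹ * (g * a * g⁻¹) * g = a by group,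
      show g⁻¹ * (g * b * g⁻¹) * g = b by group]
    exact h.map_mul a ha b hb
  · rintro x hx ⟨a, ha, rfl⟩
    simp only [MulEquiv.coe_toMonoidHom, MulAut.conj_apply] at hx ⊢
    rw [show g⁻¹ * (g * a * g⁻¹) * g = a by group]
    refine h.member a ?_ ha
    have := hD.conj g⁻¹ _ hx
    rwa [show g⁻¹ * (g * a * g⁻¹) * g⁻¹⁻¹ = a by group] at this

end IsSign

theorem Signed.conj (hD : Trans D) {K : Subgroup G} (h : Signed D K) (g : G) :
    Signed D (K.map (MulAut.conj g).toMonoidHom) :=
  let ⟨_, hχ⟩ := h; ⟨_, hχ.conj hD g⟩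

/-- The group generated by the members commuting with all of `A`. -/
def gen (D : Set G) (A : Set G) : Subgroup G := Subgroup.closure {x | x ∈ D ∧ ∀ a ∈ A, Commute a x}

theorem gen_le (A : Set G) : gen D A ≤ Subgroup.centralizer A :=
  (Subgroup.closure_le _).2 fun _ hx => Subgroup.mem_centralizer_iff.2 fun a ha => (hx.2 a ha).eq

theorem mem_gen {A : Set G} {x : G} (hx : x ∈ D) (h : ∀ a ∈ A, Commute a x) : x ∈ gen D A :=
  Subgroup.subset_closure ⟨hx, h⟩

theorem centralizer_map (g : G) (A : Set G) : (Subgroup.centralizer A).map (MulAut.conj g).toMonoidHom =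
    Subgroup.centralizer ((fun a => g * a * g⁻¹) '' A) := by
  ext x
  rw [Subgroup.mem_map, Subgroup.mem_centralizer_iff]
  constructor
  · rintro ⟨y, hy, rfl⟩ _ ⟨a, ha, rfl⟩
    exact (Commute.conj_iff g).2 (Subgroup.mem_centralizer_iff.1 hy a ha)
  · intro h
    refine ⟨g⁻¹ * x * g, Subgroup.mem_centralizer_iff.2 fun a ha => ?_, by simp [mul_assoc]⟩
    refine ((Commute.conj_iff g).1 ?_).eq
    rw [show g * (g⁻¹ * x * g) * g⁻¹ = x by group]
    exact h _ ⟨a, ha, rfl⟩

theorem centralizer_le_gen_conj (hD : Trans D) {A : Set G} (h : Subgroup.centralizer A ≤ gen D A) (g : G) :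
    Subgroup.centralizer ((fun a => g * a * g⁻¹) '' A) ≤ gen D ((fun a => g * a * g⁻¹) '' A) := by
  rw [← centralizer_map, gen]
  refine (Subgroup.map_mono h).trans ?_
  rw [gen, MonoidHom.map_closure, Subgroup.closure_le]
  rintro _ ⟨x, ⟨hx, hxA⟩, rfl⟩
  refine Subgroup.subset_closure ⟨hD.conj g x hx, ?_⟩
  rintro _ ⟨a, ha, rfl⟩
  exact (Commute.conj_iff g).2 (hxA a ha)

/-- The images of the members in `A`. -/
def barSet (D : Set G) (d : G) (A : Set G) :
    Set (↥(Subgroup.closure (perp D d)) ⧸ Subgroup.center ↥(Subgroup.closure (perp D d))) :=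
  {y | ∃ (a : G) (ha : a ∈ perp D d), a ∈ A ∧ bar ha = y}

/-- Generation by members lifts from the image of a neighbourhood. -/
theorem centralizer_le_gen [Finite G] (hD : Trans D) {d : G} (hd : d ∈ D)
    (hC : Subgroup.closure (perp D d) = Subgroup.centralizer ({d} : Set G))
    (hcen : Subgroup.center ↥(Subgroup.closure (perp D d)) =
      (Subgroup.zpowers d).subgroupOf (Subgroup.closure (perp D d))) {A : Set G} (hA : A ⊆ perp D d)
    (h : Subgroup.centralizer (barSet D d A) ≤ gen (image (perp D d)) (barSet D d A)) :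
    Subgroup.centralizer (insert d A) ≤ gen D (insert d A) := by
  intro g hg
  rw [Subgroup.mem_centralizer_iff] at hg
  have hgH : g ∈ Subgroup.closure (perp D d) := by
    rw [hC]; exact Subgroup.mem_centralizer_singleton_iff.2 (hg d (Set.mem_insert _ _)).symm
  have hgbar : (QuotientGroup.mk ⟨g, hgH⟩ :
      ↥(Subgroup.closure (perp D d)) ⧸ Subgroup.center ↥(Subgroup.closure (perp D d))) ∈
        Subgroup.centralizer (barSet D d A) := by
    rw [Subgroup.mem_centralizer_iff]
    rintro _ ⟨a, ha, haA, rfl⟩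
    exact congrArg QuotientGroup.mk (Subtype.ext (hg a (Set.mem_insert_of_mem _ haA)))
  have hdR : d ∈ gen D (insert d A) := mem_gen hd fun a ha => by
    rcases ha with rfl | ha
    exacts [Commute.refl _, (hA ha).2.2.symm]
  have hle : gen (image (perp D d)) (barSet D d A) ≤
      ((gen D (insert d A)).subgroupOf (Subgroup.closure (perp D d))).map (QuotientGroup.mk' _) := by
    rw [gen, Subgroup.closure_le]
    rintro y ⟨hy, hyA⟩
    obtain ⟨x, hx, rfl⟩ := exists_bar hy
    refine ⟨⟨x, Subgroup.subset_closure hx⟩, Subgroup.mem_subgroupOf.2 (mem_gen hx.1 fun a ha => ?_), rfl⟩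
    rcases ha with rfl | ha
    · exact hx.2.2
    · exact (bar_commute hD (fun _ h => h.1) (hA ha) hx).1 (hyA _ ⟨a, hA ha, ha, rfl⟩)
  obtain ⟨r, hr, hre⟩ := hle (h hgbar)
  have hz := QuotientGroup.eq.1 hre
  rw [hcen, Subgroup.mem_subgroupOf] at hz
  have hz' : (r : G)⁻¹ * g ∈ gen D (insert d A) := Subgroup.zpowers_le.2 hdR hz
  simpa using mul_mem (Subgroup.mem_subgroupOf.1 hr) hz'

end Cfsg.Lib.Fischer.Relations
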