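import Cfsg.Agent.Lib.Fischer.Relations.TwentyFour.Cent
import Cfsg.Agent.Lib.Fischer.Relations.TwentyFour.Signs

/-!
# Centralizers of pairs and triangles in type M(24)

The centralizers of a member, of a commuting pair and of a commuting triangle are generated by members, and the
group is transitive on triangles.
-/

set_option autoImplicit false
set_option linter.unusedSectionVars false

namespace Cfsg.Lib.Fischer.Relations

open Cfsg Cfsg.Lib.Fischer

variable {G : Type*} [Group G] [Finite G] {D : Set G}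

/-- The centralizer and the centre of the neighbourhood group of `e`. -/
def Local (D : Set G) (e : G) : Prop :=
  Subgroup.closure (perp D e) = Subgroup.centralizer ({e} : Set G) ∧
    Subgroup.center ↥(Subgroup.closure (perp D e)) = (Subgroup.zpowers e).subgroupOf (Subgroup.closure (perp D e))

theorem Local.conj (hT : Trans D) {d : G} (h : Local D d) (g : G) : Local D (g * d * g⁻¹) := by
  obtain ⟨h1, h2⟩ := h
  obtain ⟨H', hH'⟩ : ∃ H', H' = Subgroup.closure (perp D (g * d * g⁻¹)) := ⟨_, rfl⟩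
  rw [Local, ← hH']
  have hmap : (Subgroup.closure (perp D d)).map (MulAut.conj g).toMonoidHom = H' :=
    hH' ▸ map_conj_closure_perp hT g d
  have hmem : ∀ x, x ∈ H' ↔ g⁻¹ * x * g ∈ Subgroup.closure (perp D d) := fun x => by
    rw [← hmap, Subgroup.mem_map]
    exact ⟨fun ⟨y, hy, e⟩ => e ▸ by simpa [mul_assoc] using hy, fun h => ⟨_, h, by simp [mul_assoc]⟩⟩
  constructor
  · ext x
    rw [hmem, h1, Subgroup.mem_centralizer_singleton_iff, Subgroup.mem_centralizer_singleton_iff,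
      ← commute_iff_eq, ← commute_iff_eq, ← Commute.conj_iff g]
    simp [mul_assoc]
  · ext z
    have hz' : g⁻¹ * (z : G) * g ∈ Subgroup.closure (perp D d) := (hmem z).1 z.2
    have hzc : z ∈ Subgroup.center ↥H' ↔
        (⟨_, hz'⟩ : ↥(Subgroup.closure (perp D d))) ∈ Subgroup.center ↥(Subgroup.closure (perp D d)) := by
      rw [Subgroup.mem_center_iff, Subgroup.mem_center_iff]
      constructor
      · intro h y
        have hy : g * (y : G) * g⁻¹ ∈ H' := (hmem _).2 (by simp [mul_assoc])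
        have := congrArg Subtype.val (h ⟨_, hy⟩)
        refine Subtype.ext (conj_injective (x := g) ?_)
        simpa [mul_assoc] using this
      · intro h y
        have := congrArg Subtype.val (h ⟨_, (hmem y).1 y.2⟩)
        refine Subtype.ext (conj_injective (x := g⁻¹) ?_)
        simpa [mul_assoc] using this
    rw [hzc, h2, Subgroup.mem_subgroupOf, Subgroup.mem_subgroupOf,
      show g * d * g⁻¹ = MulAut.conj g d from rfl]
    show g⁻¹ * (z : G) * g ∈ Subgroup.zpowers d ↔ _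
    rw [Subgroup.mem_zpowers_iff, Subgroup.mem_zpowers_iff]
    refine exists_congr fun k => ?_
    rw [← map_zpow, MulAut.conj_apply]
    constructor <;> intro h
    · rw [h]; group
    · rw [← h]; group

theorem Local.single_le_gen {d : G} (h : Local D d) : Subgroup.centralizer ({d} : Set G) ≤ gen D {d} := by
  rw [← h.1]
  refine (Subgroup.closure_le _).2 fun x hx => mem_gen hx.1 ?_
  rintro a rfl
  exact hx.2.2

/-- A commuting triangle. -/
structure Triad (D : Set G) (d y z : G) : Prop where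
  dy : y ∈ perp D d
  dz : z ∈ perp D d
  yz : z ∈ perp D y

namespace M24Data

variable {d : G} (K : M24Data D d)
include K

theorem loc {e : G} (he : e ∈ D) : Local D e := by
  obtain ⟨g, rfl⟩ := K.trans.trans d K.mem e he
  exact Local.conj K.trans ⟨K.centralizer_eq, K.center_eq⟩ g

theorem img_loc {e : ↥(Subgroup.closure (perp D d)) ⧸ Subgroup.center ↥(Subgroup.closure (perp D d))}
    (he : e ∈ image (perp D d)) : Local (image (perp D d)) e := by
  obtain ⟨-, -, -, -, h⟩ := m23_order K.imgTrans K.imgPrim K.img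
  exact ⟨(h e he).1, (h e he).2.2⟩

theorem bar_conj {k x : G} (hk : k ∈ Subgroup.closure (perp D d)) (hx : x ∈ perp D d) :
    bar (K.conj_mem (K.commute_of_mem hk) hx) = (QuotientGroup.mk ⟨k, hk⟩) * bar hx * (QuotientGroup.mk ⟨k, hk⟩)⁻¹ :=
  rfl

/-- The centralizer of a commuting pair is generated by members. -/
theorem pair_gen {e y : G} (he : e ∈ D) (hy : y ∈ perp D e) :
    Subgroup.centralizer ({e, y} : Set G) ≤ gen D {e, y} := by
  have hD := K.trans
  obtain ⟨g, rfl⟩ := hD.trans d K.mem e he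
  rw [mem_perp_conj hD] at hy
  have h := centralizer_le_gen hD K.mem K.centralizer_eq K.center_eq (A := {g⁻¹ * y * g})
    (Set.singleton_subset_iff.2 hy) ?_
  · have h' := centralizer_le_gen_conj hD h g
    rwa [Set.image_insert_eq, Set.image_singleton, show g * (g⁻¹ * y * g) * g⁻¹ = y by group] at h'
  · have hs : barSet D d {g⁻¹ * y * g} = {bar hy} := by
      ext u
      refine ⟨?_, ?_⟩
      · rintro ⟨a, ha, rfl, rfl⟩
        rfl
      · rintro rfl
        exact ⟨_, hy, rfl, rfl⟩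
    rw [hs]
    exact (K.img_loc (bar_mem hy)).single_le_gen

/-- An element carrying one member's pair to the standard pair. -/
theorem exists_move {e y y₁ : G} (he : e ∈ D) (hy : y ∈ perp D e) (hy₁ : y₁ ∈ perp D d) :
    ∃ g : G, g * e * g⁻¹ = d ∧ g * y * g⁻¹ = y₁ := by
  obtain ⟨g, hg⟩ := K.trans.trans e he d K.mem
  have hy' : g * y * g⁻¹ ∈ perp D d := hg ▸ conj_perp K.fis g e hy
  obtain ⟨h, hh, e'⟩ := perp_transitive K.fis K.mem hy' hy₁
  refine ⟨h * g, ?_, ?_⟩
  · rw [show h * g * e * (h * g)⁻¹ = h * (g * e * g⁻¹) * h⁻¹ by group, hg, (K.commute_of_mem hh).eq,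
      mul_inv_cancel_right]
  · rw [show h * g * y * (h * g)⁻¹ = h * (g * y * g⁻¹) * h⁻¹ by group, e']

/-- The centralizer of a commuting pair is transitive on the members completing it to a triangle. -/
theorem pair_transitive {y z z' : G} (hy : y ∈ perp D d) (hz : Triad D d y z) (hz' : Triad D d y z') :
    ∃ k : G, Commute k d ∧ Commute k y ∧ k * z * k⁻¹ = z' := by
  classical
  have hD := K.trans
  have hsub : ∀ u ∈ perp D d, u ∈ D := fun u hu => hu.1
  have hmem : ∀ u (hu : u ∈ perp D d), u ∈ perp D y → bar hu ∈ perp (image (perp D d)) (bar hy) := fun u hu huy =>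
    ⟨bar_mem hu, fun e => huy.2.1 (bar_inj hD hsub K.nc hu hy e), (bar_commute hD hsub hy hu).2 huy.2.2⟩
  obtain ⟨k, hk, hke⟩ := perp_transitive K.imgFis (bar_mem hy) (hmem z hz.dz hz.yz) (hmem z' hz'.dz hz'.yz)
  obtain ⟨R, hR⟩ : ∃ R : Subgroup ↥(Subgroup.closure (perp D d)),
      R = (Subgroup.centralizer ({y} : Set G)).subgroupOf _ := ⟨_, rfl⟩
  have hle : Subgroup.closure (perp (image (perp D d)) (bar hy)) ≤ R.map (QuotientGroup.mk' _) := by
    rw [Subgroup.closure_le]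
    intro u hu
    obtain ⟨x, hx, rfl⟩ := exists_bar hu.1
    refine ⟨⟨x, Subgroup.subset_closure hx⟩, ?_, rfl⟩
    rw [hR]
    exact Subgroup.mem_centralizer_singleton_iff.2 ((bar_commute hD hsub hy hx).1 hu.2.2).eq.symm
  obtain ⟨⟨k₀, hk₀⟩, hkR, rfl⟩ := hle hk
  rw [hR] at hkR
  refine ⟨k₀, K.commute_of_mem hk₀, Subgroup.mem_centralizer_singleton_iff.1 hkR, ?_⟩
  exact bar_inj hD hsub K.nc (K.conj_mem (K.commute_of_mem hk₀) hz.dz) hz'.dz hke

/-- Triangles are conjugate. -/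
theorem tri_transitive {d₁ y₁ z₁ d₂ y₂ z₂ : G} (h₁ : Triad D d₁ y₁ z₁) (hd₁ : d₁ ∈ D) (h₂ : Triad D d₂ y₂ z₂)
    (hd₂ : d₂ ∈ D) : ∃ g : G, g * d₁ * g⁻¹ = d₂ ∧ g * y₁ * g⁻¹ = y₂ ∧ g * z₁ * g⁻¹ = z₂ := by
  have hD := K.trans
  obtain ⟨y₀, hy₀, -⟩ := exists_bar K.imgTrans.ne.choose_spec
  obtain ⟨g₁, a₁, b₁⟩ := K.exists_move hd₁ h₁.dy hy₀
  obtain ⟨g₂, a₂, b₂⟩ := K.exists_move hd₂ h₂.dy hy₀
  have htri : ∀ {e y z : G} (g : G), Triad D e y z → g * e * g⁻¹ = d → g * y * g⁻¹ = y₀ → Triad D d y₀ (g * z * g⁻¹) :=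
    fun {e y z} g h a b => ⟨hy₀, a ▸ conj_perp K.fis g e h.dz, b ▸ conj_perp K.fis g y h.yz⟩
  obtain ⟨k, hkd, hky, hkz⟩ := K.pair_transitive hy₀ (htri g₁ h₁ a₁ b₁) (htri g₂ h₂ a₂ b₂)
  refine ⟨g₂⁻¹ * k * g₁, ?_, ?_, ?_⟩
  · rw [show g₂⁻¹ * k * g₁ * d₁ * (g₂⁻¹ * k * g₁)⁻¹ = g₂⁻¹ * (k * (g₁ * d₁ * g₁⁻¹) * k⁻¹) * g₂ by group, a₁,
      hkd.eq, mul_inv_cancel_right, ← a₂]
    group
  · rw [show g₂⁻¹ * k * g₁ * y₁ * (g₂⁻¹ * k * g₁)⁻¹ = g₂⁻¹ * (k * (g₁ * y₁ * g₁⁻¹) * k⁻¹) * g₂ by group, b₁,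
      hky.eq, mul_inv_cancel_right, ← b₂]
    group
  · rw [show g₂⁻¹ * k * g₁ * z₁ * (g₂⁻¹ * k * g₁)⁻¹ = g₂⁻¹ * (k * (g₁ * z₁ * g₁⁻¹) * k⁻¹) * g₂ by group, hkz]
    group

/-- The centralizer of a triangle is generated by members. -/
theorem tri_gen {e y z : G} (he : e ∈ D) (h : Triad D e y z) :
    Subgroup.centralizer ({e, y, z} : Set G) ≤ gen D {e, y, z} := by
  have hD := K.trans
  have hsub : ∀ u ∈ perp D d, u ∈ D := fun u hu => hu.1
  obtain ⟨c, K'⟩ := m23_data K.imgTrans K.imgPrim K.img fun c hc Q hQ =>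
    Dvd.dvd.trans (by norm_num) (ReflSeven.quot_dvd Q hQ hc)
  obtain ⟨y₁, hy₁, rfl⟩ := exists_bar K'.mem
  obtain ⟨g, a, b⟩ := K.exists_move he h.dy hy₁
  have hzd : g * z * g⁻¹ ∈ perp D d := a ▸ conj_perp K.fis g e h.dz
  have hzy : g * z * g⁻¹ ∈ perp D y₁ := b ▸ conj_perp K.fis g y h.yz
  have hzE : bar hzd ∈ perp (image (perp D d)) (bar hy₁) :=
    ⟨bar_mem hzd, fun e => hzy.2.1 (bar_inj hD hsub K.nc hzd hy₁ e), (bar_commute hD hsub hy₁ hzd).2 hzy.2.2⟩
  have h₀ : Subgroup.centralizer ({d, y₁, g * z * g⁻¹} : Set G) ≤ gen D {d, y₁, g * z * g⁻¹} := by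
    refine centralizer_le_gen hD K.mem K.centralizer_eq K.center_eq (A := {y₁, g * z * g⁻¹})
      (Set.insert_subset hy₁ (Set.singleton_subset_iff.2 hzd)) ?_
    have hs : barSet D d {y₁, g * z * g⁻¹} = insert (bar hy₁) {bar hzd} := by
      ext u
      refine ⟨?_, ?_⟩
      · rintro ⟨a, ha, (rfl | rfl), rfl⟩
        exacts [Or.inl rfl, Or.inr rfl]
      · rintro (rfl | rfl)
        exacts [⟨_, hy₁, Or.inl rfl, rfl⟩, ⟨_, hzd, Or.inr rfl, rfl⟩]
    rw [hs]
    refine centralizer_le_gen K.imgTrans (bar_mem hy₁) (K.img_loc (bar_mem hy₁)).1 (K.img_loc (bar_mem hy₁)).2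
      (A := {bar hzd}) (Set.singleton_subset_iff.2 hzE) ?_
    have hs2 : barSet (image (perp D d)) (bar hy₁) {bar hzd} = {bar hzE} := by
      ext u
      refine ⟨?_, ?_⟩
      · rintro ⟨a, ha, rfl, rfl⟩
        rfl
      · rintro rfl
        exact ⟨_, hzE, rfl, rfl⟩
    rw [hs2]
    refine le_trans (le_of_eq (centralizer_eq_closure K'.imgTrans K'.imgPrim K'.img (bar_mem hzE)).symm) ?_
    refine (Subgroup.closure_le _).2 fun x hx => mem_gen hx.1 ?_
    rintro a rfl
    exact hx.2.2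
  have h' := centralizer_le_gen_conj hD h₀ g⁻¹
  rwa [Set.image_insert_eq, Set.image_insert_eq, Set.image_singleton, show g⁻¹ * d * g⁻¹⁻¹ = e by rw [← a]; group,
    show g⁻¹ * y₁ * g⁻¹⁻¹ = y by rw [← b]; group, show g⁻¹ * (g * z * g⁻¹) * g⁻¹⁻¹ = z by group] at h'

end M24Data

end Cfsg.Lib.Fischer.Relations
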