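import Cfsg.Agent.Lib.Fischer.Relations.TwentyFour.Fixed
import Cfsg.Agent.Lib.Fischer.Relations.TwentyFour.PairCentralizer
import Cfsg.Agent.Lib.Fischer.Relations.ThreeA.SixNorm
import Cfsg.Agent.S0296
import Cfsg.Agent.Lib.Core.Layer

/-!
# The common centralizer of two non-commuting members in type M(24)

It is generated by the common neighbours, has derived part the simple group PΩ⁺(8, 3) with quotient the symmetric
group of degree three, and its largest commuting sets of common neighbours have eight members.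
-/

set_option autoImplicit false
set_option linter.unusedSectionVars false

namespace Cfsg.Lib.Fischer.Relations

open Cfsg Cfsg.Lib.Fischer Cfsg.Lib.Fischer.Relations.ThreeA

universe u

variable {G : Type u} [Group G] [Finite G] {D : Set G}

/-- The normal subgroup of order three of the symmetric group of degree three. -/
theorem perm_three_alt : ∀ p : Equiv.Perm (Fin 3), p * p = 1 → p ≠ 1 →
    ∀ q : Equiv.Perm (Fin 3), q * q * q = 1 → p * q * p⁻¹ = q⁻¹ := by decide +kernel

theorem perm_three_cube : ∀ p : Equiv.Perm (Fin 3), p ≠ 1 → p * p * p = 1 ∨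
    ∃ q : Equiv.Perm (Fin 3), q * p * q⁻¹ * p ≠ 1 ∧
      (q * p * q⁻¹ * p) * (q * p * q⁻¹ * p) * (q * p * q⁻¹ * p) = 1 := by
  decide +kernel

namespace M24Data

variable {d : G} (K : M24Data D d)
include K

/-- A commuting set of members lies in one of 24 members. -/
theorem clique_le_base {W : Set G} (hW : W ⊆ D) (hc : ∀ a ∈ W, ∀ b ∈ W, Commute a b) :
    ∃ E : Set G, E ⊆ D ∧ (∀ a ∈ E, ∀ b ∈ E, Commute a b) ∧ E.ncard = 24 ∧ W ⊆ E := by
  classical
  have hD := K.trans
  haveI : Fact (Nat.Prime 2) := ⟨Nat.prime_two⟩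
  obtain ⟨E₀, hE₀, hc₀, hn₀, -⟩ := K.exists_base
  let Ω := {E : Set G // E ⊆ D ∧ (∀ a ∈ E, ∀ b ∈ E, Commute a b) ∧ E.ncard = 24}
  letI : MulAction G Ω :=
    { smul := fun g E => ⟨(fun a => g * a * g⁻¹) '' E.1, by
        rintro _ ⟨a, ha, rfl⟩; exact hD.conj g a (E.2.1 ha), by
        rintro _ ⟨a, ha, rfl⟩ _ ⟨b, hb, rfl⟩; exact (Commute.conj_iff g).2 (E.2.2.1 a ha b hb),
        (Set.ncard_image_of_injective _ fun a b h => conj_injective (x := g) h).trans E.2.2.2⟩
      one_smul := fun E => Subtype.ext (show (fun a => (1 : G) * a * 1⁻¹) '' E.1 = E.1 by simp)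
      mul_smul := fun g h E => Subtype.ext (show (fun a => g * h * a * (g * h)⁻¹) '' E.1 =
          (fun a => g * a * g⁻¹) '' ((fun a => h * a * h⁻¹) '' E.1) by
        rw [Set.image_image]; exact Set.image_congr fun a _ => by group) }
  have h0 := (isPGroup_closure hD hE₀ hc₀ le_rfl).card_modEq_card_fixedPoints Ω
  have hone : Nat.card (MulAction.fixedPoints (↥(Subgroup.closure E₀)) Ω) = 1 := by
    rw [Nat.card_eq_one_iff_exists]
    refine ⟨⟨⟨E₀, hE₀, hc₀, hn₀⟩, fun v => Subtype.ext ?_⟩, fun E => Subtype.ext (Subtype.ext ?_)⟩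
    · exact (Set.image_congr fun a ha => by rw [(commute_of_closure hc₀ v.2 ha).eq, mul_inv_cancel_right]).trans
        (Set.image_id' E₀)
    · obtain ⟨g1, g2, g3⟩ := E.1.2
      refine (Set.eq_of_subset_of_ncard_le (fun a ha => K.mem_of_stable g1 g2 g3 (hE₀ ha) fun b hb => ?_)
        (by rw [hn₀, g3])).symm
      exact (congrArg Subtype.val (E.2 ⟨a, Subgroup.subset_closure ha⟩) :
        (fun u => a * u * a⁻¹) '' E.1.1 = E.1.1).subset ⟨b, hb, rfl⟩
  obtain ⟨E, hE⟩ := (isPGroup_closure hD hW hc le_rfl).nonempty_fixed_point_of_prime_not_dvd_card Ω fun h2 => by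
    rw [Nat.ModEq, hone] at h0
    omega
  refine ⟨E.1, E.2.1, E.2.2.1, E.2.2.2, fun w hw => K.mem_of_stable E.2.1 E.2.2.1 E.2.2.2 (hW hw) fun a ha => ?_⟩
  exact (congrArg Subtype.val (hE ⟨w, Subgroup.subset_closure hw⟩) : (fun u => w * u * w⁻¹) '' E.1 = E.1).subset
    ⟨a, ha, rfl⟩

/-- Pairs of non-commuting members are conjugate. -/
theorem far_transitive {a b a' b' : G} (ha : a ∈ D) (hb : b ∈ D) (ha' : a' ∈ D) (hb' : b' ∈ D)
    (h : ¬ Commute a b) (h' : ¬ Commute a' b') : ∃ g : G, g * a * g⁻¹ = a' ∧ g * b * g⁻¹ = b' := by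
  have hT := K.trans
  obtain ⟨g₁, hg₁⟩ := hT.trans a ha a' ha'
  obtain ⟨g₂, hg₂, hg₂e⟩ := orb_all K.fis ha' (hT.conj g₁ b hb) hb'
    (fun e => h ((Commute.conj_iff g₁).1 (hg₁.symm ▸ e))) h'
  have hg₂a : Commute g₂ a' := commute_of_mem_closure K.fis ha' hg₂
  exact ⟨g₂ * g₁, by rw [show g₂ * g₁ * a * (g₂ * g₁)⁻¹ = g₂ * (g₁ * a * g₁⁻¹) * g₂⁻¹ by group, hg₁, hg₂a.eq,
    mul_inv_cancel_right], by rw [show g₂ * g₁ * b * (g₂ * g₁)⁻¹ = g₂ * (g₁ * b * g₁⁻¹) * g₂⁻¹ by group, hg₂e]⟩

/-- The order of the centralizer of two non-commuting members. -/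
theorem card_far_centralizer {a b : G} (ha : a ∈ D) (hb : b ∈ D) (h : ¬ Commute a b) :
    Nat.card ↥(Subgroup.centralizer ({a, b} : Set G)) = 6 * 4952179814400 := by
  have hT := K.trans
  obtain ⟨g₀, hg₀⟩ := hT.trans a ha d K.mem
  obtain ⟨c, hcdef⟩ : ∃ c, c = g₀ * b * g₀⁻¹ := ⟨_, rfl⟩
  have hc : c ∈ D := hcdef ▸ hT.conj g₀ b hb
  have hdc : ¬ Commute d c := fun e => h ((Commute.conj_iff g₀).1 (by rwa [hg₀, ← hcdef]))
  have hcard : Nat.card ↥(Subgroup.centralizer ({a, b} : Set G)) =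
      Nat.card ↥(Subgroup.centralizer ({d} : Set G) ⊓ Subgroup.centralizer ({c} : Set G)) := by
    have hmap : (Subgroup.centralizer ({a, b} : Set G)).map (MulAut.conj g₀).toMonoidHom =
        Subgroup.centralizer ({d} : Set G) ⊓ Subgroup.centralizer ({c} : Set G) := by
      rw [centralizer_map, Set.image_insert_eq, Set.image_singleton, hg₀, ← hcdef]
      ext x
      rw [mem_centralizer_pair, Subgroup.mem_inf, Subgroup.mem_centralizer_singleton_iff,
        Subgroup.mem_centralizer_singleton_iff]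
      rfl
    rw [← hmap]
    exact (Subgroup.card_map_of_injective (f := (MulAut.conj g₀).toMonoidHom) (MulAut.conj g₀).injective).symm
  have horbit : Nat.card ↥(Subgroup.centralizer ({d} : Set G)) = Nat.card (far D d) *
      Nat.card ↥(Subgroup.centralizer ({d} : Set G) ⊓ Subgroup.centralizer ({c} : Set G)) := by
    refine card_conj_orbit ⟨hc, fun h => hdc h.symm⟩ (fun k hk y hy => ⟨hT.conj k y hy.1, fun h => hy.2 ?_⟩)
      fun y hy => ?_
    · rw [← Commute.conj_iff k]
      rwa [show k * d * k⁻¹ = d by rw [Subgroup.mem_centralizer_singleton_iff.1 hk, mul_inv_cancel_right]]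
    · obtain ⟨g, hg, he⟩ := orb_all K.fis K.mem hc hy.1 hdc (fun h => hy.2 h.symm)
      exact ⟨g, Subgroup.mem_centralizer_singleton_iff.2 (commute_of_mem_closure K.fis K.mem hg).eq, he⟩
  have hfar : Nat.card (far D d) = 275264 := by
    have := card_class K.mem K.params
    rw [K.main.1] at this
    omega
  have hK := K.card_closure
  rw [K.centralizer_eq] at hK
  rw [hK, hfar, ← hcard] at horbit
  norm_num at horbit ⊢
  omega

/-- Eight commuting common neighbours, and no more. -/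
theorem far_width {a b : G} (ha : a ∈ D) (hb : b ∈ D) (h : ¬ Commute a b) :
    (∃ W : Set G, W ⊆ common D a b ∧ (∀ u ∈ W, ∀ v ∈ W, Commute u v) ∧ W.ncard = 8) ∧
      Cfsg.commutingWidth (common D a b) = 8 := by
  classical
  have hT := K.trans
  have hex : ∃ W : Set G, W ⊆ common D a b ∧ (∀ u ∈ W, ∀ v ∈ W, Commute u v) ∧ W.ncard = 8 := by
    obtain ⟨E, hE, hc, hn, -⟩ := K.exists_base
    obtain ⟨x, hx, hxc⟩ : {x | x ∈ D ∧ (att E x).ncard = 8}.Nonempty :=
      Set.nonempty_of_ncard_ne_zero (by rw [K.base.count E hE hc hn]; norm_num)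
    obtain ⟨e, he, hex⟩ : ∃ e ∈ E, e ∉ att E x := by
      by_contra hcon
      push Not at hcon
      have := Set.ncard_le_ncard (show E ⊆ att E x from hcon)
      omega
    have hxE : x ∉ E := fun hxE => by
      rw [att_full hc hxE, hn] at hxc
      omega
    have hxe : ¬ Commute x e := fun q => hex ⟨he, q.symm⟩
    obtain ⟨g, g1, g2⟩ := K.far_transitive hx (hE he) ha hb hxe h
    refine ⟨(MulAut.conj g).toMonoidHom '' att E x, ?_, ?_, ?_⟩
    · rw [← g1, ← g2, ← common_conj hT]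
      exact Set.image_mono fun u hu => ⟨⟨hE hu.1, fun q => hxE (q ▸ hu.1), hu.2.symm⟩, hc e he u hu.1⟩
    · rintro _ ⟨u, hu, rfl⟩ _ ⟨v, hv, rfl⟩
      exact (Commute.conj_iff g).2 (hc u hu.1 v hv.1)
    · exact (Set.ncard_image_of_injective _ (MulAut.conj g).injective).trans hxc
  refine ⟨hex, le_antisymm ?_ ?_⟩
  · obtain ⟨W, hW, hc, hn⟩ := exists_width (common D a b)
    rw [← hn]
    obtain ⟨E, hE, hcE, hnE, hsub⟩ := K.clique_le_base (W := insert b W)
      (Set.insert_subset hb fun u hu => (hW hu).1.1)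
      (by
        rintro u (rfl | hu) v (rfl | hv)
        exacts [Commute.refl _, (hW hv).2, (hW hu).2.symm, hc u hu v hv])
    by_contra hlt
    have haE : a ∉ E := fun q => h (hcE a q b (hsub (Or.inl rfl)))
    have hWatt : W ⊆ att E a := fun u hu => ⟨hsub (Or.inr hu), (hW hu).1.2.2.symm⟩
    have := Set.ncard_le_ncard hWatt
    have := (K.design).1.big E hE hcE hnE a ha haE (by omega)
    omega
  · obtain ⟨W, hW, hc, hn⟩ := hex
    rw [← hn]
    exact le_width hW hc

end M24Data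

/-- The common centralizer as in the definition. -/
theorem exists_orth_iso (h24 : Cfsg.IsOfTypeM24 G D) : ∃ e ∈ D, ∃ c ∈ D, ¬ Commute e c ∧
    ∃ (N : Subgroup (↥(Subgroup.closure (common D e c)) ⧸ Subgroup.center ↥(Subgroup.closure (common D e c))))
      (_ : N.Normal), Nonempty (N ≃* Cfsg.POmega (ZMod 3) (Cfsg.quadFormPlus 4 (ZMod 3))) ∧
      Nonempty ((↥(Subgroup.closure (common D e c)) ⧸ Subgroup.center ↥(Subgroup.closure (common D e c))) ⧸ N ≃*
        Equiv.Perm (Fin 3)) := by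
  obtain ⟨-, e, he, c, hc, hec, -, hN⟩ := h24
  refine ⟨e, he, c, hc, hec, ?_⟩
  have hset : ({y : G | y ∈ D ∧ y ≠ e ∧ Commute e y} ∩ {y : G | y ∈ D ∧ y ≠ c ∧ Commute c y}) = common D e c := by
    ext y
    exact ⟨fun h => ⟨h.1, h.2.2.2⟩, fun h => ⟨h.1, h.1.1, fun q => hec (q ▸ h.1.2.2), h.2⟩⟩
  have key : ∀ S T : Set G, S = T →
      (∃ (N : Subgroup (↥(Subgroup.closure S) ⧸ Subgroup.center ↥(Subgroup.closure S))) (_ : N.Normal),
        Nonempty (N ≃* Cfsg.POmega (ZMod 3) (Cfsg.quadFormPlus 4 (ZMod 3))) ∧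
        Nonempty ((↥(Subgroup.closure S) ⧸ Subgroup.center ↥(Subgroup.closure S)) ⧸ N ≃* Equiv.Perm (Fin 3))) →
      ∃ (N : Subgroup (↥(Subgroup.closure T) ⧸ Subgroup.center ↥(Subgroup.closure T))) (_ : N.Normal),
        Nonempty (N ≃* Cfsg.POmega (ZMod 3) (Cfsg.quadFormPlus 4 (ZMod 3))) ∧
        Nonempty ((↥(Subgroup.closure T) ⧸ Subgroup.center ↥(Subgroup.closure T)) ⧸ N ≃* Equiv.Perm (Fin 3)) := by
    rintro S T rfl hS
    exact hS
  exact key _ _ hset hN

namespace M24Data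

variable {d : G} (K : M24Data D d)
include K

/-- The structure of the centralizer of two non-commuting members. -/
theorem far_structure (h24 : Cfsg.IsOfTypeM24 G D) {a b : G} (ha : a ∈ D) (hb : b ∈ D) (h : ¬ Commute a b)
    {L : Subgroup G} (hL : L = Subgroup.centralizer ({a, b} : Set G)) :
    L = Subgroup.closure (common D a b) ∧
      Nonempty (↥(Cfsg.generalizedFittingSubgroup ↥L) ≃* Cfsg.POmega (ZMod 3) (Cfsg.quadFormPlus 4 (ZMod 3))) ∧
      ∃ _ : (Cfsg.generalizedFittingSubgroup ↥L).Normal,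
        Nonempty (↥L ⧸ Cfsg.generalizedFittingSubgroup ↥L ≃* Equiv.Perm (Fin 3)) := by
  classical
  have hT := K.trans
  obtain ⟨e, he, c, hc, hec, N, hNn, ⟨eN⟩, ⟨eQ⟩⟩ := exists_orth_iso h24
  haveI := hNn
  obtain ⟨L₀, hL₀⟩ : ∃ L₀, L₀ = Subgroup.closure (common D e c) := ⟨_, rfl⟩
  subst hL₀
  have hle : ∀ x y : G, Subgroup.closure (common D x y) ≤ Subgroup.centralizer ({x, y} : Set G) := fun x y =>
    (Subgroup.closure_le _).2 fun u hu => mem_centralizer_pair.2 ⟨hu.1.2.2.symm, hu.2.symm⟩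
  have hcardQ : Nat.card (↥(Subgroup.closure (common D e c)) ⧸ Subgroup.center ↥(Subgroup.closure (common D e c))) =
      6 * 4952179814400 := by
    rw [Subgroup.card_eq_card_quotient_mul_card_subgroup N, Nat.card_congr eN.toEquiv, Nat.card_congr eQ.toEquiv,
      card_pomega_eight, Nat.card_perm, Nat.card_fin]
    rfl
  have hmul := Subgroup.card_eq_card_quotient_mul_card_subgroup (Subgroup.center ↥(Subgroup.closure (common D e c)))
  have hle0 := Nat.le_of_dvd Nat.card_pos (Subgroup.card_dvd_of_le (hle e c))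
  rw [K.card_far_centralizer he hc hec, hmul, hcardQ] at hle0
  have hZpos : 0 < Nat.card ↥(Subgroup.center ↥(Subgroup.closure (common D e c))) := Nat.card_pos
  have hZ1 : Nat.card ↥(Subgroup.center ↥(Subgroup.closure (common D e c))) = 1 := by omega
  have heq0 : Subgroup.closure (common D e c) = Subgroup.centralizer ({e, c} : Set G) := by
    refine Subgroup.eq_of_le_of_card_ge (hle e c) ?_
    rw [K.card_far_centralizer he hc hec, hmul, hcardQ, hZ1]
  obtain ⟨g, g1, g2⟩ := K.far_transitive he hc ha hb hec h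
  have hmapc : (Subgroup.centralizer ({e, c} : Set G)).map (MulAut.conj g).toMonoidHom = L := by
    rw [hL, centralizer_map, Set.image_insert_eq, Set.image_singleton, g1, g2]
  have hLcl : L = Subgroup.closure (common D a b) := by
    rw [← hmapc, ← heq0, MonoidHom.map_closure, common_conj hT, g1, g2]
  refine ⟨hLcl, ?_⟩
  obtain ⟨E₁⟩ : Nonempty (↥L ≃* ↥(Subgroup.closure (common D e c))) :=
    ⟨(((MulAut.conj g).subgroupMap (Subgroup.centralizer ({e, c} : Set G))).trans
      (MulEquiv.subgroupCongr hmapc)).symm.trans (MulEquiv.subgroupCongr heq0.symm)⟩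
  obtain ⟨φ, hφs, hφk⟩ : ∃ φ : ↥L →* Equiv.Perm (Fin 3), Function.Surjective φ ∧
      Nonempty (↥φ.ker ≃* Cfsg.POmega (ZMod 3) (Cfsg.quadFormPlus 4 (ZMod 3))) := by
    obtain ⟨q, hq⟩ : ∃ q : ↥L →* _, q =
        (QuotientGroup.mk' (Subgroup.center ↥(Subgroup.closure (common D e c)))).comp E₁.toMonoidHom := ⟨_, rfl⟩
    have hqb : Function.Bijective q := by
      rw [hq, MonoidHom.coe_comp]
      refine Function.Bijective.comp ⟨?_, QuotientGroup.mk'_surjective _⟩ E₁.bijective
      rw [← MonoidHom.ker_eq_bot_iff, QuotientGroup.ker_mk']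
      exact Subgroup.eq_bot_of_card_eq _ hZ1
    refine ⟨(eQ.toMonoidHom.comp (QuotientGroup.mk' N)).comp q,
      (eQ.surjective.comp (QuotientGroup.mk'_surjective N)).comp hqb.2, ?_⟩
    have hker : ((eQ.toMonoidHom.comp (QuotientGroup.mk' N)).comp q).ker =
        N.map (MulEquiv.ofBijective q hqb).symm.toMonoidHom := by
      ext x
      rw [MonoidHom.mem_ker, Subgroup.mem_map_equiv]
      show eQ (QuotientGroup.mk' N (q x)) = 1 ↔ q x ∈ N
      rw [map_eq_one_iff _ eQ.injective, QuotientGroup.mk'_apply, QuotientGroup.eq_one_iff]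
    exact ⟨((MulEquiv.subgroupCongr hker).trans
      (((MulEquiv.ofBijective q hqb).symm).subgroupMap N).symm).trans eN⟩
  obtain ⟨eP⟩ := hφk
  haveI := Cfsg.Agent.S0296.result (F := ZMod 3) 4 le_rfl
  haveI hsN : IsSimpleGroup ↥φ.ker := eP.isSimpleGroup
  have hnc : ¬ ∀ x y : ↥φ.ker, x * y = y * x := fun hab => by
    let : CommGroup ↥φ.ker := { (inferInstance : Group ↥φ.ker) with mul_comm := hab }
    have := IsSimpleGroup.prime_card (α := ↥φ.ker)
    rw [Nat.card_congr eP.toEquiv, card_pomega_eight] at this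
    exact Nat.not_prime_mul (a := 2) (b := 2476089907200) (by decide) (by decide) this
  have hperf : ⁅φ.ker, φ.ker⁆ = φ.ker := by
    refine le_antisymm (Subgroup.commutator_le.2 fun g hg k hk => by
      rw [commutatorElement_def]; exact mul_mem (mul_mem (mul_mem hg hk) (inv_mem hg)) (inv_mem hk)) ?_
    have hsub : (⁅(⊤ : Subgroup ↥φ.ker), (⊤ : Subgroup ↥φ.ker)⁆).map φ.ker.subtype = ⁅φ.ker, φ.ker⁆ := by
      rw [Subgroup.map_commutator, ← MonoidHom.range_eq_map, Subgroup.range_subtype]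
    rcases (inferInstance : (⁅(⊤ : Subgroup ↥φ.ker), (⊤ : Subgroup ↥φ.ker)⁆).Normal).eq_bot_or_eq_top with q | q
    · exact absurd (fun x y => commutatorElement_eq_one_iff_mul_comm.1 ((Subgroup.mem_bot).1
        (q ▸ Subgroup.commutator_mem_commutator (Subgroup.mem_top x) (Subgroup.mem_top y)))) hnc
    · rw [← hsub, q, ← MonoidHom.range_eq_map, Subgroup.range_subtype]
  -- members of the group are transpositions
  obtain ⟨χ, hχ, -⟩ := K.exists_global
  have hmemL : ∀ x ∈ common D a b, x ∈ L := fun x hx => hLcl ▸ Subgroup.subset_closure hx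
  have hχN : ∀ x : ↥L, x ∈ φ.ker → χ x = 1 := fun x hx => by
    have hle' : φ.ker ≤ (χ.comp L.subtype).ker := by
      rw [← hperf, Subgroup.commutator_le]
      intro u _ v _
      rw [MonoidHom.mem_ker, map_commutatorElement, commutatorElement_eq_one_iff_mul_comm]
      exact mul_comm _ _
    exact hle' hx
  have hφmem : ∀ x (hx : x ∈ common D a b), φ ⟨x, hmemL x hx⟩ ≠ 1 ∧
      φ ⟨x, hmemL x hx⟩ * φ ⟨x, hmemL x hx⟩ = 1 := fun x hx => by
    refine ⟨fun q => ?_, ?_⟩
    · have := hχN _ (MonoidHom.mem_ker.2 q)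
      rw [show χ ((⟨x, hmemL x hx⟩ : ↥L) : G) = -1 from hχ x hx.1.1] at this
      exact absurd this (by decide)
    · rw [← map_mul, show (⟨x, hmemL x hx⟩ * ⟨x, hmemL x hx⟩ : ↥L) = 1 from Subtype.ext (mul_self hT hx.1.1), map_one]
  -- the kernel is self-centralizing
  have hcen : Subgroup.centralizer (φ.ker : Set ↥L) = ⊥ := by
    obtain ⟨M, hM⟩ : ∃ M, M = Subgroup.centralizer (φ.ker : Set ↥L) := ⟨_, rfl⟩
    haveI hMn : M.Normal := hM ▸ inferInstance
    rw [← hM]
    have hMinj : ∀ m ∈ M, φ m = 1 → m = 1 := fun m hm hm1 => by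
      have hz : (⟨m, hm1⟩ : ↥φ.ker) ∈ Subgroup.center ↥φ.ker := Subgroup.mem_center_iff.2 fun k => Subtype.ext
        ((Subgroup.mem_centralizer_iff.1 (show m ∈ Subgroup.centralizer (φ.ker : Set ↥L) from hM ▸ hm)) k k.2)
      rcases (inferInstance : (Subgroup.center ↥φ.ker).Normal).eq_bot_or_eq_top with q | q
      · rw [q, Subgroup.mem_bot] at hz
        exact congrArg (Subtype.val : ↥φ.ker → ↥L) hz
      · refine absurd (fun x y : ↥φ.ker => ?_) hnc
        have hy : y ∈ Subgroup.center ↥φ.ker := by rw [q]; exact Subgroup.mem_top y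
        exact Subgroup.mem_center_iff.1 hy x
    by_contra hne
    obtain ⟨m, hm, hmne⟩ : ∃ m ∈ M, m ≠ 1 := by
      by_contra hcon
      push Not at hcon
      exact hne ((Subgroup.eq_bot_iff_forall _).2 hcon)
    obtain ⟨t, ht, htne, ht3⟩ : ∃ t ∈ M, t ≠ 1 ∧ φ t * φ t * φ t = 1 := by
      rcases perm_three_cube (φ m) (fun q => hmne (hMinj m hm q)) with q | q
      · exact ⟨m, hm, hmne, q⟩
      · obtain ⟨p, hp1, hp3⟩ := q
        obtain ⟨k, rfl⟩ := hφs p
        refine ⟨k * m * k⁻¹ * m, mul_mem (hMn.conj_mem m hm k) hm, fun e' => hp1 ?_, ?_⟩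
        · rw [← map_inv, ← map_mul, ← map_mul, ← map_mul, e', map_one]
        · simp only [map_mul, map_inv]; exact hp3
    have ht3' : t * t * t = 1 := hMinj _ (mul_mem (mul_mem ht ht) ht) (by rw [map_mul, map_mul, ht3])
    have hinv : ∀ x (hx : x ∈ common D a b), x * (t : G) * x⁻¹ = (t : G)⁻¹ := fun x hx => by
      have hd : (⟨x, hmemL x hx⟩ : ↥L) * t * ⟨x, hmemL x hx⟩⁻¹ * t = 1 := by
        refine hMinj _ (mul_mem (hMn.conj_mem t ht _) ht) ?_
        rw [map_mul, map_mul, map_mul, map_inv, perm_three_alt _ (hφmem x hx).2 (hφmem x hx).1 _ ht3, inv_mul_cancel]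
      exact eq_inv_of_mul_eq_one_left (congrArg Subtype.val hd)
    obtain ⟨W, hW, hWc, hWn⟩ := (K.far_width ha hb h).1
    obtain ⟨x, hx, y, hy, hxy⟩ : ∃ x ∈ W, ∃ y ∈ W, x ≠ y := (Set.one_lt_ncard).1 (by omega)
    obtain ⟨T, hT'⟩ : ∃ T, T = (t : G) := ⟨_, rfl⟩
    have hT3 : T * T * T = 1 := by rw [hT']; exact congrArg Subtype.val ht3'
    have hT1 : T ≠ 1 := fun q => htne (Subtype.ext (hT' ▸ q))
    have hxD := (hW hx).1.1
    have hyD := (hW hy).1.1
    have hxT : x * T * x⁻¹ = T⁻¹ := hT' ▸ hinv x (hW hx)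
    have hyT : y * T * y⁻¹ = T⁻¹ := hT' ▸ hinv y (hW hy)
    have hconj : T * x * T⁻¹ = x * T := by
      have e1 : x * T⁻¹ * x⁻¹ = T := by
        rw [show x * T⁻¹ * x⁻¹ = (x * T * x⁻¹)⁻¹ by group, hxT, inv_inv]
      have e2 : T⁻¹ * T⁻¹ = T := by
        rw [← mul_inv_rev]
        exact inv_eq_of_mul_eq_one_right hT3
      calc T * x * T⁻¹ = (x * T⁻¹ * x⁻¹) * x * T⁻¹ := by rw [e1]
        _ = x * (T⁻¹ * T⁻¹) := by group
        _ = x * T := by rw [e2]
    have hxTD : x * T ∈ D := hconj ▸ hT.conj T x hxD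
    have hxyT : Commute (y * x) T := by
      refine mul_inv_eq_iff_eq_mul.1 ?_
      rw [show y * x * T * (y * x)⁻¹ = y * (x * T * x⁻¹) * y⁻¹ by group, hxT,
        show y * T⁻¹ * y⁻¹ = (y * T * y⁻¹)⁻¹ by group, hyT, inv_inv]
    have hord : orderOf (y * (x * T)) = 6 := by
      rw [← mul_assoc, hxyT.orderOf_mul_eq_mul_orderOf_of_coprime]
      · rw [show orderOf (y * x) = 2 from orderOf_eq_prime
          (by rw [pow_two, (hWc x hx y hy).mul_mul_mul_comm, mul_self hT hyD, mul_self hT hxD, one_mul])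
          (fun q => hxy ((inv_eq_of_mul_eq_one_right q).symm.trans (inv_eq hT hyD))),
          show orderOf T = 3 from @orderOf_eq_prime _ _ _ 3 ⟨Nat.prime_three⟩
            (by rw [pow_succ, pow_two, hT3]) hT1]
      · rw [show orderOf (y * x) = 2 from orderOf_eq_prime
          (by rw [pow_two, (hWc x hx y hy).mul_mul_mul_comm, mul_self hT hyD, mul_self hT hxD, one_mul])
          (fun q => hxy ((inv_eq_of_mul_eq_one_right q).symm.trans (inv_eq hT hyD))),
          show orderOf T = 3 from @orderOf_eq_prime _ _ _ 3 ⟨Nat.prime_three⟩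
            (by rw [pow_succ, pow_two, hT3]) hT1]
        decide
    by_cases hcm : Commute y (x * T)
    · have : orderOf (y * (x * T)) ∣ 2 := orderOf_dvd_of_pow_eq_one (by
        rw [pow_two, hcm.symm.mul_mul_mul_comm, mul_self hT hyD, mul_self hT hxTD, one_mul])
      rw [hord] at this
      norm_num at this
    · have := order_three hT hyD hxTD hcm
      omega
  have hK'q : Cfsg.IsQuasisimple ↥φ.ker := by
    have hperf' : Group.IsPerfect ↥φ.ker := Subgroup.isPerfect_iff.2 hperf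
    have hcb : Subgroup.center ↥φ.ker = ⊥ :=
      (inferInstance : (Subgroup.center ↥φ.ker).Normal).eq_bot_or_eq_top.resolve_right fun q =>
        hnc fun x y => Subgroup.mem_center_iff.1 (q ▸ Subgroup.mem_top y) x
    exact ⟨hperf', ((QuotientGroup.quotientMulEquivOfEq hcb).trans QuotientGroup.quotientBot).isSimpleGroup⟩
  have hcomp : Cfsg.IsComponent φ.ker := ⟨Subgroup.Normal.isSubnormal inferInstance, hK'q⟩
  have hlay : Cfsg.layer ↥L = φ.ker := by
    refine le_antisymm (sSup_le fun M hM => ?_) (Lib.Core.le_layer hcomp)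
    by_contra hne
    have q := Lib.Core.component_commute hM hcomp (fun e' => hne e'.le)
    rw [Subgroup.commutator_eq_bot_iff_le_centralizer, hcen] at q
    exact hne (q.trans bot_le)
  have hFit : Cfsg.generalizedFittingSubgroup ↥L = φ.ker := by
    refine le_antisymm (sup_le hlay.le ?_) (hlay.symm.le.trans le_sup_left)
    have q := Lib.Core.commutator_layer_fitting (G := ↥L)
    rw [hlay, Subgroup.commutator_comm, Subgroup.commutator_eq_bot_iff_le_centralizer, hcen] at q
    exact q.trans bot_le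
  haveI hn : (Cfsg.generalizedFittingSubgroup ↥L).Normal := hFit ▸ MonoidHom.normal_ker φ
  exact ⟨⟨(MulEquiv.subgroupCongr hFit).trans eP⟩, hn,
    ⟨(QuotientGroup.quotientMulEquivOfEq hFit).trans (QuotientGroup.quotientKerEquivOfSurjective φ hφs)⟩⟩

end M24Data

end Cfsg.Lib.Fischer.Relations
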