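import Cfsg.Agent.Lib.Fischer.Relations.TwentyFour.Local

/-!
# Members around a triangle

Six further members have product the second vertex, up to the first; five further members have product all three.
-/

set_option autoImplicit false
set_option linter.unusedSectionVars false

namespace Cfsg.Lib.Fischer.Relations

open Module Cfsg Cfsg.Lib.Fischer Cfsg.Lib.Linear.Herm Cfsg.Agent.S1631 Cfsg.Lib.Fischer.RadicalAbelian
open Cfsg.Lib.Linear

variable {G : Type*} [Group G] [Finite G] {D : Set G}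

/-- The members adjacent to all three vertices. -/
def oth (D : Set G) (d y z : G) : Set G := {x | x ∈ perp D d ∧ x ∈ perp D y ∧ x ∈ perp D z}

theorem oth_conj (hD : Trans D) {d y z x : G} (g : G) (hx : x ∈ oth D d y z) :
    g * x * g⁻¹ ∈ oth D (g * d * g⁻¹) (g * y * g⁻¹) (g * z * g⁻¹) := by
  refine ⟨?_, ?_, ?_⟩ <;> rw [mem_perp_conj hD]
  · simpa [mul_assoc] using hx.1
  · simpa [mul_assoc] using hx.2.1
  · simpa [mul_assoc] using hx.2.2

theorem conj_list_prod (g : G) (l : List G) : (l.map fun x => g * x * g⁻¹).prod = g * l.prod * g⁻¹ := by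
  induction l with
  | nil => simp
  | cons a l ih => rw [List.map_cons, List.prod_cons, ih, List.prod_cons]; group

namespace M24Data

variable {d : G} (K : M24Data D d)
include K

theorem exists_six : ∃ y z, Triad D d y z ∧ ∃ l : List G, l.length = 6 ∧ (∀ x ∈ l, x ∈ oth D d y z) ∧
    (l.prod = y ∨ l.prod = y * d) := by
  have hD := K.trans
  have hsub : ∀ u ∈ perp D d, u ∈ D := fun u hu => hu.1
  obtain ⟨F, _, _, hF, e, f, ⟨C⟩⟩ := K.exists_coord
  obtain ⟨m, M, hm⟩ := C.exists_lm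
  obtain ⟨ω, hω⟩ := Linear.exists_omega (fourField hF) (hB_isSymm hF 6) (hB_nondegenerate hF 6)
  obtain ⟨-, hsurj⟩ := C.six_products hm hω
  obtain ⟨l₀, -, hl⟩ := hsurj e (Or.inl rfl)
  obtain ⟨y, hy, rfl⟩ := exists_bar C.data.mem
  obtain ⟨z, hz, rfl⟩ := exists_bar C.bmem.1
  have hyz : z ∈ perp D y := by
    refine ⟨hz.1, fun e => C.bmem.2.1 ?_, (bar_commute hD hsub hy hz).1 C.bmem.2.2⟩
    subst e; rfl
  refine ⟨y, z, ⟨hy, hz, hyz⟩, ?_⟩
  have hlift : ∀ a b' c : F, a ≠ 0 ∨ b' ≠ 0 ∨ c ≠ 0 → ∃ x, ∃ hx : x ∈ perp D d, x ∈ oth D d y z ∧ bar hx = m a b' c := by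
    intro a b' c h
    obtain ⟨hp, hbar, hM, -⟩ := hm a b' c h
    rw [← hbar] at hM
    obtain ⟨x, hx, hxe⟩ := exists_bar hp.1
    refine ⟨x, hx, ⟨hx, ⟨hx.1, fun e => hp.2.1 ?_, ?_⟩, ⟨hx.1, fun e => hM.2.1 ?_, ?_⟩⟩, hxe⟩
    · rw [← hxe]; simp only [bar, e]
    · rw [← bar_commute hD hsub hy hx, hxe]; exact hp.2.2
    · simp only [← hxe]; subst e; rfl
    · rw [← bar_commute hD hsub hz hx, hxe]
      exact (bar_commute C.data.trans (fun _ h => h.1) C.bmem hp).1 hM.2.2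
  have h1 : ∀ u v : F, (1 : F) ≠ 0 ∨ u ≠ 0 ∨ v ≠ 0 := fun _ _ => Or.inl one_ne_zero
  obtain ⟨x1, p1, o1, e1⟩ := hlift 1 0 0 (h1 _ _)
  obtain ⟨x2, p2, o2, e2⟩ := hlift 0 1 0 (Or.inr (Or.inl one_ne_zero))
  obtain ⟨x3, p3, o3, e3⟩ := hlift 0 0 1 (Or.inr (Or.inr one_ne_zero))
  obtain ⟨x4, p4, o4, e4⟩ := hlift 1 1 l₀ (h1 _ _)
  obtain ⟨x5, p5, o5, e5⟩ := hlift 1 ω (l₀ * frob hF ω) (h1 _ _)
  obtain ⟨x6, p6, o6, e6⟩ := hlift 1 (frob hF ω) (l₀ * ω) (h1 _ _)
  rw [← e1, ← e2, ← e3, ← e4, ← e5, ← e6] at hl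
  obtain ⟨l, hldef⟩ : ∃ l, l = [x1, x2, x3, x4, x5, x6] := ⟨_, rfl⟩
  have hlo : ∀ x ∈ l, x ∈ oth D d y z := fun x hx => by
    simp only [hldef, List.mem_cons, List.not_mem_nil, or_false] at hx
    rcases hx with rfl | rfl | rfl | rfl | rfl | rfl
    exacts [o1, o2, o3, o4, o5, o6]
  refine ⟨l, by simp [hldef], hlo, ?_⟩
  have hcl : l.prod ∈ Subgroup.closure (perp D d) :=
    list_prod_mem fun x hx => Subgroup.subset_closure (hlo x hx).1
  have hmk : (QuotientGroup.mk ⟨y, Subgroup.subset_closure hy⟩ :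
      ↥(Subgroup.closure (perp D d)) ⧸ Subgroup.center ↥(Subgroup.closure (perp D d))) =
        QuotientGroup.mk ⟨l.prod, hcl⟩ := by
    refine hl.symm.trans ?_
    simp only [bar, List.prod_cons, List.prod_nil, mul_one, ← QuotientGroup.mk_mul]
    exact congrArg QuotientGroup.mk (Subtype.ext (by simp [hldef, mul_assoc]))
  have h := Subgroup.mem_center_iff.1 (QuotientGroup.eq.1 hmk)
  rcases K.eq_one_or (z := y⁻¹ * l.prod) (hy.2.2.symm.inv_left.mul_left (K.commute_of_mem hcl))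
    (fun s hs => (congrArg Subtype.val (h ⟨s, Subgroup.subset_closure hs⟩)).symm) with e | e
  · exact Or.inl (inv_mul_eq_one.1 e).symm
  · exact Or.inr (inv_mul_eq_iff_eq_mul.1 e)

/-- Six further members of a triangle with product the second vertex, up to the first. -/
theorem six_at {e y z : G} (he : e ∈ D) (h : Triad D e y z) : ∃ l : List G, l.length = 6 ∧
    (∀ x ∈ l, x ∈ oth D e y z) ∧ (l.prod = y ∨ l.prod = y * e) := by
  obtain ⟨y₀, z₀, h₀, l, hlen, hl, hp⟩ := K.exists_six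
  obtain ⟨g, rfl, rfl, rfl⟩ := K.tri_transitive h₀ K.mem h he
  refine ⟨l.map fun x => g * x * g⁻¹, by simp [hlen], fun x hx => ?_, ?_⟩
  · obtain ⟨x, hx', rfl⟩ := List.mem_map.1 hx
    exact oth_conj K.trans g (hl x hx')
  · rw [conj_list_prod]
    rcases hp with e | e <;> rw [e]
    exacts [Or.inl rfl, Or.inr (by group)]

/-- Five further members of a triangle with product all three vertices. -/
theorem five_at {e y z : G} (he : e ∈ D) (h : Triad D e y z) : ∃ l : List G, l.length = 5 ∧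
    (∀ x ∈ l, x ∈ oth D e y z) ∧ y * (z * l.prod) = e := by
  obtain ⟨L, hnd, hlen, hL, hc, hp⟩ := K.exists_seven
  rcases L with _ | ⟨y₀, _ | ⟨z₀, l⟩⟩
  · simp at hlen
  · simp at hlen
  simp only [List.nodup_cons, List.mem_cons, not_or] at hnd
  have h₀ : Triad D d y₀ z₀ := ⟨hL y₀ (by simp), hL z₀ (by simp),
    ⟨(hL z₀ (by simp)).1, Ne.symm hnd.1.1, hc y₀ (by simp) z₀ (by simp)⟩⟩
  obtain ⟨g, rfl, rfl, rfl⟩ := K.tri_transitive h₀ K.mem h he
  refine ⟨l.map fun x => g * x * g⁻¹, by simpa using hlen, fun x hx => ?_, ?_⟩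
  · obtain ⟨x, hx', rfl⟩ := List.mem_map.1 hx
    have hxL := hL x (by simp [hx'])
    exact oth_conj K.trans g ⟨hxL, ⟨hxL.1, fun e => hnd.1.2 (e ▸ hx'), hc y₀ (by simp) x (by simp [hx'])⟩,
      ⟨hxL.1, fun e => hnd.2.1 (e ▸ hx'), hc z₀ (by simp) x (by simp [hx'])⟩⟩
  · rw [conj_list_prod]
    calc g * y₀ * g⁻¹ * (g * z₀ * g⁻¹ * (g * l.prod * g⁻¹)) = g * (y₀ * (z₀ * l.prod)) * g⁻¹ := by group
      _ = g * d * g⁻¹ := by rw [← List.prod_cons, ← List.prod_cons, hp]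

end M24Data

end Cfsg.Lib.Fischer.Relations
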