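import Cfsg.Agent.Lib.Fischer.Relations.TwentyFour.UniqueClass

/-!
# An exchange of a commuting pair moves one of their common neighbours

For a commuting pair `d, r` there are five common neighbours and a member `x` commuting with `d` and with them,
but not with `r`, such that every member commuting with all five commutes with `d`.
-/

set_option autoImplicit false
set_option linter.unusedSectionVars false

namespace Cfsg.Lib.Fischer.Relations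

open Module Cfsg Cfsg.Lib.Fischer Cfsg.Lib.Linear.Herm Cfsg.Agent.S1631 Cfsg.Lib.Fischer.RadicalAbelian
open Cfsg.Lib.Linear

variable {G : Type*} [Group G] [Finite G] {D : Set G}

theorem Coord.exists_witness {F : Type} [Field F] [Fintype F] {hF : Fintype.card F = 2 ^ 2} {d : G}
    (C : Coord D d hF) :
    ∃ a b x z v : G, a ∈ perp D d ∧ b ∈ perp D d ∧ x ∈ perp D d ∧ z ∈ perp D d ∧ v ∈ perp D d ∧ a ≠ b ∧
      Commute a b ∧ Commute x a ∧ ¬ Commute x b ∧ (∀ u, (u = z ∨ u = v) → u ≠ a ∧ u ≠ b ∧ u ≠ x ∧ Commute u a ∧ Commute u b ∧ Commute u x) ∧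
      ∀ x' ∈ perp D d, Commute z x' → Commute v x' → Commute a x' := by
  classical
  have hK := fourField hF
  obtain ⟨ω, hω⟩ := Relations.Linear.exists_omega hK (hB_isSymm hF 6) (hB_nondegenerate hF 6)
  have hω0 : ω ≠ 0 := fun e => hω (by rw [e, map_zero])
  have hω1 : ω ≠ 1 := fun e => hω (by rw [e, map_one])
  obtain ⟨M, hM⟩ := C.exists_pm
  have h100 : (1 : F) ≠ 0 ∨ (0 : F) ≠ 0 ∨ (0 : F) ≠ 0 := Or.inl one_ne_zero
  have h010 : (0 : F) ≠ 0 ∨ (1 : F) ≠ 0 ∨ (0 : F) ≠ 0 := Or.inr (Or.inl one_ne_zero)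
  have h001 : (0 : F) ≠ 0 ∨ (0 : F) ≠ 0 ∨ (1 : F) ≠ 0 := Or.inr (Or.inr one_ne_zero)
  have h101 : (1 : F) ≠ 0 ∨ (0 : F) ≠ 0 ∨ (1 : F) ≠ 0 := Or.inl one_ne_zero
  obtain ⟨q, hq⟩ : ∃ q : Fin 6 → F, q = ![0, 0, 1, ω, 0, 0] := ⟨_, rfl⟩
  have hfun : ∀ p : Fin 6 → F, hB hF 6 p q = p 2 ^ 2 + p 3 ^ 2 * ω := fun p => by
    simp [hB_apply, Cfsg.hermForm, hq, Fin.sum_univ_six]
    ring
  have hq0 : q ≠ 0 := fun h => by
    have := congrFun h 2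
    simp [hq] at this
  have hqq : hB hF 6 q q = 0 := by
    rw [hfun]
    simp only [hq, Matrix.cons_val]
    linear_combination hK.cube ω hω0 + hK.two
  obtain ⟨x, hx, k, hk, hkx⟩ := C.exists_point hq0 hqq
  have hcx : ∀ {a b c : F}, (a ≠ 0 ∨ b ≠ 0 ∨ c ≠ 0) → (Commute (M a b c) x ↔ b = 0) := fun {a b c} h => by
    obtain ⟨hs, j, hj, e⟩ := hM a b c h
    rw [C.U.comm _ hs _ hx, e, hkx, map_smul, LinearMap.map_smulₛₗ, LinearMap.smul_apply, hfun]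
    simp only [pv, Matrix.cons_val, smul_eq_mul, mul_eq_zero, hk, map_eq_zero, hj, false_or]
    refine ⟨fun h => ?_, fun h => by rw [h]; ring⟩
    have h' : b ^ 2 * (1 + ω) = 0 := by linear_combination h
    refine pow_eq_zero_iff (n := 2) two_ne_zero |>.1 ((mul_eq_zero.1 h').resolve_right fun e => hω1 ?_)
    linear_combination e - hK.two
  have hxne : ∀ {a b c : F}, (a ≠ 0 ∨ b ≠ 0 ∨ c ≠ 0) → M a b c ≠ x := fun {a b c} h e => by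
    have h' := (hM a b c h).2
    obtain ⟨j, hj, e'⟩ := h'
    rw [e, hkx] at e'
    have e2 := congrFun e' 2
    have e3 := congrFun e' 3
    simp only [hq, Pi.smul_apply, Matrix.cons_val, pv, smul_eq_mul] at e2 e3
    rw [← e2] at e3
    exact hω1 (mul_left_cancel₀ hk e3)
  have ne : ∀ {a b c a' b' c' : F}, (a ≠ 0 ∨ b ≠ 0 ∨ c ≠ 0) → (a' ≠ 0 ∨ b' ≠ 0 ∨ c' ≠ 0) →
      (a = 0 ∧ a' ≠ 0 ∨ b = 0 ∧ b' ≠ 0 ∨ c = 0 ∧ c' ≠ 0) → M a b c ≠ M a' b' c' := fun {a b c a' b' c'} h h' hd e => by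
    obtain ⟨j, hj, e1, e2, e3⟩ := C.pm_eq hM h h' e
    rcases hd with ⟨p, p'⟩ | ⟨p, p'⟩ | ⟨p, p'⟩
    · rw [p] at e1; exact p' ((mul_eq_zero.1 e1.symm).resolve_left hj)
    · rw [p] at e2; exact p' ((mul_eq_zero.1 e2.symm).resolve_left hj)
    · rw [p] at e3; exact p' ((mul_eq_zero.1 e3.symm).resolve_left hj)
  refine ⟨M 1 0 0, M 0 1 0, x, M 0 0 1, M 1 0 1, (hM _ _ _ h100).1, (hM _ _ _ h010).1, hx, (hM _ _ _ h001).1,
    (hM _ _ _ h101).1, ne h100 h010 (Or.inr (Or.inl ⟨rfl, one_ne_zero⟩)), C.pm_commute hM h100 h010,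
    ((hcx h100).2 rfl).symm, fun h => one_ne_zero ((hcx h010).1 h.symm), ?_, fun x' hx' hz hv => ?_⟩
  · rintro u (rfl | rfl)
    · exact ⟨ne h001 h100 (Or.inl ⟨rfl, one_ne_zero⟩), ne h001 h010 (Or.inr (Or.inl ⟨rfl, one_ne_zero⟩)), hxne h001,
        C.pm_commute hM h001 h100, C.pm_commute hM h001 h010, (hcx h001).2 rfl⟩
    · exact ⟨(ne h100 h101 (Or.inr (Or.inr ⟨rfl, one_ne_zero⟩))).symm,
        ne h101 h010 (Or.inr (Or.inl ⟨rfl, one_ne_zero⟩)), hxne h101, C.pm_commute hM h101 h100,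
        C.pm_commute hM h101 h010, (hcx h101).2 rfl⟩
  · obtain ⟨hzs, j, hj, ez⟩ := hM 0 0 1 h001
    obtain ⟨hvs, i, hi, ev⟩ := hM 1 0 1 h101
    obtain ⟨has, l, hl, ea⟩ := hM 1 0 0 h100
    have hz' := (C.U.comm _ hzs _ hx').1 hz
    have hv' := (C.U.comm _ hvs _ hx').1 hv
    rw [ez, LinearMap.map_smulₛₗ, LinearMap.smul_apply, smul_eq_mul, mul_eq_zero, map_eq_zero,
      or_iff_right hj] at hz'
    have e : pv (1 : F) 0 1 = pv 1 0 0 + pv 0 0 1 := by rw [add_pv, add_zero, add_zero, zero_add]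
    rw [ev, LinearMap.map_smulₛₗ, LinearMap.smul_apply, smul_eq_mul, mul_eq_zero, map_eq_zero,
      or_iff_right hi, e, map_add, LinearMap.add_apply, hz', add_zero] at hv'
    refine (C.U.comm _ has _ hx').2 ?_
    rw [ea, LinearMap.map_smulₛₗ, LinearMap.smul_apply, hv', smul_zero]

namespace M24Data

variable {d : G} (K : M24Data D d)
include K

/-- Some commuting pair with five witnesses against an exchange. -/
theorem exists_witness : ∃ (a b x : G) (l : List G), a ∈ D ∧ b ∈ perp D a ∧ x ∈ D ∧ Commute x a ∧ ¬ Commute x b ∧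
    (∀ u ∈ l, u ∈ D ∧ u ≠ a ∧ u ≠ b ∧ Commute u a ∧ Commute u b ∧ Commute u x) ∧
    ∀ x' ∈ D, (∀ u ∈ l, Commute u x') → Commute a x' := by
  have hD := K.trans
  have hsub : ∀ u ∈ perp D d, u ∈ D := fun u hu => hu.1
  obtain ⟨F, _, _, hF, r₁, f, ⟨C⟩⟩ := K.exists_coord
  obtain ⟨a₂, b₂, x₂, z₂, v₂, ha, hb, hx, hz, hv, hab, cab, cxa, nxb, hzv, hprop⟩ := C.co.exists_witness
  obtain ⟨r, hr, rfl⟩ := exists_bar C.data.mem
  obtain ⟨e, he, rfl⟩ := exists_bar C.bmem.1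
  have hl : ∀ u, u ∈ perp (image (perp (image (perp D d)) (bar hr))) (bar C.bmem) → ∃ x, ∃ hx : x ∈ perp D d,
      ∃ hx' : bar hx ∈ perp (image (perp D d)) (bar hr), bar hx' = u ∧ x ≠ r ∧ x ≠ e ∧ Commute r x ∧ Commute e x := by
    intro u hu
    obtain ⟨w, hw, rfl⟩ := exists_bar hu.1
    obtain ⟨x, hx, rfl⟩ := exists_bar hw.1
    refine ⟨x, hx, hw, rfl, fun h => hw.2.1 ?_, fun h => hu.2.1 ?_, (bar_commute hD hsub hr hx).1 hw.2.2,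
      (bar_commute hD hsub he hx).1 ((bar_commute C.data.trans (fun _ h => h.1) C.bmem hw).1 hu.2.2)⟩
    · subst h; rfl
    · subst h; rfl
  obtain ⟨a, ha₁, ha₂, rfl, a1, a2, a3, a4⟩ := hl a₂ ha
  obtain ⟨b, hb₁, hb₂, rfl, b1, b2, b3, b4⟩ := hl b₂ hb
  obtain ⟨x, hx₁, hx₂, rfl, x1, x2, x3, x4⟩ := hl x₂ hx
  obtain ⟨z, hz₁, hz₂, rfl, z1, z2, z3, z4⟩ := hl z₂ hz
  obtain ⟨v, hv₁, hv₂, rfl, v1, v2, v3, v4⟩ := hl v₂ hv
  have cm : ∀ {x y : G} (hx : x ∈ perp D d) (hy : y ∈ perp D d) (hx' : bar hx ∈ perp (image (perp D d)) (bar hr))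
      (hy' : bar hy ∈ perp (image (perp D d)) (bar hr)), Commute (bar hx') (bar hy') ↔ Commute x y :=
    fun hx hy hx' hy' => (bar_commute C.data.trans (fun _ h => h.1) hx' hy').trans (bar_commute hD hsub hx hy)
  refine ⟨a, b, x, [d, r, e, z, v], ha₁.1, ⟨hb₁.1, fun h => hab (by subst h; rfl), (cm ha₁ hb₁ ha₂ hb₂).1 cab⟩,
    hx₁.1, (cm hx₁ ha₁ hx₂ ha₂).1 cxa, fun h => nxb ((cm hx₁ hb₁ hx₂ hb₂).2 h), ?_, fun x' hx' hcomm => ?_⟩
  · simp only [List.mem_cons, List.not_mem_nil, or_false]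
    rintro u (rfl | rfl | rfl | hu)
    · exact ⟨K.mem, ha₁.2.1.symm, hb₁.2.1.symm, ha₁.2.2, hb₁.2.2, hx₁.2.2⟩
    · exact ⟨hr.1, a1.symm, b1.symm, a3, b3, x3⟩
    · exact ⟨he.1, a2.symm, b2.symm, a4, b4, x4⟩
    · rcases hu with rfl | rfl
      · obtain ⟨h1, h2, -, h4, h5, h6⟩ := hzv _ (Or.inl rfl)
        exact ⟨hz₁.1, fun h => h1 (by subst h; rfl), fun h => h2 (by subst h; rfl), (cm hz₁ ha₁ hz₂ ha₂).1 h4,
          (cm hz₁ hb₁ hz₂ hb₂).1 h5, (cm hz₁ hx₁ hz₂ hx₂).1 h6⟩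
      · obtain ⟨h1, h2, -, h4, h5, h6⟩ := hzv _ (Or.inr rfl)
        exact ⟨hv₁.1, fun h => h1 (by subst h; rfl), fun h => h2 (by subst h; rfl), (cm hv₁ ha₁ hv₂ ha₂).1 h4,
          (cm hv₁ hb₁ hv₂ hb₂).1 h5, (cm hv₁ hx₁ hv₂ hx₂).1 h6⟩
  · simp only [List.mem_cons, List.not_mem_nil, or_false, forall_eq_or_imp, forall_eq] at hcomm
    obtain ⟨cd, cr, ce, cz, cv⟩ := hcomm
    by_cases e1 : x' = d
    · rw [e1]; exact ha₁.2.2.symm
    by_cases e2 : x' = r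
    · rw [e2]; exact a3.symm
    by_cases e3 : x' = e
    · rw [e3]; exact a4.symm
    have hy₁ : x' ∈ perp D d := ⟨hx', e1, cd⟩
    have hy₂ : bar hy₁ ∈ perp (image (perp D d)) (bar hr) :=
      ⟨bar_mem _, fun h => e2 (bar_inj hD hsub K.nc hy₁ hr h), (bar_commute hD hsub hr hy₁).2 cr⟩
    have hy₃ : bar hy₂ ∈ perp (image (perp (image (perp D d)) (bar hr))) (bar C.bmem) :=
      ⟨bar_mem _, fun h => e3 (bar_inj hD hsub K.nc hy₁ he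
        (bar_inj C.data.trans (fun _ h => h.1) C.data.nc hy₂ C.bmem h)),
        (bar_commute C.data.trans (fun _ h => h.1) C.bmem hy₂).2 ((bar_commute hD hsub he hy₁).2 ce)⟩
    exact (cm ha₁ hy₁ ha₂ hy₂).1 (hprop _ hy₃ ((cm hz₁ hy₁ hz₂ hy₂).2 cz) ((cm hv₁ hy₁ hv₂ hy₂).2 cv))

/-- An element exchanging a commuting pair moves one of their common neighbours. -/
theorem exchange_moves {a b g : G} (ha : a ∈ D) (hb : b ∈ perp D a) (hga : g * a * g⁻¹ = b) (hgb : g * b * g⁻¹ = a) :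
    ∃ u ∈ D, u ≠ a ∧ u ≠ b ∧ Commute u a ∧ Commute u b ∧ g * u * g⁻¹ ≠ u := by
  have hD := K.trans
  obtain ⟨a₀, b₀, x, l, ha₀, hb₀, hx, hxa, hxb, hl, hprop⟩ := K.exists_witness
  obtain ⟨y, hy, -⟩ := exists_bar K.imgTrans.ne.choose_spec
  obtain ⟨h₁, e₁, f₁⟩ := K.exists_move ha hb hy
  obtain ⟨h₂, e₂, f₂⟩ := K.exists_move ha₀ hb₀ hy
  obtain ⟨k, hk⟩ : ∃ k, k = h₂⁻¹ * h₁ := ⟨_, rfl⟩
  have ka : k * a * k⁻¹ = a₀ := by
    rw [hk, show h₂⁻¹ * h₁ * a * (h₂⁻¹ * h₁)⁻¹ = h₂⁻¹ * (h₁ * a * h₁⁻¹) * h₂ by group, e₁, ← e₂]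
    group
  have kb : k * b * k⁻¹ = b₀ := by
    rw [hk, show h₂⁻¹ * h₁ * b * (h₂⁻¹ * h₁)⁻¹ = h₂⁻¹ * (h₁ * b * h₁⁻¹) * h₂ by group, f₁, ← f₂]
    group
  obtain ⟨σ, hσ⟩ : ∃ σ, σ = k * g * k⁻¹ := ⟨_, rfl⟩
  have σb : σ * b₀ * σ⁻¹ = a₀ := by
    rw [hσ, ← kb, ← ka, show k * g * k⁻¹ * (k * b * k⁻¹) * (k * g * k⁻¹)⁻¹ = k * (g * b * g⁻¹) * k⁻¹ by group, hgb]
  by_contra hcon
  push Not at hcon
  have hfix : ∀ u ∈ l, σ * u * σ⁻¹ = u := fun u hu => by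
    obtain ⟨u1, u2, u3, u4, u5, -⟩ := hl u hu
    obtain ⟨w, rfl⟩ : ∃ w, k * w * k⁻¹ = u := ⟨k⁻¹ * u * k, by group⟩
    have h := hcon w (by
      have := hD.conj k⁻¹ _ u1
      simpa [mul_assoc] using this) (fun e => u2 (e ▸ ka)) (fun e => u3 (e ▸ kb))
      ((Commute.conj_iff k).1 (ka ▸ u4)) ((Commute.conj_iff k).1 (kb ▸ u5))
    rw [hσ, show k * g * k⁻¹ * (k * w * k⁻¹) * (k * g * k⁻¹)⁻¹ = k * (g * w * g⁻¹) * k⁻¹ by group, h]
  have hc := hprop (σ * x * σ⁻¹) (hD.conj σ x hx) fun u hu => by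
    rw [← hfix u hu]
    exact (Commute.conj_iff σ).2 (hl u hu).2.2.2.2.2
  rw [← σb, Commute.conj_iff] at hc
  exact hxb hc.symm

end M24Data

end Cfsg.Lib.Fischer.Relations
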