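import Cfsg.Agent.Lib.Fischer.Relations.TwentyFour.Quad
import Cfsg.Agent.Lib.Fischer.Frame126.Basic

/-!
# The space of 126 quads with a given product in type M(24)

Two quads are adjacent when their members commute; conjugation by a member gives the transposition of its quad.
-/

set_option autoImplicit false
set_option linter.unusedSectionVars false

namespace Cfsg.Lib.Fischer.Relations

open Cfsg Cfsg.Lib.Fischer

universe u

variable {G : Type u} [Group G]

/-- The quads with product `z`. -/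
abbrev Quads (D : Set G) (z : G) : Type u := {S : Set G // IsQuad D z S}

/-- Adjacency of quads. -/
def QuadAdj (D : Set G) (z : G) (p x : Quads D z) : Prop := p ≠ x ∧ ∀ a ∈ p.1, ∀ b ∈ x.1, Commute a b

/-- Double counting between two types. -/
theorem double_count_two {α : Type*} {β : Type*} [Finite α] [Finite β] {A : Set α} {B : Set β} {R : α → β → Prop}
    {N j : ℕ} (h1 : ∀ a ∈ A, {b | b ∈ B ∧ R a b}.ncard = N) (h2 : ∀ b ∈ B, {a | a ∈ A ∧ R a b}.ncard = j) :
    A.ncard * N = B.ncard * j := by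
  classical
  haveI := Fintype.ofFinite α
  haveI := Fintype.ofFinite β
  rw [Set.ncard_eq_toFinset_card' A, Set.ncard_eq_toFinset_card' B]
  refine Finset.card_mul_eq_card_mul R (fun a ha => ?_) fun b hb => ?_
  · rw [← h1 a (Set.mem_toFinset.1 ha), Set.ncard_eq_toFinset_card']
    congr 1
    ext b
    simp [Finset.bipartiteAbove]
  · rw [← h2 b (Set.mem_toFinset.1 hb), Set.ncard_eq_toFinset_card']
    congr 1
    ext a
    simp [Finset.bipartiteBelow]

namespace M24Data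

variable [Finite G] {D : Set G} {d : G} (K : M24Data D d)
include K

theorem mem_fixD {z : G} {S : Set G} (h : IsQuad D z S) {a : G} (ha : a ∈ S) : a ∈ fixD D z :=
  ⟨h.subset ha, h.commute_mem ha⟩

/-- A set closed under taking quads is four times as large as its set of quads. -/
theorem union_count {z : G} {A : Set G} (hA : ∀ a ∈ A, ∃ S, IsQuad D z S ∧ a ∈ S ∧ S ⊆ A) :
    A.ncard = 4 * {S : Quads D z | S.1 ⊆ A}.ncard := by
  have h := double_count_two (A := A) (B := {S : Set G | IsQuad D z S ∧ S ⊆ A}) (R := fun a S => a ∈ S) (N := 1) (j := 4)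
    (fun a ha => ?_) fun S hS => ?_
  · rw [mul_one] at h
    rw [h, mul_comm]
    congr 1
    rw [← Set.ncard_image_of_injective {S : Quads D z | S.1 ⊆ A} Subtype.val_injective]
    congr 1
    ext S
    exact ⟨fun hS => ⟨⟨S, hS.1⟩, hS.2, rfl⟩, fun ⟨T, hT, e⟩ => e ▸ ⟨T.2, hT⟩⟩
  · obtain ⟨S, hS, haS, hSA⟩ := hA a ha
    rw [Set.ncard_eq_one]
    refine ⟨S, Set.eq_singleton_iff_unique_mem.2 ⟨⟨⟨hS, hSA⟩, haS⟩, fun T hT => ?_⟩⟩
    exact K.quad_eq hT.1.1 hS hT.2 haS
  · rw [← hS.1.ncard]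
    congr 1
    ext a
    exact ⟨fun h => h.2, fun h => ⟨hS.2 h, h⟩⟩

theorem quads_finite (z : G) : Finite (Quads D z) := Subtype.finite

/-- If a member of one quad commutes with a member of another, all do. -/
theorem commute_all {z : G} {S T : Set G} (hS : IsQuad D z S) (hT : IsQuad D z T) {a b : G} (ha : a ∈ S)
    (hb : b ∈ T) (h : Commute a b) : ∀ a' ∈ S, ∀ b' ∈ T, Commute a' b' := fun a' ha' b' hb' =>
  K.quad_commute hT (K.mem_fixD hS ha') hb (K.quad_commute hS (K.mem_fixD hT hb) ha h.symm a' ha').symm b' hb'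

theorem not_commute_conj {a m : G} (ha : a ∈ D) (hm : m ∈ D) (h : ¬ Commute a m) : ¬ Commute m (a * m * a⁻¹) := by
  intro h'
  have hb : m * a * m = a * m * a := by simpa [cj_def] using braid K.trans hm ha fun e => h e.symm
  rw [inv_eq K.trans ha, ← hb] at h'
  refine h (Commute.symm ((Commute.conj_iff m).1 ?_))
  rw [show m * m * m⁻¹ = m by group, inv_eq K.trans hm]
  exact h'

/-- Conjugation of one quad by a member of another agrees with that the other way round. -/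
theorem conj_swap {z : G} {S T : Set G} (hS : IsQuad D z S) (hT : IsQuad D z T) {a m : G} (ha : a ∈ S) (hm : m ∈ T)
    (h : ¬ Commute a m) : (fun u => a * u * a⁻¹) '' T = (fun u => m * u * m⁻¹) '' S := by
  refine K.quad_eq (hT.conj K.trans (hS.commute_mem ha)) (hS.conj K.trans (hT.commute_mem hm)) ⟨m, hm, rfl⟩
    ⟨a, ha, ?_⟩
  rw [inv_eq K.trans (hS.subset ha), inv_eq K.trans (hT.subset hm)]
  simpa [cj_def] using (braid K.trans (hS.subset ha) (hT.subset hm) h).symm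

theorem conj_indep {z : G} {S T : Set G} (hS : IsQuad D z S) (hT : IsQuad D z T) {a a' : G} (ha : a ∈ S)
    (ha' : a' ∈ S) : (fun u => a * u * a⁻¹) '' T = (fun u => a' * u * a'⁻¹) '' T := by
  obtain ⟨l, -, hlen, -, -, -, eT⟩ := id hT
  obtain ⟨m, hm⟩ : T.Nonempty := Set.nonempty_of_ncard_ne_zero (by rw [hT.ncard]; norm_num)
  by_cases h : Commute a m
  · have fix : ∀ {c}, c ∈ S → (fun u => c * u * c⁻¹) '' T = T := fun {c} hc =>
      (Set.image_congr fun u hu => by rw [(K.commute_all hS hT ha hm h c hc u hu).eq, mul_inv_cancel_right]).trans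
        (Set.image_id' T)
    rw [fix ha, fix ha']
  · rw [K.conj_swap hS hT ha hm h, ← K.conj_swap hS hT ha' hm fun h' => h (K.commute_all hS hT ha' hm h' a ha m hm)]

/-- The members of six mutually adjacent quads. -/
theorem frame_union {z : G} {F : Fin 6 → Quads D z} (hF : ∀ i j, i ≠ j → QuadAdj D z (F i) (F j)) :
    ∃ E : Set G, E ⊆ D ∧ (∀ a ∈ E, ∀ b ∈ E, Commute a b) ∧ E.ncard = 24 ∧ (∀ a ∈ E, Commute a z) ∧
      (∀ a, a ∈ E ↔ ∃ i, a ∈ (F i).1) := by
  obtain ⟨E, hE⟩ : ∃ E : Set G, E = {a | ∃ i, a ∈ (F i).1} := ⟨_, rfl⟩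
  have hm : ∀ a, a ∈ E ↔ ∃ i, a ∈ (F i).1 := fun a => by rw [hE]; rfl
  have hinj : Function.Injective F := fun i j e => by
    by_contra h
    exact (hF i j h).1 e
  refine ⟨E, fun a ha => ?_, fun a ha b hb => ?_, ?_, fun a ha => ?_, hm⟩
  · obtain ⟨i, hi⟩ := (hm a).1 ha
    exact (F i).2.subset hi
  · obtain ⟨i, hi⟩ := (hm a).1 ha
    obtain ⟨j, hj⟩ := (hm b).1 hb
    rcases eq_or_ne i j with rfl | h
    exacts [(F i).2.comm a hi b hj, (hF i j h).2 a hi b hj]
  · rw [K.union_count fun a ha => ?_]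
    · have : {S : Quads D z | S.1 ⊆ E} = Set.range F := by
        ext S
        refine ⟨fun hS => ?_, ?_⟩
        · obtain ⟨a, ha⟩ : S.1.Nonempty := Set.nonempty_of_ncard_ne_zero (by rw [S.2.ncard]; norm_num)
          obtain ⟨i, hi⟩ := (hm a).1 (hS ha)
          exact ⟨i, Subtype.ext (K.quad_eq (F i).2 S.2 hi ha)⟩
        · rintro ⟨i, rfl⟩ a ha
          exact (hm a).2 ⟨i, ha⟩
      rw [this, Set.ncard_range_of_injective hinj]; simp
    · obtain ⟨i, hi⟩ := (hm a).1 ha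
      exact ⟨_, (F i).2, hi, fun b hb => (hm b).2 ⟨i, hb⟩⟩
  · obtain ⟨i, hi⟩ := (hm a).1 ha
    exact (F i).2.commute_mem hi

/-- The members of a frame commuting with a member of a further quad. -/
theorem att_frame {z : G} {F : Fin 6 → Quads D z} (hF : ∀ i j, i ≠ j → QuadAdj D z (F i) (F j)) {E : Set G}
    (hm : ∀ a, a ∈ E ↔ ∃ i, a ∈ (F i).1) {x : Quads D z} (hx : x ∉ Set.range F) {m : G} (hmx : m ∈ x.1) :
    (att E m).ncard = 4 * {i | QuadAdj D z x (F i)}.ncard := by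
  have hinj : Function.Injective F := fun i j e => by
    by_contra h
    exact (hF i j h).1 e
  rw [K.union_count (z := z) fun a ha => ?_, ← Set.ncard_image_of_injective {i | QuadAdj D z x (F i)} hinj]
  · congr 2
    ext S
    constructor
    · intro hS
      obtain ⟨a, ha⟩ : S.1.Nonempty := Set.nonempty_of_ncard_ne_zero (by rw [S.2.ncard]; norm_num)
      obtain ⟨i, hi⟩ := (hm a).1 (hS ha).1
      have e : F i = S := Subtype.ext (K.quad_eq (F i).2 S.2 hi ha)
      exact ⟨i, ⟨fun e' => hx ⟨i, e'.symm⟩, K.commute_all x.2 (F i).2 hmx hi (hS ha).2.symm⟩, e⟩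
    · rintro ⟨i, hi, rfl⟩ a ha
      exact ⟨(hm a).2 ⟨i, ha⟩, (hi.2 m hmx a ha).symm⟩
  · obtain ⟨i, hi⟩ := (hm a).1 ha.1
    exact ⟨_, (F i).2, hi, fun b hb => ⟨(hm b).2 ⟨i, hb⟩,
      (K.commute_all x.2 (F i).2 hmx hi ha.2.symm m hmx b hb).symm⟩⟩

theorem two_adjacent {z : G} {F : Fin 6 → Quads D z} (hF : ∀ i j, i ≠ j → QuadAdj D z (F i) (F j)) {x : Quads D z}
    (hx : x ∉ Set.range F) : ∃ i j, i ≠ j ∧ ∀ k, QuadAdj D z x (F k) ↔ k = i ∨ k = j := by
  obtain ⟨E, hE, hc, hn, -, hm⟩ := K.frame_union hF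
  obtain ⟨m, hmx⟩ : x.1.Nonempty := Set.nonempty_of_ncard_ne_zero (by rw [x.2.ncard]; norm_num)
  have hmE : m ∉ E := fun h => by
    obtain ⟨i, hi⟩ := (hm m).1 h
    exact hx ⟨i, Subtype.ext (K.quad_eq (F i).2 x.2 hi hmx)⟩
  have h2 : {i | QuadAdj D z x (F i)}.ncard = 2 := by
    have := K.att_frame hF hm hx hmx
    have := K.att_count hE hc hn (x.2.subset hmx) hmE
    omega
  obtain ⟨i, j, hij, e⟩ := Set.ncard_eq_two.1 h2
  exact ⟨i, j, hij, fun k => by have := Set.ext_iff.1 e k; simpa using this⟩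

theorem eight_each {z : G} {F : Fin 6 → Quads D z} (hF : ∀ i j, i ≠ j → QuadAdj D z (F i) (F j)) {i j : Fin 6}
    (hij : i ≠ j) : {x | ∀ k, QuadAdj D z x (F k) ↔ k = i ∨ k = j}.ncard = 8 := by
  classical
  obtain ⟨E, hE, hc, hn, hEz, hm⟩ := K.frame_union hF
  obtain ⟨T, hT⟩ : ∃ T : Fin 6 → Set G, ∀ k, T k = {y | y ∈ D ∧ att E y = (F i).1 ∪ (F k).1} := ⟨_, fun _ => rfl⟩
  have hFE : ∀ k, (F k).1 ⊆ E := fun k a ha => (hm a).2 ⟨k, ha⟩
  have hu8 : ∀ k, k ≠ i → ((F i).1 ∪ (F k).1).ncard = 8 := fun k hk => by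
    rw [Set.ncard_union_eq (Set.disjoint_left.2 fun a ha hb =>
      (hF k i hk).1 (Subtype.ext (K.quad_eq (F k).2 (F i).2 hb ha))), (F i).2.ncard, (F k).2.ncard]
  have hT32 : ∀ k, k ≠ i → (T k).ncard ≤ 32 := fun k hk => by
    by_cases h : (T k).Nonempty
    · obtain ⟨y, hy⟩ := h
      rw [hT] at hy
      rw [← K.base.fibre_card E hE hc hn y hy.1 (by rw [hy.2, hu8 k hk]), hT, hy.2]
    · rw [Set.not_nonempty_iff_eq_empty.1 h]; simp
  obtain ⟨X, hX⟩ : ∃ X, X = {y | y ∈ D ∧ (att E y).ncard = 8 ∧ (F i).1 ⊆ att E y} := ⟨_, rfl⟩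
  have h160 : X.ncard = 160 := hX ▸ K.design.2.2 E hE hc hn _ (hFE i) (F i).2.ncard
  have fromX : ∀ y ∈ X, ∃ x : Quads D z, y ∈ x.1 ∧ x ∉ Set.range F ∧ QuadAdj D z x (F i) := by
    intro y hy
    rw [hX] at hy
    have hyE : y ∉ E := fun h => by
      have := hy.2.1
      rw [att_full hc h, hn] at this
      omega
    have hyz : Commute y z := (F i).2.commute_prod fun a ha => (hy.2.2 ha).2.symm
    obtain ⟨l, l1, l2, l3, l4, l5, -⟩ := (F i).2
    obtain ⟨S, hS, hyS⟩ := K.exists_quad (z := z) ⟨l, l1, l2, l3, l4, l5⟩ ⟨hy.1, hyz⟩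
    have hxF : (⟨S, hS⟩ : Quads D z) ∉ Set.range F := fun ⟨k, e⟩ =>
      hyE (hFE k (show y ∈ (F k).1 by rw [e]; exact hyS))
    obtain ⟨a, ha⟩ : (F i).1.Nonempty := Set.nonempty_of_ncard_ne_zero (by rw [(F i).2.ncard]; norm_num)
    exact ⟨⟨S, hS⟩, hyS, hxF, fun e => hxF ⟨i, e.symm⟩, K.commute_all hS (F i).2 hyS ha (hy.2.2 ha).2.symm⟩
  have att_of : ∀ {x : Quads D z} {y : G} {k : Fin 6}, y ∈ x.1 → k ≠ i →
      (∀ l, QuadAdj D z x (F l) ↔ l = i ∨ l = k) → att E y = (F i).1 ∪ (F k).1 := by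
    intro x y k hy hk hadj
    have hxF : x ∉ Set.range F := fun ⟨l, e⟩ => by
      obtain ⟨a, ha, hb, hc'⟩ : ∃ a : Fin 6, a ≠ l ∧ a ≠ i ∧ a ≠ k :=
        (by decide : ∀ l i k : Fin 6, ∃ a : Fin 6, a ≠ l ∧ a ≠ i ∧ a ≠ k) l i k
      rcases (hadj a).1 (e ▸ hF l a ha.symm) with h | h
      exacts [hb h, hc' h]
    have hsub : (F i).1 ∪ (F k).1 ⊆ att E y := by
      rintro a (ha | ha)
      exacts [⟨hFE i ha, (((hadj i).2 (Or.inl rfl)).2 y hy a ha).symm⟩,
        ⟨hFE k ha, (((hadj k).2 (Or.inr rfl)).2 y hy a ha).symm⟩]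
    refine (Set.eq_of_subset_of_ncard_le hsub ?_).symm
    rw [hu8 k hk, K.att_frame hF hm hxF hy, show {l | QuadAdj D z x (F l)} = {i, k} from Set.ext fun l => by simp [hadj l],
      Set.ncard_pair (Ne.symm hk)]
  have cover : ∀ y ∈ X, ∃ k, k ≠ i ∧ y ∈ T k := by
    intro y hy
    obtain ⟨x, hyx, hxF, hxi⟩ := fromX y hy
    obtain ⟨a, b, hab, h⟩ := K.two_adjacent hF hxF
    obtain ⟨k, hk, hk'⟩ : ∃ k, k ≠ i ∧ ∀ l, QuadAdj D z x (F l) ↔ l = i ∨ l = k := by
      rcases (h i).1 hxi with rfl | rfl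
      exacts [⟨b, hab.symm, h⟩, ⟨a, hab, fun l => (h l).trans or_comm⟩]
    rw [hX] at hy
    exact ⟨k, hk, by rw [hT]; exact ⟨hy.1, att_of hyx hk hk'⟩⟩
  have hTj : (T j).ncard = 32 := by
    refine le_antisymm (hT32 j hij.symm) (not_lt.1 fun hlt => ?_)
    obtain ⟨others, ho⟩ : ∃ s : Finset (Fin 6), s = (Finset.univ.erase i).erase j := ⟨_, rfl⟩
    have hcard : others.card = 4 := by rw [ho, Finset.card_erase_of_mem (by simp [hij.symm]), Finset.card_erase_of_mem (by simp)]; rfl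
    have hsub : X ⊆ T j ∪ ⋃ k ∈ others, T k := fun y hy => by
      obtain ⟨k, hk, hyk⟩ := cover y hy
      by_cases e : k = j
      · exact Or.inl (e ▸ hyk)
      · exact Or.inr (Set.mem_biUnion (show k ∈ others by simp [ho, hk, e]) hyk)
    have h4 : (⋃ k ∈ others, T k).ncard ≤ 128 :=
      (Finset.set_ncard_biUnion_le _ _).trans ((Finset.sum_le_card_nsmul _ _ 32 fun k hk => hT32 k (by
        rw [ho] at hk
        simp only [Finset.mem_erase] at hk
        exact hk.2.1)).trans (by rw [hcard]; norm_num))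
    have := (Set.ncard_le_ncard hsub (Set.toFinite _)).trans (Set.ncard_union_le _ _)
    omega
  have h := K.union_count (z := z) (A := T j) fun y hy => ?_
  · rw [hTj] at h
    have e : {x : Quads D z | ∀ k, QuadAdj D z x (F k) ↔ k = i ∨ k = j} = {S : Quads D z | S.1 ⊆ T j} := by
      ext x
      constructor
      · intro hx y hy
        rw [hT]
        exact ⟨x.2.subset hy, att_of hy hij.symm hx⟩
      · intro hx
        obtain ⟨y, hy⟩ : x.1.Nonempty := Set.nonempty_of_ncard_ne_zero (by rw [x.2.ncard]; norm_num)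
        have hyT := hx hy
        rw [hT] at hyT
        have hxF : x ∉ Set.range F := fun ⟨l, e⟩ => by
          have h8 := hu8 j hij.symm
          rw [← hyT.2, att_full hc (hFE l (e ▸ hy)), hn] at h8
          omega
        intro k
        constructor
        · intro hk
          obtain ⟨a, ha⟩ : (F k).1.Nonempty := Set.nonempty_of_ncard_ne_zero (by rw [(F k).2.ncard]; norm_num)
          have : a ∈ (F i).1 ∪ (F j).1 := hyT.2 ▸ ⟨hFE k ha, (hk.2 y hy a ha).symm⟩
          rcases this with h' | h'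
          · exact Or.inl (by_contra fun hne => (hF k i hne).1 (Subtype.ext (K.quad_eq (F k).2 (F i).2 ha h')))
          · exact Or.inr (by_contra fun hne => (hF k j hne).1 (Subtype.ext (K.quad_eq (F k).2 (F j).2 ha h')))
        · intro hk
          obtain ⟨a, ha⟩ : (F k).1.Nonempty := Set.nonempty_of_ncard_ne_zero (by rw [(F k).2.ncard]; norm_num)
          have h' : a ∈ att E y := hyT.2.symm ▸ (by rcases hk with rfl | rfl; exacts [Or.inl ha, Or.inr ha])
          exact ⟨fun e' => hxF ⟨k, e'.symm⟩, K.commute_all x.2 (F k).2 hy ha h'.2.symm⟩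
    rw [e]
    omega
  · rw [hT] at hy
    have hyX : y ∈ X := by
      rw [hX]
      exact ⟨hy.1, by rw [hy.2, hu8 j hij.symm], hy.2 ▸ Set.subset_union_left⟩
    obtain ⟨x, hyx, hxF, -⟩ := fromX y hyX
    refine ⟨x.1, x.2, hyx, fun y' hy' => ?_⟩
    rw [hT, ← hy.2]
    refine ⟨x.2.subset hy', Set.ext fun a => and_congr_right fun haE => ?_⟩
    obtain ⟨l, hl⟩ := (hm a).1 haE
    exact ⟨fun h => (K.commute_all x.2 (F l).2 hy' hl h.symm y hyx a hl).symm,
      fun h => (K.commute_all x.2 (F l).2 hyx hl h.symm y' hy' a hl).symm⟩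

/-- The quads with a given product form a space of 126 points. -/
theorem exists_space {z : G} (hz : IsProd D 4 z) :
    ∃ S : Frame126.Space (Quads D z), S.adj = QuadAdj D z := by
  classical
  haveI := K.quads_finite z
  have hne : ∀ p : Quads D z, p.1.Nonempty := fun p => Set.nonempty_of_ncard_ne_zero (by rw [p.2.ncard]; norm_num)
  choose rep hrep using hne
  obtain ⟨tw, htw⟩ : ∃ tw : Quads D z → Quads D z → Quads D z, ∀ p x, tw p x =
      ⟨(fun u => rep p * u * (rep p)⁻¹) '' x.1, x.2.conj K.trans (p.2.commute_mem (hrep p))⟩ := ⟨_, fun _ _ => rfl⟩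
  have img : ∀ g h : G, ∀ A : Set G, (fun u => g * u * g⁻¹) '' ((fun u => h * u * h⁻¹) '' A) =
      (fun u => g * h * u * (g * h)⁻¹) '' A := fun g h A => by
    rw [Set.image_image]
    exact Set.image_congr fun u _ => by group
  have hid : ∀ A : Set G, (fun u => (1 : G) * u * 1⁻¹) '' A = A := fun A => by simp
  have hfix : ∀ {p x : Quads D z}, (∀ a ∈ p.1, ∀ b ∈ x.1, Commute a b) → tw p x = x := fun {p x} h => by
    rw [htw]
    exact Subtype.ext ((Set.image_congr fun u hu => by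
      rw [(h _ (hrep p) u hu).eq, mul_inv_cancel_right]).trans (Set.image_id' _))
  have hnc : ∀ {p x : Quads D z}, p ≠ x → ¬ QuadAdj D z p x → ∀ a ∈ p.1, ∀ b ∈ x.1, ¬ Commute a b :=
    fun {p x} hne h a ha b hb hab => h ⟨hne, K.commute_all p.2 x.2 ha hb hab⟩
  have hcard : Nat.card (Quads D z) = 126 := by
    have h := K.union_count (z := z) (A := fixD D z) fun a ha => by
      obtain ⟨S, hS, haS⟩ := K.exists_quad hz ha
      exact ⟨S, hS, haS, fun b hb => K.mem_fixD hS hb⟩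
    rw [K.card_fixD hz, show {S : Quads D z | S.1 ⊆ fixD D z} = Set.univ from
      Set.eq_univ_of_forall fun S a ha => K.mem_fixD S.2 ha, Set.ncard_univ] at h
    omega
  refine ⟨⟨QuadAdj D z, tw, fun h => ⟨h.1.symm, fun a ha b hb => (h.2 b hb a ha).symm⟩, fun x h => h.1 rfl, ?_, ?_,
    fun h => hfix h.2, fun p => hfix p.2.comm, ?_, ?_, ?_, hcard, ?_, fun F hF x hx => K.two_adjacent hF hx,
    fun F hF i j hij => K.eight_each hF hij⟩, rfl⟩
  · intro p x y h
    rw [htw, htw]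
    refine ⟨fun e => h.1 (Subtype.ext ((Set.image_injective.2 fun u v e' => conj_injective (x := rep p) e')
      (congrArg Subtype.val e))), ?_⟩
    rintro _ ⟨a, ha, rfl⟩ _ ⟨b, hb, rfl⟩
    exact (Commute.conj_iff _).2 (h.2 a ha b hb)
  · intro p x
    refine Subtype.ext ?_
    rw [htw p (tw p x), htw p x]
    show _ '' (_ '' x.1) = x.1
    rw [img, mul_self K.trans (p.2.subset (hrep p)), hid]
  · intro p x hne h e
    obtain ⟨m, hm⟩ : x.1.Nonempty := ⟨_, hrep x⟩
    have : rep p * m * (rep p)⁻¹ ∈ x.1 := by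
      rw [← congrArg Subtype.val e, htw]
      exact ⟨m, hm, rfl⟩
    exact K.not_commute_conj (p.2.subset (hrep p)) (x.2.subset hm) (hnc hne h _ (hrep p) m hm) (x.2.comm m hm _ this)
  · intro p x hne h
    rw [htw, htw]
    exact Subtype.ext (K.conj_swap p.2 x.2 (hrep p) (hrep x) (hnc hne h _ (hrep p) _ (hrep x)))
  · intro p q h x
    refine Subtype.ext ?_
    simp only [htw, img]
    rw [(h.2 _ (hrep p) _ (hrep q)).eq]
  · intro P hP
    obtain ⟨l, l1, l2, l3, l4, l5⟩ := hz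
    let q0 : Quads D z := ⟨{a | a ∈ l}, l, l1, l2, l3, l4, l5, rfl⟩
    obtain ⟨P', hsub, hne, hP'⟩ : ∃ P' : Set (Quads D z), P ⊆ P' ∧ P'.Nonempty ∧
        ∀ x ∈ P', ∀ y ∈ P', x ≠ y → QuadAdj D z x y := by
      rcases P.eq_empty_or_nonempty with rfl | hne
      · exact ⟨{q0}, Set.empty_subset _, ⟨q0, rfl⟩, fun x hx y hy h => absurd ((hx : x = q0).trans (hy : y = q0).symm) h⟩
      · exact ⟨P, subset_rfl, hne, hP⟩
    obtain ⟨E, hE, hc, hn, hUE⟩ := K.clique_le_base (W := {a | ∃ p ∈ P', a ∈ p.1})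
      (fun a ⟨p, _, ha⟩ => p.2.subset ha) (fun a ⟨p, hp, ha⟩ b ⟨q, hq, hb⟩ => by
        rcases eq_or_ne p q with rfl | h
        exacts [p.2.comm a ha b hb, (hP' p hp q hq h).2 a ha b hb])
    obtain ⟨p0, hp0⟩ := hne
    have hEz : ∀ a ∈ E, Commute a z := fun a ha => p0.2.commute_prod fun b hb => hc a ha b (hUE ⟨p0, hp0, hb⟩)
    have h := K.union_count (z := z) (A := E) fun a ha => by
      obtain ⟨S, hS, haS⟩ := K.exists_quad (z := z) ⟨l, l1, l2, l3, l4, l5⟩ ⟨hE ha, hEz a ha⟩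
      exact ⟨S, hS, haS, K.quad_subset hS hE hc hn hEz haS ha⟩
    rw [hn] at h
    obtain ⟨e⟩ : Nonempty (Fin 6 ≃ ↥{S : Quads D z | S.1 ⊆ E}) := ⟨(Finite.equivFinOfCardEq (by
      rw [Nat.card_coe_set_eq]; omega)).symm⟩
    refine ⟨fun i => (e i).1, fun i j hij => ⟨fun e' => hij (e.injective (Subtype.ext e')), fun a ha b hb =>
      hc a ((e i).2 ha) b ((e j).2 hb)⟩, fun p hp => ?_⟩
    exact ⟨e.symm ⟨p, fun a ha => hUE ⟨p, hsub hp, ha⟩⟩, by simp⟩

end M24Data

end Cfsg.Lib.Fischer.Relations
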