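import Cfsg.Agent.Lib.Fischer.Relations.TwentyFour.QuadLocal
import Cfsg.Agent.Lib.Fischer.Relations.TwentyFour.QuadCount
import Cfsg.Agent.Lib.Fischer.Frame126.Aut
import Cfsg.Agent.Lib.Fischer.Frame126.Model
import Cfsg.Agent.Lib.Concrete.MonsterBabyCore

/-!
# The kernel of the centralizer of a product of four on its quads

It has order `2¹³·3` and acts on each quad as the alternating group; its two-part is extraspecial and every sign of
the whole group that is one on the product is one on it.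
-/

set_option autoImplicit false
set_option linter.unusedSectionVars false

namespace Cfsg.Lib.Fischer.Relations

open Cfsg Cfsg.Lib.Fischer Equiv

universe u

variable {G : Type u} [Group G]

section Conj

variable {D : Set G} {z : G} [Finite G] (hD : Trans D)
include hD

theorem isQuad_conj {S : Set G} (h : IsQuad D z S) (g : G) :
    IsQuad D (g * z * g⁻¹) ((fun a => g * a * g⁻¹) '' S) := by
  obtain ⟨l, hn, hlen, hl, hc, rfl, rfl⟩ := h
  refine ⟨l.map fun a => g * a * g⁻¹, hn.map fun a b e => conj_injective (x := g) e,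
    by rw [List.length_map, hlen], ?_, ?_, conj_list_prod .., ?_⟩
  · intro a ha
    obtain ⟨b, hb, rfl⟩ := List.mem_map.1 ha
    exact hD.conj g b (hl b hb)
  · intro a ha b hb
    obtain ⟨a', ha', rfl⟩ := List.mem_map.1 ha
    obtain ⟨b', hb', rfl⟩ := List.mem_map.1 hb
    exact (Commute.conj_iff g).2 (hc a' ha' b' hb')
  · ext a
    simp [List.mem_map, Set.mem_image]

theorem keep_conj {g : G} (hg : g ∈ Keep D z) (h : G) : h * g * h⁻¹ ∈ Keep D (h * z * h⁻¹) := by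
  refine ⟨(Commute.conj_iff h).2 hg.1, fun S hS => ?_⟩
  have hS' := isQuad_conj hD hS h⁻¹
  rw [show h⁻¹ * (h * z * h⁻¹) * h⁻¹⁻¹ = z by group] at hS'
  have e := congrArg ((fun a => h * a * h⁻¹) '' ·) (hg.2 _ hS')
  simp only [Set.image_image] at e
  have e1 : (fun u => h * (g * (h⁻¹ * u * h⁻¹⁻¹) * g⁻¹) * h⁻¹) = fun u => h * g * h⁻¹ * u * (h * g * h⁻¹)⁻¹ := by
    funext u; group
  have e2 : (fun u => h * (h⁻¹ * u * h⁻¹⁻¹) * h⁻¹) = id := by
    funext u; simp [mul_assoc]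
  rwa [e1, e2, Set.image_id] at e

theorem fixD_conj {x : G} (hx : x ∈ fixD D z) (h : G) : h * x * h⁻¹ ∈ fixD D (h * z * h⁻¹) :=
  ⟨hD.conj h x hx.1, (Commute.conj_iff h).2 hx.2⟩

end Conj

/-- The four-group of even involutions. -/
def vee : Subgroup (Perm (Fin 4)) where
  carrier := {σ | Perm.sign σ = 1 ∧ σ * σ = 1}
  mul_mem' := fun {σ τ} => by revert σ τ; decide +kernel
  one_mem' := by decide
  inv_mem' := fun {σ} => by revert σ; decide

theorem mem_vee {σ : Perm (Fin 4)} : σ ∈ vee ↔ Perm.sign σ = 1 ∧ σ * σ = 1 := Iff.rfl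

instance : DecidablePred (· ∈ vee) := fun σ => decidable_of_iff _ mem_vee.symm

theorem vee_comm : ∀ σ τ : Perm (Fin 4), σ ∈ vee → τ ∈ vee → σ * τ = τ * σ := by decide +kernel

theorem vee_of_pow : ∀ σ : Perm (Fin 4), Perm.sign σ = 1 → σ ^ 8 = 1 → σ ∈ vee := by decide +kernel

theorem vee_of_cube : ∀ σ : Perm (Fin 4), Perm.sign σ = 1 → σ * σ * σ ∈ vee := by decide +kernel

theorem vee_cancel : ∀ σ τ s : Perm (Fin 4), σ ∈ vee → τ ∈ vee → s * s * s = 1 → s ≠ 1 →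
    σ * s * σ * (s * s) = τ * s * τ * (s * s) → σ = τ := by decide +kernel

theorem vee_card : Nat.card vee = 4 := by
  rw [Nat.card_eq_fintype_card]; decide

theorem vee_le : vee ≤ alternatingGroup (Fin 4) := fun _ h => Perm.mem_alternatingGroup.2 h.1

theorem pow_eight_of_two_pow {σ : Perm (Fin 4)} (h : σ ^ 2 ^ 13 = 1) : σ ^ 8 = 1 := by
  have h24 : σ ^ 24 = 1 := by
    have := pow_card_eq_one' (x := σ)
    rwa [Nat.card_perm, Nat.card_fin] at this
  have := pow_gcd_eq_one.2 ⟨h, h24⟩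
  rwa [show Nat.gcd (2 ^ 13) 24 = 8 by norm_num] at this

theorem eq_of_mul_eq {a b A B : ℕ} (ha : a ≤ A) (hb : b ≤ B) (h : a * b = A * B) (hA : 0 < A) (hB : 0 < B) :
    a = A ∧ b = B := by
  constructor
  · by_contra hne
    exact absurd h ((Nat.mul_lt_mul_of_lt_of_le (by omega) hb hB).ne)
  · by_contra hne
    exact absurd h ((Nat.mul_lt_mul_of_le_of_lt ha (by omega) hA).ne)

namespace M24Data

variable [Finite G] {D : Set G} {d : G} (K : M24Data D d)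
include K

theorem quad_list {z : G} {w : Fin 4 → G} (hw : Function.Injective w) (hS : IsQuad D z (Set.range w)) :
    (List.ofFn w).Nodup ∧ (∀ a ∈ List.ofFn w, a ∈ D) ∧ (∀ a ∈ List.ofFn w, ∀ b ∈ List.ofFn w, Commute a b) ∧
      (List.ofFn w).prod = z := by
  have hn : (List.ofFn w).Nodup := List.nodup_ofFn.2 hw
  obtain ⟨l, ln, -, lD, lc, lp, e⟩ := hS
  have hm : ∀ a, a ∈ l ↔ a ∈ List.ofFn w := fun a => by
    rw [List.mem_ofFn', e]; rfl
  refine ⟨hn, fun a ha => lD a ((hm a).2 ha), fun a ha b hb => lc a ((hm a).2 ha) b ((hm b).2 hb), ?_⟩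
  rw [← lp]
  exact ((List.perm_ext_iff_of_nodup ln hn).2 hm).prod_eq'
    (List.Pairwise.imp_of_mem (fun {a b} ha hb _ => lc a ha b hb) ln) |>.symm

theorem exists_labelling {z : G} {S : Set G} (hS : IsQuad D z S) :
    ∃ w : Fin 4 → G, Function.Injective w ∧ Set.range w = S := by
  let e : Fin 4 ≃ ↥S := (Finite.equivFinOfCardEq (by rw [Nat.card_coe_set_eq, hS.ncard])).symm
  exact ⟨fun i => (e i : G), Subtype.val_injective.comp e.injective, by
    rw [show (fun i => (e i : G)) = Subtype.val ∘ e from rfl, EquivLike.range_comp, Subtype.range_coe]⟩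

/-- The local facts at every ordered quad. -/
theorem quad_facts {z : G} {w : Fin 4 → G} (hw : Function.Injective w) (hS : IsQuad D z (Set.range w)) :
    (∀ g ∈ Keep D z, Commute g (w 0) → Commute g (w 1) → ∀ i, Commute g (w i)) ∧
    Nat.card ↥(Keep D z ⊓ centOf (w 0) ⊓ centOf (w 1) ⊓ centOf (w 2) ⊓ centOf (w 3)) ≤ 2 ^ 11 ∧
    ∀ g : G, Commute g z → (∀ x ∈ fixD D z, Commute g x) → g = 1 ∨ g = z := by
  have hD := K.trans
  obtain ⟨z₀, a, b, c, hq, hn0, hp0, hA, hB, hC⟩ := K.exists_standard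
  obtain ⟨hn, hl, hc, hp⟩ := K.quad_list hw hS
  simp only [List.ofFn_succ, List.ofFn_zero, Fin.isValue] at hn hl hc hp
  have l0D : ∀ x ∈ [d, a, b, c], x ∈ D := fun x hx => hq.subset hx
  have l0c : ∀ x ∈ [d, a, b, c], ∀ y ∈ [d, a, b, c], Commute x y := fun x hx y hy => hq.comm x hx y hy
  simp only [List.mem_cons, List.not_mem_nil, or_false, forall_eq_or_imp, forall_eq] at hl hc l0D l0c
  simp only [List.nodup_cons, List.mem_cons, List.not_mem_nil, or_false, not_or, List.nodup_nil, and_true] at hn hn0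
  obtain ⟨⟨nab, nac, nae⟩, ⟨nbc, nbe⟩, nce, -⟩ := hn
  obtain ⟨⟨nab', nac', nae'⟩, ⟨nbc', nbe'⟩, nce', -⟩ := hn0
  obtain ⟨g, g1, g2, g3, g4⟩ := K.quad_transitive (a := d) (b := a) (c := b) (e := c) l0D.1
    ⟨⟨l0D.2.1, Ne.symm nab', l0c.1.2.1⟩, ⟨l0D.2.2.1, Ne.symm nac', l0c.1.2.2.1⟩,
      ⟨l0D.2.2.1, Ne.symm nbc', l0c.2.1.2.2.1⟩⟩
    ⟨⟨l0D.2.2.2, Ne.symm nae', l0c.1.2.2.2⟩, ⟨l0D.2.2.2, Ne.symm nbe', l0c.2.1.2.2.2⟩,
      ⟨l0D.2.2.2, Ne.symm nce', l0c.2.2.1.2.2.2⟩⟩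
    hl.1 ⟨⟨hl.2.1, Ne.symm nab, hc.1.2.1⟩, ⟨hl.2.2.1, Ne.symm nac, hc.1.2.2.1⟩,
      ⟨hl.2.2.1, Ne.symm nbc, hc.2.1.2.2.1⟩⟩
    ⟨⟨hl.2.2.2, Ne.symm nae, hc.1.2.2.2⟩, ⟨hl.2.2.2, Ne.symm nbe, hc.2.1.2.2.2⟩,
      ⟨hl.2.2.2, Ne.symm nce, hc.2.2.1.2.2.2⟩⟩
  have hz : g * z₀ * g⁻¹ = z := by
    rw [← hp0, ← conj_list_prod]
    simp only [List.map_cons, List.map_nil, g1, g2, g3, g4]
    exact hp
  have hz' : g⁻¹ * z * g⁻¹⁻¹ = z₀ := by rw [← hz]; group
  have back : ∀ {k : G}, k ∈ Keep D z → g⁻¹ * k * g⁻¹⁻¹ ∈ Keep D z₀ := fun hk => hz' ▸ keep_conj hD hk g⁻¹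
  have com : ∀ {k x y : G}, g * x * g⁻¹ = y → (Commute (g⁻¹ * k * g⁻¹⁻¹) x ↔ Commute k y) := fun {k x y} e => by
    rw [← Commute.conj_iff g, e, show g * (g⁻¹ * k * g⁻¹⁻¹) * g⁻¹ = k by group]
  refine ⟨fun k hk h0 h1 i => ?_, ?_, fun k hkz hk => ?_⟩
  · obtain ⟨h2, h3⟩ := hA _ (back hk) ((com g1).2 h0) ((com g2).2 h1)
    fin_cases i
    exacts [h0, h1, (com g3).1 h2, (com g4).1 h3]
  · refine le_trans ?_ hB
    rw [← Subgroup.card_map_of_injective (f := (MulAut.conj g⁻¹).toMonoidHom) (MulAut.conj g⁻¹).injective]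
    refine Subgroup.card_le_of_le ?_
    rintro _ ⟨k, ⟨⟨⟨⟨k0, k1⟩, k2⟩, k3⟩, k4⟩, rfl⟩
    exact ⟨⟨⟨⟨back k0, mem_centOf.2 ((com g1).2 (mem_centOf.1 k1))⟩, mem_centOf.2 ((com g2).2 (mem_centOf.1 k2))⟩,
      mem_centOf.2 ((com g3).2 (mem_centOf.1 k3))⟩, mem_centOf.2 ((com g4).2 (mem_centOf.1 k4))⟩
  · rcases hC (g⁻¹ * k * g⁻¹⁻¹) (by rw [← hz']; exact (Commute.conj_iff g⁻¹).2 hkz) (fun x hx =>
      (com rfl).2 (hk _ (by rw [← hz]; exact fixD_conj hD hx g))) with e | e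
    · exact Or.inl (by rw [show k = g * (g⁻¹ * k * g⁻¹⁻¹) * g⁻¹ by group, e, mul_one, mul_inv_cancel])
    · exact Or.inr (by rw [show k = g * (g⁻¹ * k * g⁻¹⁻¹) * g⁻¹ by group, e, hz])

/-- The permutations of a quad given by the elements keeping every quad. -/
theorem exists_perm_hom {z : G} {w : Fin 4 → G} (hw : Function.Injective w) (hS : IsQuad D z (Set.range w)) :
    ∃ ρ : ↥(Keep D z) →* Perm (Fin 4), (∀ (g : ↥(Keep D z)) i, (g : G) * w i * (g : G)⁻¹ = w (ρ g i)) ∧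
      Nat.card ρ.ker ≤ 2 ^ 11 ∧ Nat.card ρ.range ≤ 12 := by
  classical
  have hmv : ∀ (g : ↥(Keep D z)) i, ∃ j, (g : G) * w i * (g : G)⁻¹ = w j := fun g i => by
    have : (g : G) * w i * (g : G)⁻¹ ∈ (fun u => (g : G) * u * (g : G)⁻¹) '' Set.range w := ⟨w i, ⟨i, rfl⟩, rfl⟩
    rw [g.2.2 _ hS] at this
    obtain ⟨j, hj⟩ := this
    exact ⟨j, hj.symm⟩
  choose σ hσ using hmv
  have hinj : ∀ g, Function.Injective (σ g) := fun g i j e =>
    hw (conj_injective (x := (g : G)) ((hσ g i).trans ((congrArg w e).trans (hσ g j).symm)))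
  let p : ↥(Keep D z) → Perm (Fin 4) := fun g => Equiv.ofBijective _ (Finite.injective_iff_bijective.1 (hinj g))
  have hp : ∀ g h, p (g * h) = p g * p h := fun g h => Equiv.ext fun i => hw (by
    show w (σ (g * h) i) = w (σ g (σ h i))
    rw [← hσ, ← hσ, ← hσ]
    simp [mul_assoc])
  obtain ⟨ρ, hρ⟩ : ∃ ρ : ↥(Keep D z) →* Perm (Fin 4), ∀ (g : ↥(Keep D z)) i, (g : G) * w i * (g : G)⁻¹ = w (ρ g i) :=
    ⟨MonoidHom.mk' p hp, hσ⟩
  have hfix : ∀ (g : ↥(Keep D z)) i, ρ g i = i ↔ Commute (g : G) (w i) := fun g i => by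
    rw [commute_iff_eq, ← mul_inv_eq_iff_eq_mul, hρ]
    exact ⟨fun e => by rw [e], fun e => hw e⟩
  obtain ⟨hA, hB, -⟩ := K.quad_facts hw hS
  refine ⟨ρ, hρ, ?_, ?_⟩
  · refine le_trans ?_ hB
    rw [← Subgroup.card_map_of_injective (Keep D z).subtype_injective]
    refine Subgroup.card_le_of_le ?_
    rintro _ ⟨g, hg, rfl⟩
    have h : ∀ i, Commute (g : G) (w i) := fun i => (hfix g i).1 (by rw [MonoidHom.mem_ker.1 hg]; rfl)
    exact ⟨⟨⟨⟨g.2, mem_centOf.2 (h 0)⟩, mem_centOf.2 (h 1)⟩, mem_centOf.2 (h 2)⟩, mem_centOf.2 (h 3)⟩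
  · by_contra hgt
    have hdvd : Nat.card ρ.range ∣ 24 := by
      have := Subgroup.card_subgroup_dvd_card ρ.range
      rwa [Nat.card_perm, Nat.card_fin] at this
    have h24 : Nat.card ρ.range = 24 := by
      obtain ⟨k, hk⟩ := hdvd
      rcases k with _ | _ | k
      · omega
      · omega
      · have := Nat.mul_le_mul_left (Nat.card ρ.range) (show 2 ≤ k + 1 + 1 by omega)
        omega
    obtain ⟨g, hg⟩ : swap (2 : Fin 4) 3 ∈ ρ.range := by
      rw [Subgroup.eq_top_of_card_eq ρ.range (by rw [h24, Nat.card_perm, Nat.card_fin]; rfl)]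
      trivial
    have := (hfix g 2).2 (hA g g.2 ((hfix g 0).1 (by rw [hg]; decide)) ((hfix g 1).1 (by rw [hg]; decide)) 2)
    rw [hg] at this
    exact absurd this (by decide)

/-- The centralizer of the product maps onto the automorphism group of its quads with kernel of order `2¹³·3`. -/
theorem exists_action {z : G} (hz : IsProd D 4 z) : Nat.card (Keep D z) = 2 ^ 13 * 3 ∧
    ∃ (Sp : Frame126.Space (Quads D z)) (φ : ↥(Subgroup.centralizer ({z} : Set G)) →* Perm (Quads D z)),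
      Sp.adj = QuadAdj D z ∧ (∀ h (S : Quads D z), ((φ h S).1 : Set G) = (fun u => (h : G) * u * (h : G)⁻¹) '' S.1) ∧
      φ.range = Sp.autGroup ∧ φ.ker = (Keep D z).subgroupOf (Subgroup.centralizer ({z} : Set G)) := by
  classical
  have hD := K.trans
  haveI := K.quads_finite z
  obtain ⟨Sp, hadj⟩ := K.exists_space hz
  have img : ∀ g h : G, ∀ A : Set G, (fun u => g * u * g⁻¹) '' ((fun u => h * u * h⁻¹) '' A) =
      (fun u => g * h * u * (g * h)⁻¹) '' A := fun g h A => by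
    rw [Set.image_image]
    exact Set.image_congr fun u _ => by group
  have hid : ∀ A : Set G, (fun u => (1 : G) * u * 1⁻¹) '' A = A := fun A => by simp
  have hcz : ∀ h : ↥(Subgroup.centralizer ({z} : Set G)), Commute (h : G) z := fun h =>
    Subgroup.mem_centralizer_singleton_iff.1 h.2
  let p : ↥(Subgroup.centralizer ({z} : Set G)) → Perm (Quads D z) := fun h =>
    ⟨fun S => ⟨_, S.2.conj hD (hcz h)⟩, fun S => ⟨_, S.2.conj hD (hcz h).inv_left⟩,
      fun S => Subtype.ext (by show _ '' (_ '' S.1) = S.1; rw [img, inv_mul_cancel, hid]),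
      fun S => Subtype.ext (by show _ '' (_ '' S.1) = S.1; rw [img, mul_inv_cancel, hid])⟩
  obtain ⟨φ, hφ⟩ : ∃ φ : ↥(Subgroup.centralizer ({z} : Set G)) →* Perm (Quads D z),
      ∀ h (S : Quads D z), ((φ h S).1 : Set G) = (fun u => (h : G) * u * (h : G)⁻¹) '' S.1 :=
    ⟨MonoidHom.mk' p fun g h => Equiv.ext fun S => Subtype.ext (img _ _ _).symm, fun _ _ => rfl⟩
  have hle : φ.range ≤ Sp.autGroup := by
    rintro _ ⟨h, rfl⟩ x y
    rw [hadj]
    constructor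
    · rintro ⟨hne, hc⟩
      refine ⟨fun e => hne (congrArg _ e), fun a ha b hb => (Commute.conj_iff (h : G)).1 (hc _ ?_ _ ?_)⟩
      · rw [hφ]; exact ⟨a, ha, rfl⟩
      · rw [hφ]; exact ⟨b, hb, rfl⟩
    · rintro ⟨hne, hc⟩
      refine ⟨fun e => hne ((φ h).injective e), ?_⟩
      rw [hφ, hφ]
      rintro _ ⟨a, ha, rfl⟩ _ ⟨b, hb, rfl⟩
      exact (Commute.conj_iff _).2 (hc a ha b hb)
  have hker : φ.ker = (Keep D z).subgroupOf (Subgroup.centralizer ({z} : Set G)) := by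
    ext h
    rw [MonoidHom.mem_ker, Subgroup.mem_subgroupOf]
    refine ⟨fun e => ⟨hcz h, fun S hS => ?_⟩, fun hk => Equiv.ext fun S => Subtype.ext ?_⟩
    · have := hφ h ⟨S, hS⟩
      rw [e] at this
      exact this.symm
    · rw [hφ]; exact hk.2 _ S.2
  obtain ⟨l, l1, l2, l3, l4, l5⟩ := id hz
  obtain ⟨w, hw, hr⟩ := K.exists_labelling (S := {a | a ∈ l}) (z := z) ⟨l, l1, l2, l3, l4, l5, rfl⟩
  obtain ⟨ρ, -, hρk, hρr⟩ := K.exists_perm_hom (z := z) hw (hr ▸ ⟨l, l1, l2, l3, l4, l5, rfl⟩)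
  have hKle : Keep D z ≤ Subgroup.centralizer ({z} : Set G) := fun g hg => Subgroup.mem_centralizer_singleton_iff.2 hg.1
  have hK24 : Nat.card (Keep D z) ≤ 2 ^ 11 * 12 := by
    rw [← ρ.ker.card_mul_index, Subgroup.index_ker]
    exact Nat.mul_le_mul hρk hρr
  have hC : Nat.card (Keep D z) * Nat.card φ.range = 2 ^ 22 * 3 ^ 7 * 5 * 7 := by
    rw [← K.card_prod_centralizer hz, ← φ.ker.card_mul_index, Subgroup.index_ker, hker,
      Nat.card_congr (Subgroup.subgroupOfEquivOfLe hKle).toEquiv]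
  have hA := Sp.card_autGroup_le
  have hR : Nat.card φ.range ≤ 13063680 := (Subgroup.card_le_of_le hle).trans hA
  have h1 : Nat.card (Keep D z) = 2 ^ 13 * 3 ∧ Nat.card φ.range = 13063680 :=
    eq_of_mul_eq (hK24.trans (by omega)) hR (hC.trans (by omega)) (by omega) (by omega)
  exact ⟨h1.1, Sp, φ, hadj, hφ, Subgroup.eq_of_le_of_card_ge hle (by omega), hker⟩

/-- The kernel induces the alternating group on each quad. -/
theorem perm_facts {z : G} (hz : IsProd D 4 z) {w : Fin 4 → G} (hw : Function.Injective w)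
    (hS : IsQuad D z (Set.range w)) : ∃ ρ : ↥(Keep D z) →* Perm (Fin 4),
    (∀ (g : ↥(Keep D z)) i, (g : G) * w i * (g : G)⁻¹ = w (ρ g i)) ∧ Nat.card ρ.ker = 2 ^ 11 ∧
      ρ.range = alternatingGroup (Fin 4) := by
  obtain ⟨ρ, hρ, hk, hr⟩ := K.exists_perm_hom hw hS
  have h : Nat.card ρ.ker * Nat.card ρ.range = 2 ^ 13 * 3 := by
    rw [← (K.exists_action hz).1, ← ρ.ker.card_mul_index, Subgroup.index_ker]
  have h1 : Nat.card ρ.ker = 2 ^ 11 ∧ Nat.card ρ.range = 12 :=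
    eq_of_mul_eq hk hr (h.trans (by omega)) (by omega) (by omega)
  refine ⟨ρ, hρ, h1.1, Perm.eq_alternatingGroup_of_index_eq_two ?_⟩
  have := ρ.range.card_mul_index
  rw [h1.2, Nat.card_perm, Nat.card_fin] at this
  norm_num [Nat.factorial] at this
  omega

/-- The two-part of the kernel. -/
theorem exists_core {z : G} (hz : IsProd D 4 z) : ∃ Q : Subgroup G, Q ≤ Keep D z ∧ Nat.card Q = 2 ^ 13 ∧
    (∀ g ∈ Keep D z, g ^ 2 ^ 13 = 1 → g ∈ Q) ∧ (∀ g ∈ Keep D z, g ^ 3 ∈ Q) ∧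
    (∀ h, Commute h z → ∀ q ∈ Q, h * q * h⁻¹ ∈ Q) ∧ IsExtraspecial 2 Q ∧
    (∀ g, Commute g z → (∀ q ∈ Q, Commute g q) → g ∈ Q) ∧
    ∀ χ : G →* ℤˣ, χ z = 1 → ∀ g ∈ Keep D z, χ g = 1 := by
  classical
  haveI : Fact (Nat.Prime 2) := ⟨Nat.prime_two⟩
  have hD := K.trans
  obtain ⟨l, l1, l2, l3, l4, l5⟩ := id hz
  obtain ⟨S₀, hS₀⟩ : ∃ S, IsQuad D z S := ⟨_, l, l1, l2, l3, l4, l5, rfl⟩
  obtain ⟨w₀, hw₀, hr₀⟩ := K.exists_labelling hS₀
  subst hr₀
  obtain ⟨ρ₀, hρ₀, hk₀, hA₀⟩ := K.perm_facts hz hw₀ hS₀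
  obtain ⟨hcard, -⟩ := K.exists_action hz
  obtain ⟨Q, hQ⟩ : ∃ Q : Subgroup G, Q = (vee.comap ρ₀).map (Keep D z).subtype := ⟨_, rfl⟩
  have hQm : ∀ {g : G}, g ∈ Q ↔ ∃ h : g ∈ Keep D z, ρ₀ ⟨g, h⟩ ∈ vee := fun {g} => by
    rw [hQ]
    exact ⟨fun ⟨u, hu, e⟩ => e ▸ ⟨u.2, hu⟩, fun ⟨h, hv⟩ => ⟨⟨g, h⟩, hv, rfl⟩⟩
  have hQK : Q ≤ Keep D z := fun g hg => (hQm.1 hg).1
  have hQc : Nat.card Q = 2 ^ 13 := by
    rw [hQ, Subgroup.card_map_of_injective (Keep D z).subtype_injective]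
    have h1 := (vee.comap ρ₀).card_mul_index
    rw [hcard, Subgroup.index_comap, hA₀] at h1
    have h2 : vee.relIndex (alternatingGroup (Fin 4)) = 3 := by
      rw [Subgroup.relIndex, Subgroup.index_eq_card]
      have := (vee.subgroupOf (alternatingGroup (Fin 4))).card_mul_index
      rw [Nat.card_congr (Subgroup.subgroupOfEquivOfLe vee_le).toEquiv, vee_card, Subgroup.index_eq_card,
        show Nat.card (alternatingGroup (Fin 4)) = 12 by rw [Nat.card_eq_fintype_card]; decide] at this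
      omega
    rw [h2] at h1
    omega
  have hQp : ∀ g ∈ Q, g ^ 2 ^ 13 = 1 := fun g hg => by
    have := congrArg Subtype.val (pow_card_eq_one' (x := (⟨g, hg⟩ : ↥Q)))
    rwa [hQc, Subgroup.coe_pow] at this
  have heven : ∀ {w : Fin 4 → G} {ρ : ↥(Keep D z) →* Perm (Fin 4)}, ρ.range = alternatingGroup (Fin 4) →
      ∀ g, Perm.sign (ρ g) = 1 := fun h g => Perm.mem_alternatingGroup.1 (h ▸ ⟨g, rfl⟩)
  have htwo : ∀ {ρ : ↥(Keep D z) →* Perm (Fin 4)}, ρ.range = alternatingGroup (Fin 4) →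
      ∀ g : ↥(Keep D z), (g : G) ^ 2 ^ 13 = 1 → ρ g ∈ vee := fun h g hg => by
    refine vee_of_pow _ (heven (w := w₀) h g) (pow_eight_of_two_pow ?_)
    rw [← map_pow, show g ^ 2 ^ 13 = 1 from Subtype.ext hg, map_one]
  have hmem : ∀ g ∈ Keep D z, g ^ 2 ^ 13 = 1 → g ∈ Q := fun g hg h => hQm.2 ⟨hg, htwo hA₀ ⟨g, hg⟩ h⟩
  have hcube : ∀ g ∈ Keep D z, g ^ 3 ∈ Q := fun g hg => hQm.2 ⟨pow_mem hg 3, by
    rw [show (⟨g ^ 3, pow_mem hg 3⟩ : ↥(Keep D z)) = ⟨g, hg⟩ * ⟨g, hg⟩ * ⟨g, hg⟩ from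
      Subtype.ext (by simp [pow_succ]), map_mul, map_mul]
    exact vee_of_cube _ (heven (w := w₀) hA₀ _)⟩
  have hnorm : ∀ h, Commute h z → ∀ q ∈ Q, h * q * h⁻¹ ∈ Q := fun h hh q hq => by
    have := keep_conj hD (hQK hq) h
    rw [hh.eq, mul_inv_cancel_right] at this
    exact hmem _ this (by rw [conj_pow, hQp q hq, mul_one, mul_inv_cancel])
  -- the pointwise fixers
  have hpoint : ∀ g, Commute g z → (∀ x ∈ fixD D z, Commute g x) → g = 1 ∨ g = z := (K.quad_facts hw₀ hS₀).2.2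
  obtain ⟨Good, hGood⟩ : ∃ Good : (Fin 4 → G) → (↥(Keep D z) →* Perm (Fin 4)) → Prop, ∀ w ρ, Good w ρ ↔
      Function.Injective w ∧ (∀ (g : ↥(Keep D z)) i, (g : G) * w i * (g : G)⁻¹ = w (ρ g i)) ∧
        Nat.card ρ.ker = 2 ^ 11 ∧ ρ.range = alternatingGroup (Fin 4) ∧ ∀ i, Commute z (w i) :=
    ⟨_, fun _ _ => Iff.rfl⟩
  have hlabel : ∀ x ∈ fixD D z, ∃ (w : Fin 4 → G) (ρ : ↥(Keep D z) →* Perm (Fin 4)) (i : Fin 4), w i = x ∧
      Good w ρ := fun x hx => by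
    obtain ⟨S, hS, hxS⟩ := K.exists_quad hz hx
    obtain ⟨w, hw, rfl⟩ := K.exists_labelling hS
    obtain ⟨i, hi⟩ := hxS
    obtain ⟨ρ, h1, h2, h3⟩ := K.perm_facts hz hw hS
    exact ⟨w, ρ, i, hi, (hGood w ρ).2 ⟨hw, h1, h2, h3, fun j => (hS.commute_mem ⟨j, rfl⟩).symm⟩⟩
  have htriv : ∀ g : ↥(Keep D z), (∀ (w : Fin 4 → G) (ρ : ↥(Keep D z) →* Perm (Fin 4)), Good w ρ → ρ g = 1) →
      (g : G) = 1 ∨ (g : G) = z := by
    intro g hg
    refine hpoint g g.2.1 fun x hx => ?_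
    obtain ⟨w, ρ, i, rfl, hG⟩ := hlabel x hx
    refine mul_inv_eq_iff_eq_mul.1 ?_
    rw [((hGood w ρ).1 hG).2.1, hg w ρ hG]; rfl
  have hz1 : z ≠ 1 := fun e => by
    have := K.noRel l l1 l3 l4 (fun y _ => by rw [l5, e]; exact Commute.one_left y) (by omega)
    rw [this] at l2
    simp at l2
  have hzz : z * z = 1 := l5 ▸ prod_sq hD l3 l4
  have hzfix : ∀ S, IsQuad D z S → ∀ a ∈ S, Commute z a := fun S hS a ha => (hS.commute_mem ha).symm
  have hzK : z ∈ Keep D z := ⟨Commute.refl z, fun S hS => (Set.image_congr fun a ha => by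
    rw [(hzfix S hS a ha).eq, mul_inv_cancel_right]).trans (Set.image_id' S)⟩
  have hzQ : z ∈ Q := hmem z hzK (by
    rw [show (2 : ℕ) ^ 13 = 2 * 2 ^ 12 by norm_num, pow_mul, pow_two, hzz, one_pow])
  have hrho_z : ∀ {w : Fin 4 → G} {ρ : ↥(Keep D z) →* Perm (Fin 4)}, Good w ρ → ρ ⟨z, hzK⟩ = 1 := fun {w ρ} hG => by
    obtain ⟨hw, hρ, -, -, hc⟩ := (hGood w ρ).1 hG
    refine Equiv.ext fun i => hw ?_
    rw [← hρ ⟨z, hzK⟩ i]
    show z * w i * z⁻¹ = _
    rw [(hc i).eq, mul_inv_cancel_right]; rfl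
  have hsquare : ∀ q ∈ Q, q * q = 1 ∨ q * q = z := fun q hq => by
    refine htriv (⟨q, hQK hq⟩ * ⟨q, hQK hq⟩) fun w ρ hG => ?_
    rw [map_mul]
    have hA := ((hGood w ρ).1 hG).2.2.2.1
    exact (htwo hA ⟨q, hQK hq⟩ (hQp q hq)).2
  have hcomm : ∀ q ∈ Q, ∀ r ∈ Q, q * r * q⁻¹ * r⁻¹ = 1 ∨ q * r * q⁻¹ * r⁻¹ = z := fun q hq r hr => by
    refine htriv (⟨q, hQK hq⟩ * ⟨r, hQK hr⟩ * ⟨q, hQK hq⟩⁻¹ * ⟨r, hQK hr⟩⁻¹) fun w ρ hG => ?_
    have hA := ((hGood w ρ).1 hG).2.2.2.1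
    rw [map_mul, map_mul, map_mul, map_inv, map_inv, vee_comm _ _ (htwo hA ⟨q, hQK hq⟩ (hQp q hq))
      (htwo hA ⟨r, hQK hr⟩ (hQp r hr))]
    group
  -- products of two members of one quad
  have hpair : ∀ S, IsQuad D z S → ∀ a ∈ S, ∀ b ∈ S, a * b ∈ Q := by
    intro S hS a ha b hb
    have hab : a * b ∈ Keep D z := by
      refine ⟨(hS.commute_mem ha).mul_left (hS.commute_mem hb), fun T hT => ?_⟩
      have e1 : (fun u => a * b * u * (a * b)⁻¹) = (fun u => a * u * a⁻¹) ∘ fun u => b * u * b⁻¹ := by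
        funext u; simp [mul_assoc]
      rw [e1, Set.image_comp, ← K.conj_indep hS hT ha hb, ← Set.image_comp]
      have e2 : ((fun u => a * u * a⁻¹) ∘ fun u => a * u * a⁻¹) = id := by
        funext u
        have ha2 := mul_self hD (hS.subset ha)
        simp [inv_eq hD (hS.subset ha), ← mul_assoc, ha2, mul_assoc u a a]
      rw [e2, Set.image_id]
    refine hmem _ hab ?_
    rw [show (2 : ℕ) ^ 13 = 2 * 2 ^ 12 by norm_num, pow_mul, pow_two, (hS.comm b hb a ha).mul_mul_mul_comm,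
      mul_self hD (hS.subset ha), mul_self hD (hS.subset hb), one_mul, one_pow]
  have hcentral : ∀ g, Commute g z → (∀ q ∈ Q, Commute g q) → g = 1 ∨ g = z := fun g hgz hg => by
    refine hpoint g hgz fun x hx => ?_
    obtain ⟨S, hS, hxS⟩ := K.exists_quad hz hx
    obtain ⟨b, hb, hbx⟩ := Set.exists_ne_of_one_lt_ncard (by rw [hS.ncard]; norm_num : 1 < S.ncard) x
    obtain ⟨c, hc, hcx, hcb⟩ : ∃ c ∈ S, c ≠ x ∧ c ≠ b := by
      by_contra hno
      simp only [not_exists, not_and, not_not] at hno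
      have := (Set.ncard_le_ncard (t := {x, b}) (fun u hu => by
        by_cases e : u = x
        exacts [Or.inl e, Or.inr (hno u hu e)]) (Set.toFinite _)).trans_eq (Set.ncard_pair (Ne.symm hbx))
      rw [hS.ncard] at this
      omega
    have key : ∀ y ∈ S, y ≠ x → g * x * g⁻¹ = x ∨ g * x * g⁻¹ = y := fun y hy hne => by
      have hxy := hS.comm x hxS y hy
      have e : [g * x * g⁻¹, g * y * g⁻¹].prod = [x, y].prod := by
        simp only [List.prod_cons, List.prod_nil, mul_one]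
        rw [show g * x * g⁻¹ * (g * y * g⁻¹) = g * (x * y) * g⁻¹ by group,
          (hg _ (hpair S hS x hxS y hy)).eq, mul_inv_cancel_right]
      have := (mem_iff_of_prod_eq hD K.noRel (l := [g * x * g⁻¹, g * y * g⁻¹]) (l' := [x, y])
        (List.nodup_cons.2 ⟨fun e' => hne (conj_injective (x := g) (List.mem_singleton.1 e')).symm, List.nodup_singleton _⟩)
        (List.nodup_cons.2 ⟨fun e' => hne (List.mem_singleton.1 e').symm, List.nodup_singleton _⟩)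
        (by simp [hD.conj g x hx.1, hD.conj g y (hS.subset hy)]) (by simp [hx.1, hS.subset hy])
        (by simp [(Commute.conj_iff g).2 hxy, ((Commute.conj_iff g).2 hxy).symm]) (by simp [hxy, hxy.symm])
        (by simp) (by simp) e (g * x * g⁻¹)).1 (List.mem_cons_self ..)
      simpa using this
    refine mul_inv_eq_iff_eq_mul.1 ?_
    rcases key b hb hbx with e | e
    · exact e
    rcases key c hc hcx with e' | e'
    · exact e'
    · exact absurd (e'.symm.trans e) hcb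
  have hzc : ∀ q ∈ Q, Commute q z := fun q hq => (hQK hq).1
  obtain ⟨ζ, hζ⟩ : ∃ ζ : ↥Q, ζ = ⟨z, hzQ⟩ := ⟨_, rfl⟩
  have hζc : ∀ q : ↥Q, (q : G) = 1 ∨ (q : G) = z → q ∈ Subgroup.center ↥Q := fun q hq =>
    Subgroup.mem_center_iff.2 fun r => Subtype.ext (by
      show (r : G) * q = q * r
      rcases hq with e | e <;> rw [e]
      · simp
      · exact (hzc _ r.2).eq)
  have hcen : Nat.card (Subgroup.center ↥Q) = 2 := by
    rw [← SetLike.coe_sort_coe, show ((Subgroup.center ↥Q : Subgroup ↥Q) : Set ↥Q) = {1, ζ} from ?_,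
      Nat.card_coe_set_eq, Set.ncard_pair fun e => hz1 (by rw [hζ] at e; exact (congrArg Subtype.val e).symm)]
    ext q
    simp only [SetLike.mem_coe, Set.mem_insert_iff, Set.mem_singleton_iff]
    refine ⟨fun hq => (hcentral q (hzc _ q.2) fun r hr => ?_).imp (fun e => Subtype.ext e)
      (fun e => hζ ▸ Subtype.ext e), fun hq => hζc q (hq.imp (fun e => by rw [e]; rfl) fun e => by rw [e, hζ])⟩
    exact (congrArg Subtype.val (Subgroup.mem_center_iff.1 hq ⟨r, hr⟩)).symm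
  have hext : IsExtraspecial 2 ↥Q := by
    refine Cfsg.Lib.Concrete.extraspecial_of_center (IsPGroup.of_card hQc) hcen
      (fun a b => hζc _ (hcomm a a.2 b b.2)) (fun a => hζc _ (hsquare a a.2)) ?_
    by_contra hno
    simp only [not_exists, not_not] at hno
    have : Subgroup.center ↥Q = ⊤ := eq_top_iff.2 fun q _ => Subgroup.mem_center_iff.2 fun r => hno r q
    rw [this, Subgroup.card_top, hQc] at hcen
    norm_num at hcen
  -- an element of order three moving every quad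
  obtain ⟨t, ht⟩ : swap (0 : Fin 4) 1 * swap 1 2 ∈ ρ₀.range := by
    rw [hA₀, Perm.mem_alternatingGroup]; decide
  obtain ⟨s, hs⟩ : ∃ s : ↥(Keep D z), s = t ^ 2 ^ 13 := ⟨_, rfl⟩
  have hs0 : ρ₀ s ∉ vee := by
    rw [hs, map_pow, ht]
    have h3 : (swap (0 : Fin 4) 1 * swap 1 2) ^ 3 = 1 := by decide
    rw [show (2 : ℕ) ^ 13 = 3 * 2730 + 2 by norm_num, pow_add, pow_mul, h3, one_pow, one_mul]
    decide
  have hs3 : s ^ 3 = 1 := by
    refine Subtype.ext ?_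
    rw [hs, ← pow_mul, Subgroup.coe_pow, mul_comm, pow_mul, Subgroup.coe_one]
    exact hQp _ (hcube _ t.2)
  have hs1 : s ≠ 1 := fun e => hs0 (by rw [e, map_one]; exact one_mem _)
  have hfree : ∀ {ρ : ↥(Keep D z) →* Perm (Fin 4)}, Nat.card ρ.ker = 2 ^ 11 → ρ s ≠ 1 := fun {ρ} hk e => by
    refine hs1 ?_
    have h1 := congrArg Subtype.val (pow_card_eq_one' (x := (⟨s, e⟩ : ↥ρ.ker)))
    rw [hk] at h1
    have h2 := pow_gcd_eq_one.2 ⟨Subtype.ext (by simpa using congrArg Subtype.val h1), hs3⟩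
    rwa [show Nat.gcd 2048 3 = 1 by norm_num, pow_one] at h2
  have hχ : ∀ χ : G →* ℤˣ, χ z = 1 → ∀ q ∈ Q, χ q = 1 := by
    intro χ hχz
    obtain ⟨c, hc⟩ : ∃ c : ↥Q → ↥Q, ∀ q : ↥Q, ((c q : ↥Q) : G) = q * s * (q : G)⁻¹ * (s : G)⁻¹ :=
      ⟨fun q => ⟨(q : G) * ((s : G) * (q : G)⁻¹ * (s : G)⁻¹), mul_mem q.2 (hnorm _ s.2.1 _ (inv_mem q.2))⟩,
        fun q => by simp [mul_assoc]⟩
    obtain ⟨Z, hZ⟩ : ∃ Z, Z = Subgroup.center ↥Q := ⟨_, rfl⟩
    let f : ↥Q ⧸ Z → ↥Q ⧸ Z := fun x => QuotientGroup.mk (c (Quotient.out x))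
    have hf : Function.Injective f := fun x y e => by
      obtain ⟨a, ha⟩ : ∃ a, a = Quotient.out x := ⟨_, rfl⟩
      obtain ⟨b, hb⟩ : ∃ b, b = Quotient.out y := ⟨_, rfl⟩
      have e' : (c a)⁻¹ * c b ∈ Z := by rw [ha, hb]; exact QuotientGroup.eq.1 e
      have hor : ∀ q : ↥Q, q ∈ Z → (q : G) = 1 ∨ (q : G) = z := fun q hq => by
        rw [hZ] at hq
        exact hcentral q (hzc _ q.2) fun r hr =>
          (congrArg Subtype.val (Subgroup.mem_center_iff.1 hq ⟨r, hr⟩)).symm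
      have hab : a⁻¹ * b ∈ Z := by
        rw [hZ]
        refine hζc _ (htriv (⟨a, hQK a.2⟩⁻¹ * ⟨b, hQK b.2⟩) fun w ρ hG => ?_)
        rw [map_mul, map_inv, inv_mul_eq_one]
        obtain ⟨hw, hρ, hk, hA, -⟩ := (hGood w ρ).1 hG
        have hca : ρ ⟨c a, hQK (c a).2⟩ = ρ ⟨c b, hQK (c b).2⟩ := by
          rcases hor _ e' with h | h
          · rw [show c b = c a from Subtype.ext (inv_mul_eq_one.1 (by simpa using h)).symm]
          · have : (c b : G) = c a * z := by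
              rw [← inv_mul_eq_iff_eq_mul]; simpa using h
            rw [show (⟨c b, hQK (c b).2⟩ : ↥(Keep D z)) = ⟨c a, hQK (c a).2⟩ * ⟨z, hzK⟩ from Subtype.ext this,
              map_mul, hrho_z hG, mul_one]
        have ec : ∀ q : ↥Q, (⟨c q, hQK (c q).2⟩ : ↥(Keep D z)) =
            ⟨q, hQK q.2⟩ * s * ⟨q, hQK q.2⟩⁻¹ * s⁻¹ := fun q => Subtype.ext (hc q)
        have inv2 : ∀ σ : Perm (Fin 4), σ ∈ vee → σ⁻¹ = σ := fun σ h => inv_eq_of_mul_eq_one_left h.2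
        have hss : ρ s * ρ s * ρ s = 1 := by
          rw [← map_mul, ← map_mul, show s * s * s = s ^ 3 by simp [pow_succ], hs3, map_one]
        have hsi : (ρ s)⁻¹ = ρ s * ρ s := inv_eq_of_mul_eq_one_right (by rw [← mul_assoc, hss])
        rw [ec, ec, map_mul, map_mul, map_mul, map_mul, map_mul, map_mul, map_inv, map_inv, map_inv,
          inv2 _ (htwo hA ⟨a, hQK a.2⟩ (hQp a a.2)), inv2 _ (htwo hA ⟨b, hQK b.2⟩ (hQp b b.2)), hsi] at hca
        exact vee_cancel _ _ _ (htwo hA ⟨a, hQK a.2⟩ (hQp a a.2)) (htwo hA ⟨b, hQK b.2⟩ (hQp b b.2)) hss (hfree hk) hca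
      rw [← Quotient.out_eq' x, ← Quotient.out_eq' y, ← ha, ← hb]
      exact QuotientGroup.eq.2 hab
    intro q hq
    obtain ⟨x, hx⟩ := Finite.surjective_of_injective hf (QuotientGroup.mk ⟨q, hq⟩)
    have hm : (c (Quotient.out x))⁻¹ * ⟨q, hq⟩ ∈ Z := QuotientGroup.eq.1 hx
    have hm' := hZ.le hm
    have h2 := hcentral _ (hzc _ ((c (Quotient.out x))⁻¹ * (⟨q, hq⟩ : ↥Q)).2) fun r hr =>
      (congrArg Subtype.val (Subgroup.mem_center_iff.1 hm' ⟨r, hr⟩)).symm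
    have hχc : χ (c (Quotient.out x) : G) = 1 := by
      rw [hc, map_mul, map_mul, map_mul, map_inv, map_inv, mul_comm (χ _) (χ (s : G)), mul_inv_cancel_right,
        mul_inv_cancel]
    have : χ ((((c (Quotient.out x))⁻¹ * ⟨q, hq⟩ : ↥Q)) : G) = 1 := by
      rcases h2 with e | e <;> rw [e]
      exacts [map_one χ, hχz]
    simpa [hχc] using this
  refine ⟨Q, hQK, hQc, hmem, hcube, hnorm, hext, fun g hgz hg => ?_, fun χ hχz g hg => ?_⟩
  · rcases hcentral g hgz hg with rfl | rfl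
    exacts [one_mem _, hzQ]
  · have := hχ χ hχz _ (hcube g hg)
    rwa [map_pow, pow_succ, pow_two, Int.units_mul_self, one_mul] at this

end M24Data

end Cfsg.Lib.Fischer.Relations
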