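import Cfsg.Agent.Lib.Fischer.Relations.TwentyFour.QuadAct
import Cfsg.Agent.Lib.Fischer.Relations.TwoPair.FixCommon
import Cfsg.Agent.Lib.Fischer.Relations.Twenty.Cent
import Cfsg.Agent.Lib.Fischer.Relations.OrderSeven.Quad

/-!
# The elements fixing every quad, near one standard quad

Two of the four members of a quad are carried into the neighbourhood of type M(22), where the elements keeping
every quad land in the kernel of a pair.
-/

set_option autoImplicit false
set_option linter.unusedSectionVars false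

namespace Cfsg.Lib.Fischer.Relations

open Cfsg Cfsg.Lib.Fischer Cfsg.Lib.Linear Cfsg.Lib.Linear.Herm

universe u

variable {G : Type u} [Group G]

/-- The elements of the centralizer of `z` mapping every quad to itself. -/
def Keep (D : Set G) (z : G) : Subgroup G where
  carrier := {g | Commute g z ∧ ∀ S, IsQuad D z S → (fun u => g * u * g⁻¹) '' S = S}
  mul_mem' := fun {g h} hg hh => ⟨hg.1.mul_left hh.1, fun S hS => by
    have e : (fun u => g * h * u * (g * h)⁻¹) = (fun u => g * u * g⁻¹) ∘ fun u => h * u * h⁻¹ := by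
      funext u; simp [mul_assoc]
    rw [e, Set.image_comp, hh.2 S hS, hg.2 S hS]⟩
  one_mem' := ⟨Commute.one_left z, fun S _ => by simp⟩
  inv_mem' := fun {g} hg => ⟨hg.1.inv_left, fun S hS => by
    conv_lhs => rw [← hg.2 S hS, Set.image_image]
    simp [mul_assoc]⟩

/-- The centralizer of a set. -/
abbrev centOf (a : G) : Subgroup G := Subgroup.centralizer ({a} : Set G)

theorem mem_centOf {a g : G} : g ∈ centOf a ↔ Commute g a := Subgroup.mem_centralizer_singleton_iff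

theorem two_mul_le_of_proper [Finite G] {H K : Subgroup G} (h : H ≤ K) {x : G} (hx : x ∈ K) (hx' : x ∉ H) :
    2 * Nat.card H ≤ Nat.card K := by
  obtain ⟨t, ht⟩ := Subgroup.card_dvd_of_le h
  rw [ht, mul_comm]
  refine Nat.mul_le_mul_left _ ?_
  have h0 : 0 < Nat.card K := Nat.card_pos
  rcases Nat.lt_or_ge t 2 with h2 | h2
  · interval_cases t
    · rw [ht, mul_zero] at h0; omega
    · exact absurd (Subgroup.eq_of_le_of_card_ge h (by rw [ht, mul_one]) ▸ hx) hx'
  · exact h2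

namespace M24Data

variable [Finite G] {D : Set G} {d : G} (K : M24Data D d)
include K

/-- Some member commuting with the product misses a given member of a quad. -/
theorem exists_quad_far {z : G} (hz : IsProd D 4 z) {S : Set G} (hS : IsQuad D z S) {a : G} (ha : a ∈ S) :
    ∃ x ∈ fixD D z, ¬ Commute x a := by
  obtain ⟨Sp, hadj⟩ := K.exists_space hz
  obtain ⟨F, hF, hsub⟩ := Sp.extend {⟨S, hS⟩} (by simp)
  obtain ⟨t, ht⟩ := hsub (Set.mem_singleton _)
  obtain ⟨i, j, hij, hit, hjt⟩ : ∃ i j : Fin 6, i ≠ j ∧ i ≠ t ∧ j ≠ t :=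
    (by decide : ∀ t : Fin 6, ∃ i j : Fin 6, i ≠ j ∧ i ≠ t ∧ j ≠ t) t
  obtain ⟨x, hx⟩ := Sp.exists_mem hF hij
  obtain ⟨m, hm⟩ : x.1.Nonempty := Set.nonempty_of_ncard_ne_zero (by rw [x.2.ncard]; norm_num)
  refine ⟨m, K.mem_fixD x.2 hm, fun h => Sp.not_adj hF hx hit.symm hjt.symm ?_⟩
  rw [ht]
  refine Sp.adj_symm ?_
  rw [hadj]
  exact ⟨fun e => Sp.not_range hF hx ⟨t, ht.trans e.symm⟩, K.commute_all x.2 hS hm ha h⟩

/-- A member moves some quad. -/
theorem notMem_keep {z : G} (hz : IsProd D 4 z) {S : Set G} (hS : IsQuad D z S) {a : G} (ha : a ∈ S) :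
    a ∉ Keep D z := fun h => by
  obtain ⟨x, hx, hxa⟩ := K.exists_quad_far hz hS ha
  obtain ⟨T, hT, hxT⟩ := K.exists_quad hz hx
  have hmem : a * x * a⁻¹ ∈ T := by rw [← h.2 T hT]; exact ⟨x, hxT, rfl⟩
  exact K.not_commute_conj (hS.subset ha) hx.1 (fun e => hxa e.symm) (hT.comm x hxT _ hmem)

/-- The properties of the elements keeping every quad at one standard quad through `d`. -/
theorem exists_standard : ∃ (z a b c : G), IsQuad D z {x | x ∈ [d, a, b, c]} ∧ [d, a, b, c].Nodup ∧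
    [d, a, b, c].prod = z ∧
    (∀ g ∈ Keep D z, Commute g d → Commute g a → Commute g b ∧ Commute g c) ∧
    Nat.card ↥(Keep D z ⊓ centOf d ⊓ centOf a ⊓ centOf b ⊓ centOf c) ≤ 2 ^ 11 ∧
    ∀ g : G, Commute g z → (∀ x ∈ fixD D z, Commute g x) → g = 1 ∨ g = z := by
  classical
  have hD := K.trans
  obtain ⟨F, _, _, hF, e, f, ⟨C⟩⟩ := K.exists_coord
  have hnc := K.nc
  have hncI := C.data.nc
  have hDI := C.data.trans
  obtain ⟨a, ha, hae⟩ := exists_bar C.data.mem
  obtain ⟨b, hb, hbf⟩ := exists_bar C.bmem.1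
  -- the pair one level down
  obtain ⟨y, hy0, k, hk, hyk⟩ := C.co.exists_point (TwoPair.bv_iso hF).1 (TwoPair.bv_iso hF).2
  obtain ⟨h, hh⟩ := AutPSU.exists_GU_iso hF (v := C.co.U.c y) (w := (TwoPair.bv : Fin 6 → F))
    ⟨C.co.U.ne y hy0, C.co.U.iso y hy0⟩ (TwoPair.bv_iso hF)
  let P : TwoPair.Base (image (perp (image (perp D d)) e)) (bar C.bmem) y hF :=
    ⟨TwoPair.turnCoord C.co h, hy0, 1, one_ne_zero, by rw [one_smul]; exact hh⟩
  obtain ⟨y', hy', hyy⟩ := exists_bar hy0.1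
  obtain ⟨c, hc, hcy⟩ := exists_bar hy'.1
  -- the members commute and differ
  have cab : Commute a b := (bar_commute hD (fun _ h => h.1) ha hb).1 (by rw [hae, hbf]; exact C.bmem.2.2)
  have cac : Commute a c := (bar_commute hD (fun _ h => h.1) ha hc).1 (by rw [hae, hcy]; exact hy'.2.2)
  have cbc : Commute b c := (bar_commute hD (fun _ h => h.1) hb hc).1 (by
    rw [hbf, hcy, ← bar_commute hDI (fun _ h => h.1) C.bmem hy', hyy]
    exact hy0.2.2)
  have nba : b ≠ a := fun e' => C.bmem.2.1 (by subst e'; exact hbf.symm.trans hae)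
  have nca : c ≠ a := fun e' => hy'.2.1 (by subst e'; exact hcy.symm.trans hae)
  have ncb : c ≠ b := fun e' => hy0.2.1 (by
    subst e'
    have : y' = f := hcy.symm.trans hbf
    subst this
    exact hyy.symm)
  have hnd : [d, a, b, c].Nodup := by
    simp [ha.2.1.symm, hb.2.1.symm, hc.2.1.symm, nba.symm, nca.symm, ncb.symm]
  have hlD : ∀ x ∈ [d, a, b, c], x ∈ D := by simp [K.mem, ha.1, hb.1, hc.1]
  have hlc : ∀ x ∈ [d, a, b, c], ∀ w ∈ [d, a, b, c], Commute x w := by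
    simp [ha.2.2, ha.2.2.symm, hb.2.2, hb.2.2.symm, hc.2.2, hc.2.2.symm, cab, cab.symm, cac, cac.symm, cbc, cbc.symm]
  obtain ⟨z, hzdef⟩ : ∃ z, z = [d, a, b, c].prod := ⟨_, rfl⟩
  have hq : IsQuad D z {x | x ∈ [d, a, b, c]} := ⟨_, hnd, rfl, hlD, hlc, hzdef.symm, rfl⟩
  have hz : IsProd D 4 z := ⟨_, hnd, rfl, hlD, hlc, hzdef.symm⟩
  -- the descent
  obtain ⟨J, hJ⟩ : ∃ J : Subgroup G, J = centOf d ⊓ centOf a := ⟨_, rfl⟩
  have hJm : ∀ {g : G}, g ∈ J ↔ Commute g d ∧ Commute g a := by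
    intro g; rw [hJ, Subgroup.mem_inf, mem_centOf, mem_centOf]
  have hJH : J ≤ Subgroup.closure (perp D d) := fun g hg => by
    rw [K.centralizer_eq]; exact mem_centOf.2 (hJm.1 hg).1
  let π₁ : ↥J →* ↥(Subgroup.closure (perp D d)) ⧸ Subgroup.center ↥(Subgroup.closure (perp D d)) :=
    (QuotientGroup.mk' _).comp (Subgroup.inclusion hJH)
  have hπ₁ : ∀ g : ↥J, π₁ g ∈ Subgroup.closure (perp (image (perp D d)) e) := fun g => by
    rw [C.centralizer_eq, Subgroup.mem_centralizer_singleton_iff, ← hae]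
    exact congrArg (QuotientGroup.mk' (Subgroup.center ↥(Subgroup.closure (perp D d))))
      (show Subgroup.inclusion hJH g * ⟨a, Subgroup.subset_closure ha⟩ =
        ⟨a, Subgroup.subset_closure ha⟩ * Subgroup.inclusion hJH g from Subtype.ext (hJm.1 g.2).2.eq)
  let π : ↥J →* ↥(Subgroup.closure (perp (image (perp D d)) e)) ⧸
      Subgroup.center ↥(Subgroup.closure (perp (image (perp D d)) e)) :=
    (QuotientGroup.mk' _).comp (π₁.codRestrict _ hπ₁)
  have mem1 : ∀ {x : G} (hx : x ∈ perp D d), x ∈ perp D a → bar hx ∈ perp (image (perp D d)) e :=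
    fun {x} hx hxa => by
      rw [← hae]
      exact ⟨bar_mem hx, K.bar_ne ha hx hxa.2.1, (bar_commute hD (fun _ h => h.1) ha hx).2 hxa.2.2⟩
  have inJ : ∀ {x : G}, x ∈ perp D d → x ∈ perp D a → x ∈ J := fun hx hxa => hJm.2 ⟨hx.2.2.symm, hxa.2.2.symm⟩
  have hba : b ∈ perp D a := ⟨hb.1, nba, cab⟩
  have hca : c ∈ perp D a := ⟨hc.1, nca, cac⟩
  have πmem : ∀ {x : G} (hx : x ∈ perp D d) (hxa : x ∈ perp D a), π ⟨x, inJ hx hxa⟩ = bar (mem1 hx hxa) :=
    fun hx hxa => rfl
  have πb : π ⟨b, inJ hb hba⟩ = bar C.bmem := by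
    rw [πmem hb hba]; simp only [bar] at hbf ⊢; simp only [hbf]
  have πc : π ⟨c, inJ hc hca⟩ = y := by
    rw [πmem hc hca, ← hyy]; simp only [bar] at hcy ⊢; simp only [hcy]
  have πinj : ∀ {x x' : G} (hx : x ∈ perp D d) (hxa : x ∈ perp D a) (hx' : x' ∈ perp D d) (hxa' : x' ∈ perp D a),
      π ⟨x, inJ hx hxa⟩ = π ⟨x', inJ hx' hxa'⟩ → x = x' := fun {x x'} hx hxa hx' hxa' h' => by
    rw [πmem hx hxa, πmem hx' hxa'] at h'
    exact bar_inj hD (fun _ h => h.1) hnc hx hx' (bar_inj hDI (fun _ h => h.1) hncI _ _ h')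
  have πcomm : ∀ {g : ↥J} {x : G} (hx : x ∈ perp D d) (hxa : x ∈ perp D a),
      Commute (π g) (π ⟨x, inJ hx hxa⟩) → Commute (g : G) x := fun {g x} hx hxa h' => by
    obtain ⟨g1, g2⟩ := hJm.1 g.2
    have x1 : (g : G) * x * (g : G)⁻¹ ∈ perp D d := K.conj_mem g1 hx
    have x2 : (g : G) * x * (g : G)⁻¹ ∈ perp D a := by
      have := conj_perp K.fis (g : G) a hxa
      rwa [g2.eq, mul_inv_cancel_right] at this
    have e1 : π ⟨_, inJ x1 x2⟩ = π ⟨x, inJ hx hxa⟩ := by
      rw [show (⟨_, inJ x1 x2⟩ : ↥J) = g * ⟨x, inJ hx hxa⟩ * g⁻¹ from Subtype.ext rfl, map_mul, map_mul, map_inv,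
        h'.eq, mul_inv_cancel_right]
    exact mul_inv_eq_iff_eq_mul.1 (πinj x1 x2 hx hxa e1)
  have hker : ∀ g : ↥J, π g = 1 → (g : G) ∈ ({1, d, a, d * a} : Set G) := fun g hg => by
    have h1 : (π₁.codRestrict _ hπ₁) g ∈ Subgroup.center ↥(Subgroup.closure (perp (image (perp D d)) e)) :=
      (QuotientGroup.eq_one_iff _).1 hg
    rw [Subgroup.mem_center_iff] at h1
    have lift : ∀ {u : ↥J}, π₁ u = 1 → (u : G) = 1 ∨ (u : G) = d := fun {u} hu => by
      have hu' := Subgroup.mem_center_iff.1 ((QuotientGroup.eq_one_iff _).1 hu)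
      exact K.eq_one_or (hJm.1 u.2).1 fun s hs => (congrArg Subtype.val (hu' ⟨s, Subgroup.subset_closure hs⟩)).symm
    rcases eq_or_eq_of_trace C.data.fis C.data.prim C.data.trace C.data.cen C.data.mem (z := π₁ g)
      (C.data.commute_of_mem (hπ₁ g)) (fun s hs => (congrArg Subtype.val (h1 ⟨s, Subgroup.subset_closure hs⟩)).symm)
      with h' | h'
    · rcases lift h' with h'' | h'' <;> simp [h'']
    · have haJ : a ∈ J := hJm.2 ⟨ha.2.2.symm, Commute.refl a⟩
      have h2 : π₁ (g * ⟨a, haJ⟩) = 1 := by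
        rw [map_mul, h', show π₁ ⟨a, haJ⟩ = e from hae, mul_self hDI C.data.mem]
      rcases lift h2 with h'' | h''
      · have : (g : G) = a := by
          rw [← inv_eq hD ha.1]; exact eq_inv_of_mul_eq_one_left h''
        simp [this]
      · have : (g : G) = d * a := by
          have h3 := congrArg (· * a) h''
          simpa [mul_assoc, mul_self hD ha.1] using h3
        simp [this]
  -- the product downstairs
  have hpi : π ⟨b, inJ hb hba⟩ * π ⟨c, inJ hc hca⟩ = bar C.bmem * y := by rw [πb, πc]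
  have hzJ : z ∈ J := hzdef ▸ list_prod_mem fun x hx =>
    hJm.2 ⟨hlc x hx d (by simp), hlc x hx a (by simp)⟩
  have hdJ : d ∈ J := hJm.2 ⟨Commute.refl d, ha.2.2⟩
  have haJ : a ∈ J := hJm.2 ⟨ha.2.2.symm, Commute.refl a⟩
  have πd : π ⟨d, hdJ⟩ = 1 := by
    have : π₁ ⟨d, hdJ⟩ = 1 := by
      refine (QuotientGroup.eq_one_iff _).2 (Subgroup.mem_center_iff.2 fun s => Subtype.ext ?_)
      exact (K.commute_of_mem s.2).eq
    show QuotientGroup.mk _ = _
    rw [show (π₁.codRestrict _ hπ₁) ⟨d, hdJ⟩ = 1 from Subtype.ext this, QuotientGroup.mk_one]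
  have πa : π ⟨a, haJ⟩ = 1 := by
    refine (QuotientGroup.eq_one_iff _).2 (Subgroup.mem_center_iff.2 fun s => Subtype.ext ?_)
    show (s : _) * π₁ ⟨a, haJ⟩ = π₁ ⟨a, haJ⟩ * s
    rw [show π₁ ⟨a, haJ⟩ = e from hae]
    exact (C.data.commute_of_mem s.2).eq
  have πz : π ⟨z, hzJ⟩ = bar C.bmem * y := by
    rw [show (⟨z, hzJ⟩ : ↥J) = ⟨d, hdJ⟩ * ⟨a, haJ⟩ * (⟨b, inJ hb hba⟩ * ⟨c, inJ hc hca⟩) from
      Subtype.ext (by simp [hzdef, mul_assoc]), map_mul, map_mul, map_mul, πd, πa, one_mul, one_mul, hpi]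
  -- common neighbours come from quads
  have hlift : ∀ x'' ∈ perp (image (perp (image (perp D d)) e)) (bar C.bmem),
      x'' ∈ perp (image (perp (image (perp D d)) e)) y → ∃ (x : G) (hx : x ∈ perp D d) (hxa : x ∈ perp D a),
        π ⟨x, inJ hx hxa⟩ = x'' ∧ x ∈ fixD D z ∧ x ∉ ({u | u ∈ [d, a, b, c]} : Set G) := by
    intro x'' h1 h2
    obtain ⟨x', hx', rfl⟩ := exists_bar h1.1
    obtain ⟨x, hx, rfl⟩ := exists_bar hx'.1
    have hxa : x ∈ perp D a := ⟨hx.1, fun e' => hx'.2.1 (by subst e'; exact hae),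
      (bar_commute hD (fun _ h => h.1) ha hx).1 (by rw [hae]; exact hx'.2.2)⟩
    refine ⟨x, hx, hxa, rfl, ⟨hx.1, hq.commute_prod ?_⟩, ?_⟩
    · intro u hu
      have hu' : u ∈ [d, a, b, c] := hu
      clear hu
      simp only [List.mem_cons, List.not_mem_nil, or_false] at hu'
      rcases hu' with rfl | rfl | rfl | rfl
      · exact hx.2.2.symm
      · exact hxa.2.2.symm
      · exact (πcomm (g := ⟨x, inJ hx hxa⟩) hb hba (by rw [πb]; exact h1.2.2.symm))
      · exact (πcomm (g := ⟨x, inJ hx hxa⟩) hc hca (by rw [πc]; exact h2.2.2.symm))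
    · intro hu
      have hu' : x ∈ [d, a, b, c] := hu
      clear hu
      simp only [List.mem_cons, List.not_mem_nil, or_false] at hu'
      rcases hu' with rfl | rfl | rfl | rfl
      · exact hx.2.1 rfl
      · exact hxa.2.1 rfl
      · exact h1.2.1 (πb ▸ πmem hx hxa).symm
      · exact h2.2.1 (πc ▸ πmem hx hxa).symm
  have hcentJ : ∀ g : ↥J, Commute (g : G) z → π g ∈ Subgroup.centralizer ({bar C.bmem * y} : Set _) := fun g hg => by
    rw [← πz, Subgroup.mem_centralizer_singleton_iff, ← map_mul, ← map_mul]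
    exact congrArg π (Subtype.ext hg.eq)
  have hE : ∀ g : ↥J, (g : G) ∈ Keep D z → π g ∈ P.E := by
    intro g hg
    refine P.mem_E_of_fours (hcentJ g hg.1) fun x'' h1 h2 => ?_
    obtain ⟨x, hx, hxa, rfl, hxf, hxl⟩ := hlift x'' h1 h2
    obtain ⟨S, hS, hxS⟩ := K.exists_quad hz hxf
    obtain ⟨l, ln, llen, lD, lc, lp, rfl⟩ := id hS
    have hall : ∀ u ∈ l, ∀ w ∈ [d, a, b, c], Commute u w :=
      K.commute_all hS hq (b := d) hxS (List.mem_cons_self ..) hx.2.2.symm
    have hnot : ∀ u ∈ l, u ∉ [d, a, b, c] := fun u hu hu' => by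
      have := K.quad_eq hS hq (x := u) hu hu'
      exact hxl (this ▸ hxS)
    have m1 : ∀ u ∈ l, u ∈ perp D d := fun u hu => ⟨lD u hu, fun e' => hnot u hu (by simp [e']),
      (hall u hu d (by simp)).symm⟩
    have m2 : ∀ u ∈ l, u ∈ perp D a := fun u hu => ⟨lD u hu, fun e' => hnot u hu (by simp [e']),
      (hall u hu a (by simp)).symm⟩
    obtain ⟨T, hT⟩ : ∃ T, T = l.attach.map fun u : {u // u ∈ l} => π ⟨u.1, inJ (m1 u.1 u.2) (m2 u.1 u.2)⟩ :=
      ⟨_, rfl⟩
    have hTm : ∀ {u : G} (hu : u ∈ l), π ⟨u, inJ (m1 u hu) (m2 u hu)⟩ ∈ T := fun {u} hu => by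
      rw [hT]; exact List.mem_map.2 ⟨⟨u, hu⟩, List.mem_attach _ _, rfl⟩
    have hTi : ∀ w ∈ T, ∃ (u : G) (hu : u ∈ l), π ⟨u, inJ (m1 u hu) (m2 u hu)⟩ = w := fun w hw => by
      rw [hT] at hw
      obtain ⟨⟨u, hu⟩, -, rfl⟩ := List.mem_map.1 hw
      exact ⟨u, hu, rfl⟩
    have hprod : T.prod = π ⟨z, hzJ⟩ := by
      rw [hT, show (l.attach.map fun u : {u // u ∈ l} => π ⟨u.1, inJ (m1 u.1 u.2) (m2 u.1 u.2)⟩) =
        (l.attach.map fun u : {u // u ∈ l} => (⟨u.1, inJ (m1 u.1 u.2) (m2 u.1 u.2)⟩ : ↥J)).map π from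
          List.map_map.symm, ← map_list_prod]
      refine congrArg π (Subtype.ext ?_)
      rw [SubmonoidClass.coe_list_prod, List.map_map]
      show (l.attach.map fun u => u.1).prod = z
      rw [List.attach_map_subtype_val, lp]
    refine ⟨T, ⟨?_, by rw [hT, List.length_map, List.length_attach, llen], ?_, ?_, hprod.trans πz⟩,
      hTm hxS, ?_⟩
    · rw [hT]
      refine List.Nodup.map (fun u v e' => Subtype.ext (πinj (m1 u.1 u.2) (m2 u.1 u.2) (m1 v.1 v.2) (m2 v.1 v.2) e')) (List.nodup_attach.2 ln)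
    · intro w hw
      obtain ⟨u, hu, rfl⟩ := hTi w hw
      have hm := bar_mem (mem1 (m1 u hu) (m2 u hu))
      rw [← πmem (m1 u hu) (m2 u hu)] at hm
      refine ⟨⟨hm, ?_, ?_⟩, hm, ?_, ?_⟩
      · rw [← πb]; exact fun e' => hnot u hu (by rw [πinj (m1 u hu) (m2 u hu) hb hba e']; simp)
      · rw [← πb]; exact Commute.map (show Commute (⟨b, inJ hb hba⟩ : ↥J) _ from
          Subtype.ext (hall u hu b (by simp)).symm.eq) π
      · rw [← πc]; exact fun e' => hnot u hu (by rw [πinj (m1 u hu) (m2 u hu) hc hca e']; simp)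
      · rw [← πc]; exact Commute.map (show Commute (⟨c, inJ hc hca⟩ : ↥J) _ from
          Subtype.ext (hall u hu c (by simp)).symm.eq) π
    · intro w hw w' hw'
      obtain ⟨u, hu, rfl⟩ := hTi w hw
      obtain ⟨u', hu', rfl⟩ := hTi w' hw'
      exact Commute.map (show Commute (⟨u, inJ (m1 u hu) (m2 u hu)⟩ : ↥J) ⟨u', inJ (m1 u' hu') (m2 u' hu')⟩ from
        Subtype.ext (lc u hu u' hu').eq) π
    · have hu : (g : G) * x * (g : G)⁻¹ ∈ l := by
        have h' : (g : G) * x * (g : G)⁻¹ ∈ (fun u => (g : G) * u * (g : G)⁻¹) '' {u | u ∈ l} := ⟨x, hxS, rfl⟩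
        rwa [hg.2 _ hS] at h'
      rw [← map_inv, ← map_mul, ← map_mul]
      exact hTm hu
  have hEfix : ∀ g : ↥J, π g ∈ P.E → Commute (g : G) b ∧ Commute (g : G) c := fun g hg => by
    obtain ⟨h', -⟩ := P.mem_E.1 hg
    obtain ⟨h1, h2⟩ := TwoPair.mem_pair_centralizer.1 h'
    exact ⟨πcomm hb hba (by rwa [πb]), πcomm hc hca (by rwa [πc])⟩
  refine ⟨z, a, b, c, hq, hnd, hzdef.symm, fun g hg g1 g2 => hEfix ⟨g, hJm.2 ⟨g1, g2⟩⟩ (hE _ hg), ?_, ?_⟩
  · -- the bound
    obtain ⟨M, hM⟩ : ∃ M : Subgroup G, M = (P.E.comap π).map J.subtype := ⟨_, rfl⟩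
    have hMc : Nat.card M ≤ 2 ^ 12 := by
      rw [hM, Subgroup.card_map_of_injective J.subtype_injective]
      have hle : π.ker ≤ P.E.comap π := fun u hu => by
        show π u ∈ P.E
        rw [MonoidHom.mem_ker.1 hu]; exact one_mem _
      rw [← (π.ker.subgroupOf (P.E.comap π)).card_mul_index]
      have h4 : Nat.card ↥(π.ker.subgroupOf (P.E.comap π)) ≤ 4 := by
        rw [Nat.card_congr (Subgroup.subgroupOfEquivOfLe hle).toEquiv]
        have hi : ((fun u : ↥J => (u : G)) '' (π.ker : Set ↥J)).ncard ≤ 4 := by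
          refine (Set.ncard_le_ncard (t := {1, d, a, d * a}) ?_ (Set.toFinite _)).trans ?_
          · rintro _ ⟨u, hu, rfl⟩
            exact hker u hu
          · refine (Set.ncard_insert_le _ _).trans (Nat.add_le_add_right ((Set.ncard_insert_le _ _).trans
              (Nat.add_le_add_right ((Set.ncard_insert_le _ _).trans ?_) 1)) 1)
            rw [Set.ncard_singleton]
        rw [Set.ncard_image_of_injective _ Subtype.val_injective, ← Nat.card_coe_set_eq] at hi
        exact hi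
      refine (Nat.mul_le_mul h4 (le_trans ?_ P.card_E.le)).trans (by norm_num)
      rw [Subgroup.index_eq_card]
      refine Nat.card_le_card_of_injective (fun q => Quotient.liftOn' q (fun u => (⟨π u.1, u.2⟩ : ↥P.E))
        fun u v huv => Subtype.ext ?_) fun q q' h' => ?_
      · rw [QuotientGroup.leftRel_apply] at huv
        have : π (u⁻¹ * v).1 = 1 := huv
        rwa [Subgroup.coe_mul, Subgroup.coe_inv, map_mul, map_inv, inv_mul_eq_one] at this
      · induction q using Quotient.inductionOn' with | h u =>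
        induction q' using Quotient.inductionOn' with | h v =>
        refine Quotient.sound' ?_
        rw [QuotientGroup.leftRel_apply]
        show π (u⁻¹ * v).1 = 1
        rw [Subgroup.coe_mul, Subgroup.coe_inv, map_mul, map_inv, inv_mul_eq_one]
        exact congrArg Subtype.val h'
    have hsub : Keep D z ⊓ centOf d ⊓ centOf a ⊓ centOf b ⊓ centOf c ≤ M := fun g hg => by
      obtain ⟨⟨⟨⟨g0, g1⟩, g2⟩, -⟩, -⟩ := hg
      rw [hM]
      exact ⟨⟨g, hJm.2 ⟨mem_centOf.1 g1, mem_centOf.1 g2⟩⟩, hE _ g0, rfl⟩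
    have hbM : b ∈ M := by
      rw [hM]
      refine ⟨⟨b, inJ hb hba⟩, ?_, rfl⟩
      show π _ ∈ P.E
      rw [πb]; exact P.E_pair.2.1
    have := two_mul_le_of_proper hsub hbM fun h' => K.notMem_keep hz hq (a := b) (by simp) h'.1.1.1.1
    omega
  · intro g hgz hg
    have hgu : ∀ u ∈ [d, a, b, c], Commute g u := fun u hu => hg u (K.mem_fixD hq hu)
    have hgJ : g ∈ J := hJm.2 ⟨hgu d (by simp), hgu a (by simp)⟩
    have hgp : π ⟨g, hgJ⟩ ∈ Subgroup.centralizer ({bar C.bmem, y} : Set _) := by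
      refine TwoPair.mem_pair_centralizer.2 ⟨?_, ?_⟩
      · rw [← πb]; exact Commute.map (show Commute (⟨g, hgJ⟩ : ↥J) _ from Subtype.ext (hgu b (by simp)).eq) π
      · rw [← πc]; exact Commute.map (show Commute (⟨g, hgJ⟩ : ↥J) _ from Subtype.ext (hgu c (by simp)).eq) π
    have hV := P.inV_of_commute_common ⟨_, hgp⟩ fun x'' h1 h2 => by
      obtain ⟨x, hx, hxa, rfl, hxf, -⟩ := hlift x'' h1 h2
      exact Commute.map (show Commute (⟨g, hgJ⟩ : ↥J) _ from Subtype.ext (hg x hxf).eq) π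
    obtain ⟨v, hv, hvJ, hve⟩ : ∃ v ∈ [[], [b], [c], [b, c]], ∃ hvJ : (v : List G).prod ∈ J,
        π ⟨v.prod, hvJ⟩ = π ⟨g, hgJ⟩ := by
      rcases hV with h' | h' | h' | h'
      · exact ⟨[], by simp, one_mem _, (map_one π).trans h'.symm⟩
      · exact ⟨[b], by simp, by simpa using inJ hb hba,
          (congrArg π (Subtype.ext (by simp))).trans (πb.trans h'.symm)⟩
      · exact ⟨[c], by simp, by simpa using inJ hc hca,
          (congrArg π (Subtype.ext (by simp))).trans (πc.trans h'.symm)⟩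
      · refine ⟨[b, c], by simp, by simpa using mul_mem (inJ hb hba) (inJ hc hca), ?_⟩
        exact (congrArg π (show (⟨[b, c].prod, _⟩ : ↥J) = ⟨b, inJ hb hba⟩ * ⟨c, inJ hc hca⟩ from
          Subtype.ext (by simp))).trans ((map_mul π _ _).trans (hpi.trans h'.symm))
    have hk := hker (⟨g, hgJ⟩ * ⟨v.prod, hvJ⟩⁻¹) (by rw [map_mul, map_inv, hve, mul_inv_cancel])
    simp only [Subgroup.coe_mul, Subgroup.coe_inv] at hk
    obtain ⟨l, hl, hgl⟩ : ∃ l : List G, l.Sublist [d, a, b, c] ∧ g = l.prod := by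
      obtain ⟨u, hu, he⟩ : ∃ u ∈ [[], [d], [a], [d, a]], g * v.prod⁻¹ = (u : List G).prod := by
        simp only [Set.mem_insert_iff, Set.mem_singleton_iff] at hk
        rcases hk with h' | h' | h' | h'
        exacts [⟨[], by simp, by simpa using h'⟩, ⟨[d], by simp, by simpa using h'⟩,
          ⟨[a], by simp, by simpa using h'⟩, ⟨[d, a], by simp, by simpa using h'⟩]
      refine ⟨u ++ v, ?_, by rw [List.prod_append, ← he, inv_mul_cancel_right]⟩
      have s1 : ∀ u ∈ [[], [d], [a], [d, a]], (u : List G).Sublist [d, a] := by simp [List.Sublist.cons]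
      have s2 : ∀ v ∈ [[], [b], [c], [b, c]], (v : List G).Sublist [b, c] := by simp [List.Sublist.cons]
      exact List.Sublist.append (s1 u hu) (s2 v hv)
    rcases Nat.lt_or_ge l.length 4 with h4 | h4
    · rcases l with _ | ⟨w, t⟩
      · exact Or.inl (by simpa using hgl)
      · exfalso
        have hw : w ∈ [d, a, b, c] := hl.subset (List.mem_cons_self ..)
        obtain ⟨x, hx, hxw⟩ := K.exists_quad_far hz hq (a := w) hw
        refine hxw (OrderSeven.commute_each hD K.noRel hx.1 (hnd.sublist hl) (fun u hu => hlD u (hl.subset hu))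
          (fun u hu u' hu' => hlc u (hl.subset hu) u' (hl.subset hu')) (by simp at h4 ⊢; omega) ?_ w
          (List.mem_cons_self ..))
        rw [← hgl]; exact (hg x hx).symm
    · exact Or.inr (by rw [hgl, hl.eq_of_length_le h4, hzdef])

end M24Data

end Cfsg.Lib.Fischer.Relations
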