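import Cfsg.Agent.Lib.Fischer.Relations.SepM22
import Cfsg.Agent.Lib.Fischer.Relations.Twenty.ReflOrder

/-!
# A single class of type M(23) separates its members

Two members with the same commuting members would give two such members, not central, in the neighbourhood of a
member; their images in the group of type M(22) coincide, so the two members are equal.
-/

set_option autoImplicit false
set_option linter.unusedSectionVars false

namespace Cfsg.Lib.Fischer.Relations

open Cfsg Cfsg.Lib.Fischer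

variable {G : Type*} [Group G] [Finite G] {E : Set G}

/-- The M(22) property does not see the neutral element. -/
theorem isOfTypeM22_diff_one {S : Set G} (h : Cfsg.IsOfTypeM22 G S) : Cfsg.IsOfTypeM22 G (S \ {1}) := by
  obtain ⟨hZ, d, hd, c, hc, hdc, ⟨F, i1, i2, hF, he⟩, c₃, hc₃, hL⟩ := h
  have hd1 : d ≠ 1 := fun e => hdc (e ▸ Commute.one_left c)
  have hc1 : c ≠ 1 := fun e => hdc (e ▸ Commute.one_right d)
  have cl : ∀ A : Set G, Subgroup.closure (A \ {1}) = Subgroup.closure A := fun A =>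
    le_antisymm (Subgroup.closure_mono Set.sdiff_subset) ((Subgroup.closure_le _).2 fun x hx => by
      by_cases h : x = 1
      · rw [h]; exact one_mem _
      · exact Subgroup.subset_closure ⟨hx, h⟩)
  have k1 : ∀ T : Subgroup G, T = Subgroup.closure {y : G | y ∈ S ∧ y ≠ d ∧ Commute d y} →
      Nonempty (↥T ⧸ Subgroup.center ↥T ≃* PSU 6 F 2) := fun T hT => by subst hT; exact he
  have k2 : ∀ T : Subgroup G,
      T = Subgroup.closure ({y : G | y ∈ S ∧ y ≠ d ∧ Commute d y} ∩ {y : G | y ∈ S ∧ y ≠ c ∧ Commute c y}) →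
      Cfsg.IsProjReflectionGroupModThree (↥T ⧸ Subgroup.center ↥T) 6 1 c₃ := fun T hT => by subst hT; exact hL
  refine ⟨hZ, d, ⟨hd, hd1⟩, c, ⟨hc, hc1⟩, hdc, ⟨F, i1, i2, hF, k1 _ ?_⟩, c₃, hc₃, k2 _ ?_⟩
  · rw [← cl {y : G | y ∈ S ∧ y ≠ d ∧ Commute d y}]
    congr 1
    ext y
    simp only [Set.mem_setOf_eq, Set.mem_diff, Set.mem_singleton_iff]
    tauto
  · rw [← cl ({y : G | y ∈ S ∧ y ≠ d ∧ Commute d y} ∩ _)]
    congr 1
    ext y
    simp only [Set.mem_setOf_eq, Set.mem_diff, Set.mem_singleton_iff, Set.mem_inter_iff]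
    tauto

/-- Members with the same commuting members coincide in a class of type M(23). -/
theorem sep_m23 (hT : Trans E) (h23 : Cfsg.IsOfTypeM23 G E) :
    ∀ a ∈ E, ∀ b ∈ E, (∀ x ∈ E, Commute a x ↔ Commute b x) → a = b := by
  obtain ⟨-, e, he, c, hc, hec, h22, c₃, hc₃, hL⟩ := h23
  replace h22 : Cfsg.IsOfTypeM22 _ (image (perp E e)) := h22
  by_contra hno
  push Not at hno
  obtain ⟨a, ha, b, hb, hab, hne⟩ := hno
  -- a member commuting with `e` and `c`
  obtain ⟨f, hf⟩ : ({y : G | y ∈ E ∧ y ≠ e ∧ Commute e y} ∩ {y : G | y ∈ E ∧ y ≠ c ∧ Commute c y}).Nonempty := by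
    by_contra h
    rw [Set.not_nonempty_iff_eq_empty] at h
    have hdvd := (ReflSeven.order_dvd hc₃ hL).trans (Subgroup.card_quotient_dvd_card _)
    rw [h, Subgroup.closure_empty, Subgroup.card_bot] at hdvd
    exact absurd (Nat.le_of_dvd one_pos hdvd) (by norm_num)
  obtain ⟨⟨hfE, hfe, hef⟩, -, hfc, hcf⟩ := hf
  obtain ⟨g, hg⟩ := hT.trans f hfE e he
  have hy : g * e * g⁻¹ ∈ perp E e := by
    refine ⟨hT.conj g e he, fun h => hfe ?_, ?_⟩
    · exact conj_injective (x := g) (show g * f * g⁻¹ = g * e * g⁻¹ by rw [hg, h])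
    · have := (Commute.conj_iff g).2 hef.symm
      rwa [hg] at this
  have hw : g * c * g⁻¹ ∈ perp E e := by
    refine ⟨hT.conj g c hc, fun h => hfc ?_, ?_⟩
    · exact conj_injective (x := g) (show g * f * g⁻¹ = g * c * g⁻¹ by rw [hg, h])
    · have := (Commute.conj_iff g).2 hcf.symm
      rwa [hg] at this
  have hyw : ¬ Commute (g * e * g⁻¹) (g * c * g⁻¹) := fun h => hec ((Commute.conj_iff g).1 h)
  -- a second member with the same commuting members
  obtain ⟨g', hg'⟩ := hT.trans a ha (g * e * g⁻¹) hy.1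
  have hE : Cfsg.IsThreeTranspositionGroup E := ⟨hT.set, hT.conj, hT.gen⟩
  have hR : SameComm E (g * e * g⁻¹) (g' * b * g'⁻¹) := hg' ▸ same_conj hE g' hab
  have hny : g' * b * g'⁻¹ ≠ g * e * g⁻¹ := fun h =>
    hne (conj_injective (x := g') (show g' * a * g'⁻¹ = g' * b * g'⁻¹ by rw [hg', h]))
  have hy'E : g' * b * g'⁻¹ ∈ E := hT.conj g' b hb
  generalize g * e * g⁻¹ = y at *
  generalize g * c * g⁻¹ = w at *
  generalize g' * b * g'⁻¹ = y' at hR hny hy'E
  have hy' : y' ∈ perp E e := by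
    refine ⟨hy'E, fun h => hyw ((hR w hw.1).2 (h ▸ hw.2.2)), ?_⟩
    exact ((hR e he).1 hy.2.2.symm).symm
  have hy'w : ¬ Commute y' w := fun h => hyw ((hR w hw.1).2 h)
  have hS : ∀ x ∈ perp E e, x ∈ E := fun x hx => hx.1
  have hne1 : ∀ x (hx : x ∈ perp E e), ¬ Commute x w → bar hx ≠ 1 := fun x hx hxw h =>
    hxw ((bar_commute hT hS hx hw).1 (h ▸ Commute.one_left _))
  have hgroup : Cfsg.IsThreeTranspositionGroup (image (perp E e) \ {1}) := by
    refine ⟨⟨?_, ?_⟩, ?_, ?_⟩
    · rintro x ⟨hx, hx1⟩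
      obtain ⟨u, hu, rfl⟩ := exists_bar hx
      exact orderOf_eq_prime (by rw [pow_two, bar_sq hT hS hu]) (by simpa using hx1)
    · rintro x ⟨hx, -⟩ z ⟨hz, -⟩
      obtain ⟨u, hu, rfl⟩ := exists_bar hx
      obtain ⟨v, hv, rfl⟩ := exists_bar hz
      have key : ∀ n : ℕ, (u * v) ^ n = 1 → (bar hu * bar hv) ^ n = 1 := fun n h => by
        rw [bar, bar, ← QuotientGroup.mk_mul, ← QuotientGroup.mk_pow,
          show ((⟨u, Subgroup.subset_closure hu⟩ : Subgroup.closure (perp E e)) *
            ⟨v, Subgroup.subset_closure hv⟩) ^ n = 1 from Subtype.ext (by simpa using h), QuotientGroup.mk_one]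
      exact (hT.set.2 u hu.1 v hv.1).imp (key 2) (key 3)
    · rintro k x ⟨hx, hx1⟩
      obtain ⟨u, hu, rfl⟩ := exists_bar hx
      obtain ⟨k, rfl⟩ := QuotientGroup.mk_surjective k
      have hk : (k : G) * u * (k : G)⁻¹ ∈ perp E e :=
        ((conj_mem_perp hT he (Subgroup.closure_mono (Set.subset_insert _ _) k.2)).2 u hu).1
      refine ⟨?_, fun h => hx1 ?_⟩
      · have : bar hk ∈ image (perp E e) := bar_mem hk
        convert this using 1
        simp only [bar, ← QuotientGroup.mk_inv, ← QuotientGroup.mk_mul]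
        rfl
      · simpa using h
    · refine le_antisymm le_top ?_
      rw [← image_closure (perp E e), Subgroup.closure_le]
      intro x hx
      by_cases h : x = 1
      · rw [h]; exact one_mem _
      · exact Subgroup.subset_closure ⟨hx, h⟩
  have heq : bar hy = bar hy' := sep_m22 hgroup (isOfTypeM22_diff_one h22) _
    ⟨bar_mem hy, hne1 y hy hyw⟩ _ ⟨bar_mem hy', hne1 y' hy' hy'w⟩ fun x hx => by
      obtain ⟨u, hu, rfl⟩ := exists_bar hx.1
      rw [bar_commute hT hS hy hu, bar_commute hT hS hy' hu]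
      exact hR u hu.1
  have h' : w * (y * y') = y * y' * w := by
    have := congrArg Subtype.val (Subgroup.mem_center_iff.1 (QuotientGroup.eq.1 heq) ⟨w, Subgroup.subset_closure hw⟩)
    simpa [inv_eq hT hy.1] using this
  refine hny (eq_of_cj_eq hT hy.1 hy'E hw.1 (fun h => hyw h.symm) (fun h => hy'w h.symm) ?_).symm
  calc cj y w = y * (w * (y * y')) * y' := by
        simp only [cj_def, mul_assoc]; rw [mul_self hT hy'E, mul_one]
    _ = cj y' w := by rw [h', cj_def, ← mul_assoc, ← mul_assoc, mul_self hT hy.1, one_mul]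

end Cfsg.Lib.Fischer.Relations
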