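import Cfsg.Agent.Lib.Fischer.Relations.TwentyFour.Sep
import Cfsg.Agent.Lib.Fischer.Relations.Twenty.Order
import Cfsg.Agent.S0293

/-!
# The data of a class of type M(24)
-/

set_option autoImplicit false
set_option linter.unusedSectionVars false

namespace Cfsg.Lib.Fischer.Relations

open Cfsg Cfsg.Lib.Fischer Cfsg.Lib.Linear.Herm

variable {G : Type*} [Group G] [Finite G] {D : Set G}

/-- A class of type M(24) at one of its members, with the primitive image of the neighbourhood. -/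
structure M24Data (D : Set G) (d : G) : Prop where
  fis : IsFischer D
  prim : Cfsg.IsPrimitiveUnderConj D
  cen : Subgroup.center G = ⊥
  sep : ∀ a ∈ D, ∀ b ∈ D, (∀ e ∈ D, Commute a e ↔ Commute b e) → a = b
  mem : d ∈ D
  imgTrans : Trans (image (perp D d))
  imgPrim : Cfsg.IsPrimitiveUnderConj (image (perp D d))
  imgFis : IsFischer (image (perp D d))
  img : Cfsg.IsOfTypeM23 _ (image (perp D d))
  orth : ∃ c ∈ D, ¬ Commute d c ∧ 2 ^ 13 * 3 ^ 13 * 5 ^ 2 * 7 * 13 ∣ Nat.card ↥(Subgroup.closure (common D d c))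
  trace : TraceUnique D

theorem card_pomega_eight : Nat.card (Cfsg.POmega (ZMod 3) (Cfsg.quadFormPlus 4 (ZMod 3))) = 4952179814400 := by
  haveI : Fact (Nat.Prime 3) := ⟨Nat.prime_three⟩
  have h := Cfsg.Agent.S0293.result (F := ZMod 3) (q := 3) (ZMod.card 3) 4 le_rfl
  have hg : Nat.gcd 4 (3 ^ 4 - 1) = 4 := by norm_num
  rw [hg] at h
  norm_num [Finset.prod_range_succ] at h
  omega

theorem m24_data (hT : Trans D) (hprim : Cfsg.IsPrimitiveUnderConj D) (h24 : Cfsg.IsOfTypeM24 G D) :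
    ∃ d, M24Data D d := by
  classical
  obtain ⟨hZ, d, hd, c, hc, hdc, h23, N, hN, ⟨eN⟩, ⟨eQ⟩⟩ := h24
  haveI := hN
  replace h23 : Cfsg.IsOfTypeM23 _ (image (perp D d)) := h23
  have hset : ({y : G | y ∈ D ∧ y ≠ d ∧ Commute d y} ∩ {y : G | y ∈ D ∧ y ≠ c ∧ Commute c y}) = common D d c := by
    ext y
    exact ⟨fun h => ⟨h.1, h.2.2.2⟩, fun h => ⟨h.1, h.1.1, fun e => hdc (e ▸ h.1.2.2), h.2⟩⟩
  have hcard : 2 ^ 13 * 3 ^ 13 * 5 ^ 2 * 7 * 13 ∣ Nat.card ↥(Subgroup.closure (common D d c)) := by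
    rw [← hset]
    refine dvd_trans ?_ (Subgroup.card_quotient_dvd_card (Subgroup.center _))
    rw [Subgroup.card_eq_card_quotient_mul_card_subgroup N, Nat.card_congr eN.toEquiv, Nat.card_congr eQ.toEquiv,
      card_pomega_eight, Nat.card_perm, Nat.card_fin]
    exact ⟨1, by norm_num [Nat.factorial]⟩
  obtain ⟨hZE, e, he, c', hc', hec, h22, -⟩ := id h23
  replace h22 : Cfsg.IsOfTypeM22 _ (image (perp (image (perp D d)) e)) := h22
  obtain ⟨-, e₂, he₂, -, -, -, ⟨F, _, _, hF, ⟨iso⟩⟩, -⟩ := id h22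
  have hF' : Fintype.card F = 2 ^ 2 := hF
  obtain ⟨f, hf, -⟩ := exists_bar he₂
  obtain ⟨a, ha, rfl⟩ := exists_bar he
  obtain ⟨b, hb, rfl⟩ := exists_bar hf.1
  have hw : ∃ x ∈ D, ∃ y ∈ D, x ≠ y ∧ Commute x y := ⟨d, hd, a, ha.1, Ne.symm ha.2.1, ha.2.2⟩
  have hFD := isFischer_of_primitive hT hprim hw hZ
  have hsep := sep_of_core hT hprim.2.1 (core_le_center_of_primitive hT hprim hw).1
  have hw' : ∃ x ∈ perp D d, ∃ y ∈ perp D d, x ≠ y ∧ Commute x y :=
    ⟨a, ha, b, hb, fun e => hf.2.1 (by subst e; rfl), (bar_commute hT (fun _ h => h.1) ha hb).1 hf.2.2⟩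
  have hTI := trans_image hFD hsep hd ⟨a, ha⟩
  have hsepE := sep_m23 hTI h23
  have h3 : Cfsg.pCore 3 ↥(Subgroup.closure (perp D d)) ≤ Subgroup.center ↥(Subgroup.closure (perp D d)) := by
    haveI : Fact (Nat.Prime 3) := ⟨Nat.prime_three⟩
    by_contra h
    obtain ⟨iso5⟩ := Cfsg.Agent.S1615.result hFD.sol hFD.perf
      (⟨hT.set, ⟨d, hd, Set.ext fun x => ⟨fun hx => isConj_iff.2 (hT.trans d hd x hx),
        fun hx => by obtain ⟨g, rfl⟩ := isConj_iff.1 hx; exact hT.conj g d hd⟩⟩, hT.gen⟩ :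
        Cfsg.IsThreeTranspositionClass D) d hd fun hodd => h
        ((Lib.ZStar.le_oddCore inferInstance (by
          obtain ⟨k, hk⟩ := (Lib.Core.pCore_isPGroup 3 ↥(Subgroup.closure (perp D d))).exists_card_eq
          rw [hk]
          exact Odd.pow (by decide))).trans hodd)
    have hG : Nat.card G = 120 := by
      rw [Nat.card_congr iso5.toEquiv, Nat.card_perm, Nat.card_fin]; rfl
    have hdvd : Nat.card (Cfsg.PSU 6 F 2) ∣ Nat.card G :=
      (Nat.card_congr iso.toEquiv ▸ Subgroup.card_quotient_dvd_card _).trans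
        ((Subgroup.card_subgroup_dvd_card _).trans ((Subgroup.card_quotient_dvd_card _).trans
          ((Subgroup.card_subgroup_dvd_card _).trans ((Subgroup.card_quotient_dvd_card _).trans
            (Subgroup.card_subgroup_dvd_card _)))))
    rw [card_psu_six hF', hG] at hdvd
    exact absurd (Nat.le_of_dvd (by norm_num) hdvd) (by norm_num)
  have h5 : 5 ∣ Nat.card ↥(Subgroup.closure (common D d c)) := (by norm_num : (5 : ℕ) ∣ _).trans hcard
  obtain ⟨hTI', hPI, hFI⟩ := primitive_image hFD hsep hd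
    (fun x hx y hy hxy => exists_common_perp hFD hd hc hdc h5 hd hx hy hxy) hZE hsepE hw' h3
  obtain ⟨e', K⟩ := m23_data hTI' hPI h23 fun c hc Q hQ =>
    Dvd.dvd.trans (by norm_num) (ReflSeven.quot_dvd Q hQ hc)
  exact ⟨d, ⟨hFD, hprim, hZ, hsep, hd, hTI', hPI, hFI, h23, ⟨c, hc, hdc, hcard⟩, K.trace.lift hFD hsep hd⟩⟩

end Cfsg.Lib.Fischer.Relations
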