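import Cfsg.Agent.Lib.Fischer.Relations.TwentyFour.PairDerived
import Cfsg.Agent.S0815

/-!
# The derived group at a product of three commuting members

The centralizer of the triangle there is quasisimple over PSU(6, 2) with centre the even part of the triangle,
is the generalized Fitting subgroup of the centralizer of the product, and that centralizer induces all
permutations of the triangle and the full automorphism group of PSU(6, 2).
-/

set_option autoImplicit false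
set_option linter.unusedSectionVars false

namespace Cfsg.Lib.Fischer.Relations

open Cfsg Cfsg.Lib.Fischer Cfsg.Lib.Linear.Herm
open scoped commutatorElement

universe u

variable {G : Type u} [Group G] [Finite G] {D : Set G}

theorem Triad.symm12 {a b c : G} (ha : a ∈ D) (h : Triad D a b c) : Triad D b a c :=
  ⟨⟨ha, h.dy.2.1.symm, h.dy.2.2.symm⟩, h.yz, h.dz⟩

theorem Triad.symm23 {a b c : G} (h : Triad D a b c) : Triad D a c b :=
  ⟨h.dz, h.dy, ⟨h.dy.1, h.yz.2.1.symm, h.yz.2.2.symm⟩⟩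

namespace M24Data

variable {d : G} (K : M24Data D d)
include K

/-- An element centralizing two products of a member of a triangle with the others fixes the triangle. -/
theorem tri_fix {a b c g : G} (ha : a ∈ D) (h : Triad D a b c) (h1 : Commute g (a * b)) (h2 : Commute g (a * c)) :
    Commute g a ∧ Commute g b ∧ Commute g c := by
  rcases K.pair_cases ha h.dy h1 with ⟨e1, e2⟩ | ⟨e1, e2⟩ <;>
    rcases K.pair_cases ha h.dz h2 with ⟨f1, f2⟩ | ⟨f1, f2⟩
  · exact ⟨e1, e2, f2⟩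
  · rw [e1.eq, mul_inv_cancel_right] at f1; exact absurd f1 h.dz.2.1.symm
  · rw [f1.eq, mul_inv_cancel_right] at e1; exact absurd e1 h.dy.2.1.symm
  · exact absurd (f1.symm.trans e1) h.yz.2.1

/-- An element centralizing the product of a triangle permutes it. -/
theorem tri_perm {a b c g : G} (ha : a ∈ D) (h : Triad D a b c) (hg : Commute g (a * b * c)) :
    ∀ x ∈ [a, b, c], g * x * g⁻¹ ∈ [a, b, c] := by
  have hD := K.trans
  have hnd : [a, b, c].Nodup := by simp [h.dy.2.1.symm, h.dz.2.1.symm, h.yz.2.1.symm]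
  have hl : ∀ x ∈ [a, b, c], x ∈ D := by simp [ha, h.dy.1, h.dz.1]
  have hc : ∀ x ∈ [a, b, c], ∀ y ∈ [a, b, c], Commute x y := by
    intro x hx y hy
    simp only [List.mem_cons, List.not_mem_nil, or_false] at hx hy
    rcases hx with rfl | rfl | rfl <;> rcases hy with rfl | rfl | rfl
    exacts [Commute.refl _, h.dy.2.2, h.dz.2.2, h.dy.2.2.symm, Commute.refl _, h.yz.2.2, h.dz.2.2.symm,
      h.yz.2.2.symm, Commute.refl _]
  have hiff := mem_iff_of_prod_eq hD K.noRel (l := [a, b, c].map fun x => g * x * g⁻¹) (l' := [a, b, c])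
    (hnd.map conj_injective) hnd
    (fun x hx => by
      obtain ⟨y, hy, rfl⟩ := List.mem_map.1 hx
      exact hD.conj g y (hl y hy))
    hl
    (fun x hx y hy => by
      obtain ⟨u, hu, rfl⟩ := List.mem_map.1 hx
      obtain ⟨v, hv, rfl⟩ := List.mem_map.1 hy
      exact (Commute.conj_iff g).2 (hc u hu v hv))
    hc (by simp) (by simp)
    (by
      rw [conj_list_prod]
      simp only [List.prod_cons, List.prod_nil, mul_one, ← mul_assoc]
      rw [show g * a * b * c = g * (a * b * c) by group, hg.eq, mul_inv_cancel_right])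
  exact fun x hx => (hiff _).1 (List.mem_map_of_mem hx)

/-- The centralizer of every triangle maps onto PSU(6, 2). -/
theorem exists_tri_proj_at {a b c : G} (ha : a ∈ D) (h : Triad D a b c) :
    ∃ (F : Type) (_ : Field F) (_ : Fintype F), Fintype.card F = 4 ∧
      ∃ π : ↥(Subgroup.centralizer ({a, b, c} : Set G)) →* Cfsg.PSU 6 F 2, Function.Surjective π ∧
        ∀ g, π g = 1 → (g : G) ∈ Subgroup.closure ({a, b, c} : Set G) := by
  obtain ⟨y, z, h₀, F, i1, i2, hF, π, hπs, hπk, -⟩ := K.exists_tri_proj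
  obtain ⟨g, ga, gb, gc⟩ := K.tri_transitive h ha h₀ K.mem
  have himg : (fun u => g * u * g⁻¹) '' ({a, b, c} : Set G) = {d, y, z} := by
    rw [Set.image_insert_eq, Set.image_insert_eq, Set.image_singleton, ga, gb, gc]
  have hmap : (Subgroup.centralizer ({a, b, c} : Set G)).map (MulAut.conj g).toMonoidHom =
      Subgroup.centralizer ({d, y, z} : Set G) := by
    rw [centralizer_map, himg]
  obtain ⟨θ, hθ⟩ : ∃ θ : ↥(Subgroup.centralizer ({a, b, c} : Set G)) ≃* ↥(Subgroup.centralizer ({d, y, z} : Set G)),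
      ∀ u, (θ u : G) = g * u * g⁻¹ :=
    ⟨((MulAut.conj g).subgroupMap _).trans (MulEquiv.subgroupCongr hmap), fun u => rfl⟩
  refine ⟨F, i1, i2, hF, π.comp θ.toMonoidHom, hπs.comp θ.surjective, fun u hu => ?_⟩
  have h' := hπk (θ u) hu
  rw [hθ, ← himg] at h'
  have h'' : (MulAut.conj g).toMonoidHom (u : G) ∈
      (Subgroup.closure ({a, b, c} : Set G)).map (MulAut.conj g).toMonoidHom := by
    rw [MonoidHom.map_closure]
    exact h'
  obtain ⟨w, hw, e⟩ := h''
  have e' : (MulAut.conj g) w = (MulAut.conj g) (u : G) := e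
  exact (MulAut.conj g).injective e' ▸ hw

/-- The product of two vertices of a triangle is a commutator product in its centralizer. -/
theorem tri_prod_mem {a b c : G} (ha : a ∈ D) (h : Triad D a b c) :
    a * b ∈ ⁅Subgroup.centralizer ({a, b, c} : Set G), Subgroup.centralizer ({a, b, c} : Set G)⁆ := by
  have hD := K.trans
  obtain ⟨χ, hχ, -⟩ := K.exists_global
  obtain ⟨l, hlen, hl, hp⟩ := K.six_at ha h
  obtain ⟨C, hC⟩ : ∃ C, C = Subgroup.centralizer ({a, b, c} : Set G) := ⟨_, rfl⟩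
  rw [← hC]
  have hmem : ∀ g, Commute g a → Commute g b → Commute g c → g ∈ C := fun g h1 h2 h3 => by
    rw [hC, Subgroup.mem_centralizer_iff]
    rintro x (e | e | e) <;> rw [e]
    exacts [h1.eq.symm, h2.eq.symm, h3.eq.symm]
  have hpair : ∀ u ∈ oth D a b c, ∀ v ∈ oth D a b c, v * u ∈ ⁅C, C⁆ := fun u hu v hv => by
    obtain ⟨k, k1, k2, k3, rfl⟩ := K.oth_transitive ha h hu hv
    rw [show k * u * k⁻¹ * u = ⁅k, u⁆ by rw [commutatorElement_def, inv_eq hD hu.1.1]]
    exact Subgroup.commutator_mem_commutator (hmem k k1 k2 k3)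
      (hmem u hu.1.2.2.symm hu.2.1.2.2.symm hu.2.2.2.2.symm)
  rcases l with _ | ⟨u₁, _ | ⟨u₂, _ | ⟨u₃, _ | ⟨u₄, _ | ⟨u₅, _ | ⟨u₆, _ | ⟨_, _⟩⟩⟩⟩⟩⟩⟩ <;>
    simp only [List.length_cons, List.length_nil] at hlen <;> try omega
  simp only [List.mem_cons, List.not_mem_nil, or_false, forall_eq_or_imp, forall_eq] at hl
  obtain ⟨o1, o2, o3, o4, o5, o6⟩ := hl
  have hprod : [u₁, u₂, u₃, u₄, u₅, u₆].prod ∈ ⁅C, C⁆ := by
    have := mul_mem (mul_mem (hpair _ o2 _ o1) (hpair _ o4 _ o3)) (hpair _ o6 _ o5)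
    simpa [mul_assoc] using this
  rcases hp with e | e
  · exfalso
    have := congrArg χ e
    simp only [List.prod_cons, List.prod_nil, mul_one, map_mul, hχ _ o1.1.1, hχ _ o2.1.1, hχ _ o3.1.1, hχ _ o4.1.1,
      hχ _ o5.1.1, hχ _ o6.1.1, hχ _ h.dy.1] at this
    exact absurd this (by decide)
  · rwa [e, ← h.dy.2.2.eq] at hprod

set_option maxHeartbeats 800000 in
/-- The derived group at a product of three commuting members. -/
theorem tri_derived {a b c : G} (ha : a ∈ D) (h : Triad D a b c) {E CL Kp : Subgroup G}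
    (hE : E = Subgroup.closure ({a * b, a * c} : Set G))
    (hCL : CL = commutator G ⊓ Subgroup.centralizer ({a * b * c} : Set G))
    (hKp : Kp = (Cfsg.generalizedFittingSubgroup ↥CL).map CL.subtype) :
    Cfsg.IsQuasisimple ↥Kp ∧ (Subgroup.center ↥Kp).map Kp.subtype = E ∧
      Kp = commutator G ⊓ Subgroup.centralizer (E : Set G) ∧
      (∃ (_ : (E.subgroupOf Kp).Normal) (F : Type) (_ : Field F) (_ : Fintype F), Fintype.card F = 4 ∧
        Nonempty (↥Kp ⧸ E.subgroupOf Kp ≃* Cfsg.PSU 6 F 2)) ∧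
      ∃ _ : (Kp.subgroupOf CL).Normal, Nonempty (↥CL ⧸ Kp.subgroupOf CL ≃* Equiv.Perm (Fin 3)) ∧ E ≤ CL ∧
        ∃ (_ : (E.subgroupOf CL).Normal) (F : Type) (_ : Field F) (_ : Fintype F), Fintype.card F = 4 ∧
          Nonempty (↥CL ⧸ E.subgroupOf CL ≃* MulAut (Cfsg.PSU 6 F 2)) := by
  classical
  have hD := K.trans
  have hb := h.dy
  have hc := h.dz
  have hbc := h.yz
  obtain ⟨χ, hχ, hker⟩ := K.exists_global
  obtain ⟨F, i1, i2, hF, π, hπs, hπk⟩ := K.exists_tri_proj_at ha h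
  obtain ⟨hQperf, hQcen⟩ := psu_six_perfect hF
  obtain ⟨C, hC⟩ : ∃ C, C = Subgroup.centralizer ({a, b, c} : Set G) := ⟨_, rfl⟩
  have hCm : ∀ g, g ∈ C ↔ Commute g a ∧ Commute g b ∧ Commute g c := fun g => by
    rw [hC, Subgroup.mem_centralizer_iff]
    refine ⟨fun k => ⟨(k a (by simp)).symm, (k b (by simp)).symm, (k c (by simp)).symm⟩, ?_⟩
    rintro ⟨h1, h2, h3⟩ x (e | e | e) <;> rw [e]
    exacts [h1.eq.symm, h2.eq.symm, h3.eq.symm]
  have haC : a ∈ C := (hCm a).2 ⟨Commute.refl _, hb.2.2, hc.2.2⟩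
  have hbC : b ∈ C := (hCm b).2 ⟨hb.2.2.symm, Commute.refl _, hbc.2.2⟩
  have hcC : c ∈ C := (hCm c).2 ⟨hc.2.2.symm, hbc.2.2.symm, Commute.refl _⟩
  have hχab : χ (a * b) = 1 := by rw [map_mul, hχ a ha, hχ b hb.1]; rfl
  have hχac : χ (a * c) = 1 := by rw [map_mul, hχ a ha, hχ c hc.1]; rfl
  -- the even part
  have hEC : E ≤ C ⊓ χ.ker := by
    rw [hE, Subgroup.closure_le]
    rintro x (e | e) <;> rw [e]
    exacts [⟨mul_mem haC hbC, hχab⟩, ⟨mul_mem haC hcC, hχac⟩]
  have hEcen : ∀ e ∈ E, ∀ g ∈ C, Commute e g := by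
    intro e he g hg
    rw [hE] at he
    obtain ⟨h1, h2, h3⟩ := (hCm g).1 hg
    induction he using Subgroup.closure_induction with
    | mem x hx =>
      rcases hx with e | e <;> rw [e]
      exacts [(h1.mul_right h2).symm, (h1.mul_right h3).symm]
    | one => exact Commute.one_left g
    | mul x y _ _ hx hy => exact hx.mul_left hy
    | inv x _ hx => exact hx.inv_left
  have habE : a * b ∈ E := hE ▸ Subgroup.subset_closure (Or.inl rfl)
  have hacE : a * c ∈ E := hE ▸ Subgroup.subset_closure (Or.inr rfl)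
  have hclos : ∀ g ∈ Subgroup.closure ({a, b, c} : Set G), Commute a g ∧ (g ∈ E ∨ g * a ∈ E) := by
    intro g hg
    induction hg using Subgroup.closure_induction with
    | mem x hx =>
      rcases hx with e | e | e <;> rw [e]
      · exact ⟨Commute.refl _, Or.inr (by rw [mul_self hD ha]; exact one_mem _)⟩
      · exact ⟨hb.2.2, Or.inr (by rw [← hb.2.2.eq]; exact habE)⟩
      · exact ⟨hc.2.2, Or.inr (by rw [← hc.2.2.eq]; exact hacE)⟩
    | one => exact ⟨Commute.one_right a, Or.inl (one_mem _)⟩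
    | mul x y _ _ ix iy =>
      refine ⟨ix.1.mul_right iy.1, ?_⟩
      rcases ix.2 with hx | hx <;> rcases iy.2 with hy | hy
      · exact Or.inl (mul_mem hx hy)
      · exact Or.inr (by rw [mul_assoc]; exact mul_mem hx hy)
      · refine Or.inr ?_
        rw [mul_assoc, ← iy.1.eq, ← mul_assoc]
        exact mul_mem hx hy
      · refine Or.inl ?_
        have := mul_mem hx hy
        rwa [mul_assoc x a, ← mul_assoc a y, iy.1.eq, mul_assoc y a, mul_self hD ha, mul_one] at this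
    | inv x _ ix =>
      refine ⟨ix.1.inv_right, ix.2.imp inv_mem fun hx => ?_⟩
      have := inv_mem hx
      rwa [mul_inv_rev, inv_eq hD ha, ix.1.inv_right.eq] at this
  have hkerE : ∀ g : ↥(Subgroup.centralizer ({a, b, c} : Set G)), π g = 1 → χ g = 1 → (g : G) ∈ E := by
    intro g hg hg1
    rcases (hclos _ (hπk g hg)).2 with e | e
    · exact e
    · exfalso
      have h1 : χ ((g : G) * a) = 1 := (hEC e).2
      rw [map_mul, hg1, hχ a ha] at h1
      exact absurd h1 (by decide)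
  subst hC
  have hπE : ∀ g : ↥(Subgroup.centralizer ({a, b, c} : Set G)), (g : G) ∈ E → π g = 1 := fun g hg => by
    have : π g ∈ Subgroup.center (Cfsg.PSU 6 F 2) := Subgroup.mem_center_iff.2 fun q => by
      obtain ⟨k, rfl⟩ := hπs q
      exact ((show Commute g k from Subtype.ext (hEcen _ hg k k.2).eq).map π).symm
    rwa [hQcen, Subgroup.mem_bot] at this
  -- the group
  obtain ⟨K₀, hK₀⟩ : ∃ K₀ : Subgroup G, K₀ = Subgroup.centralizer ({a, b, c} : Set G) ⊓ χ.ker := ⟨_, rfl⟩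
  have hKm : ∀ g, g ∈ K₀ ↔ g ∈ Subgroup.centralizer ({a, b, c} : Set G) ∧ χ g = 1 := fun g => by
    rw [hK₀, Subgroup.mem_inf, MonoidHom.mem_ker]
  have hLE : K₀ = commutator G ⊓ Subgroup.centralizer (E : Set G) := by
    ext g
    rw [hKm, Subgroup.mem_inf, hker, Subgroup.mem_centralizer_iff]
    refine ⟨fun hg => ⟨hg.2, fun e he => (hEcen e he g hg.1).eq⟩, fun hg => ⟨(hCm g).2 ?_, hg.1⟩⟩
    exact K.tri_fix ha h (Commute.symm (hg.2 _ habE)) (Commute.symm (hg.2 _ hacE))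
  have hEK : E ≤ K₀ := hK₀ ▸ hEC
  have hor : ∀ g ∈ Subgroup.centralizer ({a, b, c} : Set G), g ∈ K₀ ∨ g * a ∈ K₀ := fun g hg => by
    rcases Int.units_eq_one_or (χ g) with k | k
    · exact Or.inl ((hKm g).2 ⟨hg, k⟩)
    · exact Or.inr ((hKm _).2 ⟨mul_mem hg haC, by rw [map_mul, k, hχ a ha]; rfl⟩)
  have hπa : π ⟨a, haC⟩ = 1 := by
    have : π ⟨a, haC⟩ ∈ Subgroup.center (Cfsg.PSU 6 F 2) := Subgroup.mem_center_iff.2 fun q => by
      obtain ⟨k, rfl⟩ := hπs q
      exact (show Commute k ⟨a, haC⟩ from Subtype.ext ((hCm _).1 k.2).1.eq).map π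
    rwa [hQcen, Subgroup.mem_bot] at this
  obtain ⟨π₀, hπ₀⟩ : ∃ π₀ : ↥K₀ →* Cfsg.PSU 6 F 2,
      π₀ = π.comp (Subgroup.inclusion fun g hg => ((hKm g).1 hg).1) := ⟨_, rfl⟩
  have hπ₀s : Function.Surjective π₀ := fun q => by
    obtain ⟨⟨g, hg⟩, rfl⟩ := hπs q
    rcases hor g hg with k | k
    · exact ⟨⟨g, k⟩, by rw [hπ₀]; rfl⟩
    · refine ⟨⟨g * a, k⟩, ?_⟩
      rw [hπ₀]
      show π (⟨g, hg⟩ * ⟨a, haC⟩) = _
      rw [map_mul, hπa, mul_one]
  have hπ₀k : ∀ g : ↥K₀, π₀ g = 1 ↔ (g : G) ∈ E := fun g => by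
    obtain ⟨hgC, hg1⟩ := (hKm g).1 g.2
    rw [hπ₀]
    exact ⟨fun k => hkerE ⟨g, hgC⟩ k hg1, fun k => hπE ⟨g, hgC⟩ k⟩
  have hcenE : ∀ g : ↥K₀, g ∈ Subgroup.center ↥K₀ ↔ (g : G) ∈ E := fun g => by
    constructor
    · intro hg
      rw [← hπ₀k]
      have : π₀ g ∈ Subgroup.center (Cfsg.PSU 6 F 2) := Subgroup.mem_center_iff.2 fun q => by
        obtain ⟨k, rfl⟩ := hπ₀s q
        rw [← map_mul, ← map_mul, Subgroup.mem_center_iff.1 hg k]
      rwa [hQcen, Subgroup.mem_bot] at this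
    · intro hg
      rw [Subgroup.mem_center_iff]
      exact fun k => Subtype.ext (hEcen _ hg k ((hKm k).1 k.2).1).eq.symm
  have hcen : Subgroup.center ↥K₀ = π₀.ker := by
    ext g
    rw [hcenE, MonoidHom.mem_ker, hπ₀k]
  -- perfect
  have hperf : ⁅K₀, K₀⁆ = K₀ := by
    refine le_antisymm (Subgroup.commutator_le.2 fun g hg k hk => by
      rw [commutatorElement_def]; exact mul_mem (mul_mem (mul_mem hg hk) (inv_mem hg)) (inv_mem hk)) fun g hg => ?_
    have hle' : ⁅Subgroup.centralizer ({a, b, c} : Set G), Subgroup.centralizer ({a, b, c} : Set G)⁆ ≤ ⁅K₀, K₀⁆ := by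
      rw [Subgroup.commutator_le]
      intro g hg k hk
      have hcent : ∀ {u}, u ∈ Subgroup.centralizer ({a, b, c} : Set G) → Commute a u := fun hu =>
        ((hCm _).1 hu).1.symm
      have e1 : ∀ {g k : G}, Commute a k → ⁅g * a, k⁆ = ⁅g, k⁆ := fun {g k} q => by
        rw [commutatorElement_def, commutatorElement_def, mul_inv_rev, mul_assoc g a, q.eq]; group
      have e2 : ∀ {g k : G}, Commute a g → ⁅g, k * a⁆ = ⁅g, k⁆ := fun {g k} q => by
        rw [← commutatorElement_inv, e1 q, commutatorElement_inv]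
      rcases hor g hg with h1 | h1 <;> rcases hor k hk with h2 | h2
      · exact Subgroup.commutator_mem_commutator h1 h2
      · rw [← e2 (hcent hg) (k := k)]; exact Subgroup.commutator_mem_commutator h1 h2
      · rw [← e1 (hcent hk) (g := g)]; exact Subgroup.commutator_mem_commutator h1 h2
      · rw [← e1 (hcent hk) (g := g), ← e2 (hcent (mul_mem hg haC)) (k := k)]
        exact Subgroup.commutator_mem_commutator h1 h2
    have hEder : E ≤ ⁅K₀, K₀⁆ := by
      rw [hE, Subgroup.closure_le]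
      rintro x (e | e) <;> rw [e]
      · exact hle' (K.tri_prod_mem ha h)
      · refine hle' ?_
        rw [show ({a, b, c} : Set G) = {a, c, b} by rw [Set.pair_comm b c]]
        exact K.tri_prod_mem ha h.symm23
    have hmap : (⁅(⊤ : Subgroup ↥K₀), (⊤ : Subgroup ↥K₀)⁆).map π₀ = ⊤ := by
      rw [Subgroup.map_commutator, Subgroup.map_top_of_surjective _ hπ₀s, hQperf]
    have hsub : (⁅(⊤ : Subgroup ↥K₀), (⊤ : Subgroup ↥K₀)⁆).map K₀.subtype = ⁅K₀, K₀⁆ := by
      rw [Subgroup.map_commutator, ← MonoidHom.range_eq_map, Subgroup.range_subtype]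
    obtain ⟨k, hk, hke⟩ : π₀ ⟨g, hg⟩ ∈ (⁅(⊤ : Subgroup ↥K₀), (⊤ : Subgroup ↥K₀)⁆).map π₀ := hmap ▸ Subgroup.mem_top _
    have hk' : (k : G) ∈ ⁅K₀, K₀⁆ := hsub ▸ ⟨k, hk, rfl⟩
    have h1 : ((k⁻¹ * ⟨g, hg⟩ : ↥K₀) : G) ∈ E := (hπ₀k _).1 (by rw [map_mul, map_inv, hke, inv_mul_cancel])
    have := mul_mem hk' (hEder h1)
    simpa using this
  have hperf' : Group.IsPerfect ↥K₀ := Subgroup.isPerfect_iff.2 hperf
  obtain ⟨eQ⟩ : Nonempty (↥K₀ ⧸ Subgroup.center ↥K₀ ≃* Cfsg.PSU 6 F 2) :=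
    ⟨(QuotientGroup.quotientMulEquivOfEq hcen).trans (QuotientGroup.quotientKerEquivOfSurjective π₀ hπ₀s)⟩
  have hF' : Fintype.card F = 2 ^ 2 := hF
  haveI := psu_simple (F := F) (q := 2) hF' (n := 6) (by norm_num)
  haveI : Nontrivial (↥K₀ ⧸ Subgroup.center ↥K₀) := eQ.toEquiv.nontrivial
  have hqs : Cfsg.IsQuasisimple ↥K₀ := ⟨hperf',
    IsSimpleGroup.isSimpleGroup_of_surjective eQ.symm.toMonoidHom eQ.symm.surjective⟩
  -- the centralizer of the product
  obtain ⟨z, hz⟩ : ∃ z, z = a * b * c := ⟨_, rfl⟩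
  have hCLm : ∀ g, g ∈ CL ↔ Commute g z ∧ χ g = 1 := fun g => by
    rw [hCL, Subgroup.mem_inf, hker, Subgroup.mem_centralizer_singleton_iff, hz]; exact and_comm
  have hle : K₀ ≤ CL := fun g hg => by
    obtain ⟨hgC, hg1⟩ := (hKm g).1 hg
    obtain ⟨h1, h2, h3⟩ := (hCm g).1 hgC
    exact (hCLm g).2 ⟨hz ▸ (h1.mul_right h2).mul_right h3, hg1⟩
  obtain ⟨f, hf⟩ : ∃ f : Fin 3 → G, f = ![a, b, c] := ⟨_, rfl⟩
  have hfinj : Function.Injective f := by
    intro i j e
    rw [hf] at e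
    fin_cases i <;> fin_cases j <;>
      simp_all [hb.2.1.symm, hc.2.1.symm, hbc.2.1.symm, hb.2.1, hc.2.1, hbc.2.1]
  have hfmem : ∀ x ∈ [a, b, c], ∃ i, f i = x := by
    intro x hx
    simp only [List.mem_cons, List.not_mem_nil, or_false] at hx
    rcases hx with e | e | e <;> rw [e, hf]
    exacts [⟨0, rfl⟩, ⟨1, rfl⟩, ⟨2, rfl⟩]
  have hperm : ∀ g : ↥CL, ∀ i, ∃ j, f j = (g : G) * f i * (g : G)⁻¹ := fun g i => by
    refine hfmem _ (K.tri_perm ha h (hz ▸ ((hCLm g).1 g.2).1) _ ?_)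
    rw [hf]
    fin_cases i <;> simp
  choose σ hσ using hperm
  have hσinj : ∀ g, Function.Injective (σ g) := fun g i j e => by
    have := congrArg f e
    rw [hσ, hσ] at this
    exact hfinj (conj_injective (x := (g : G)) this)
  obtain ⟨φ, hφ⟩ : ∃ φ : ↥CL →* Equiv.Perm (Fin 3), ∀ g i, f (φ g i) = (g : G) * f i * (g : G)⁻¹ := by
    refine ⟨MonoidHom.mk' (fun g => Equiv.ofBijective (σ g) (Finite.injective_iff_bijective.1 (hσinj g)))
      fun g k => Equiv.ext fun i => hfinj ?_, fun g i => hσ g i⟩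
    show f (σ (g * k) i) = f (σ g (σ k i))
    rw [hσ, hσ, hσ, Subgroup.coe_mul]
    group
  have hφker : φ.ker = K₀.subgroupOf CL := by
    ext g
    rw [MonoidHom.mem_ker, Subgroup.mem_subgroupOf, hKm]
    constructor
    · intro e
      refine ⟨(hCm _).2 ?_, ((hCLm g).1 g.2).2⟩
      have key : ∀ i, Commute (g : G) (f i) := fun i => by
        have := hφ g i
        rw [e, Equiv.Perm.one_apply] at this
        exact mul_inv_eq_iff_eq_mul.1 this.symm
      rw [hf] at key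
      exact ⟨key 0, key 1, key 2⟩
    · rintro ⟨hg, -⟩
      refine Equiv.ext fun i => hfinj ?_
      obtain ⟨h1, h2, h3⟩ := (hCm _).1 hg
      have key : Commute (g : G) (f i) := by
        rw [hf]
        fin_cases i
        exacts [h1, h2, h3]
      rw [hφ, Equiv.Perm.one_apply, key.eq, mul_inv_cancel_right]
  have hfperp : ∀ i j, i ≠ j → f j ∈ perp D (f i) := by
    intro i j hij
    rw [hf]
    fin_cases i <;> fin_cases j <;> first
      | exact absurd rfl hij
      | exact hb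
      | exact hc
      | exact hbc
      | exact ⟨ha, hb.2.1.symm, hb.2.2.symm⟩
      | exact ⟨ha, hc.2.1.symm, hc.2.2.symm⟩
      | exact ⟨hb.1, hbc.2.1.symm, hbc.2.2.symm⟩
  have hφs : Function.Surjective φ := by
    intro p
    have hp0 : f (p 0) ∈ D := by
      rcases Decidable.em (p 0 = 0) with e | e
      · rw [e, hf]; exact ha
      · exact (hfperp _ _ (Ne.symm e)).1
    obtain ⟨g, g1, g2, g3⟩ := K.tri_transitive (d₁ := a) (y₁ := b) (z₁ := c) h ha
      (d₂ := f (p 0)) (y₂ := f (p 1)) (z₂ := f (p 2))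
      ⟨hfperp _ _ (by simp), hfperp _ _ (by simp), hfperp _ _ (by simp)⟩ hp0
    have hgf : ∀ i, g * f i * g⁻¹ = f (p i) := by
      intro i
      fin_cases i <;> rw [hf] <;> simp only [hf] at g1 g2 g3 <;> first | exact g1 | exact g2 | exact g3
    have hgz : Commute g z := by
      refine mul_inv_eq_iff_eq_mul.1 ?_
      have e1 : (List.ofFn f).prod = z := by
        rw [hf, hz]
        simp [List.ofFn_succ, mul_assoc]
      have e2 : g * (List.ofFn f).prod * g⁻¹ = (List.ofFn (f ∘ p)).prod := by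
        rw [← conj_list_prod, List.map_ofFn]
        exact congrArg List.prod (congrArg List.ofFn (funext hgf))
      have e3 : (List.ofFn (f ∘ p)).prod = (List.ofFn f).prod := by
        refine (Equiv.Perm.ofFn_comp_perm p f).prod_eq' ?_
        refine List.pairwise_ofFn.2 fun i j hij => ?_
        exact (hfperp _ _ (fun e => hij.ne (p.injective e))).2.2
      rw [← e1, e2, e3]
    have haf : ∀ i, Commute a (f i) := fun i => by
      rw [hf]
      fin_cases i
      exacts [Commute.refl _, hb.2.2, hc.2.2]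
    rcases Int.units_eq_one_or (χ g) with k | k
    · refine ⟨⟨g, (hCLm g).2 ⟨hgz, k⟩⟩, Equiv.ext fun i => hfinj ?_⟩
      rw [hφ]
      exact hgf i
    · have haz : Commute a z := hz ▸ ((Commute.refl a).mul_right hb.2.2).mul_right hc.2.2
      refine ⟨⟨g * a, (hCLm _).2 ⟨hgz.mul_left haz, by rw [map_mul, k, hχ a ha]; rfl⟩⟩, Equiv.ext fun i => hfinj ?_⟩
      rw [hφ]
      show g * a * f i * (g * a)⁻¹ = _
      rw [mul_assoc g a, (haf i).eq, ← mul_assoc, mul_inv_rev, ← mul_assoc, mul_inv_cancel_right]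
      exact hgf i
  obtain ⟨K', hK'⟩ : ∃ K' : Subgroup ↥CL, K' = K₀.subgroupOf CL := ⟨_, rfl⟩
  have hidx : K'.index = 6 := by
    rw [hK', ← hφker, Subgroup.index_ker, MonoidHom.range_eq_top.2 hφs, Subgroup.card_top,
      Nat.card_eq_fintype_card, Fintype.card_perm]
    rfl
  haveI hK'n : K'.Normal := by rw [hK', ← hφker]; exact MonoidHom.normal_ker φ
  obtain ⟨eK⟩ : Nonempty (↥K' ≃* ↥K₀) := ⟨(MulEquiv.subgroupCongr hK').trans (Subgroup.subgroupOfEquivOfLe hle)⟩
  have hK'q : Cfsg.IsQuasisimple ↥K' := Lib.Core.quasisimple_congr hqs eK.symm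
  have hK'comp : Cfsg.IsComponent K' := ⟨Subgroup.Normal.isSubnormal hK'n, hK'q⟩
  -- what acts trivially
  have hcentK : ∀ g ∈ CL, (∀ k ∈ K₀, Commute g k) → g ∈ K₀ := fun g hg hcm =>
    (hKm g).2 ⟨(hCm g).2 (K.tri_fix ha h (hcm _ (hEK habE)) (hcm _ (hEK hacE))), ((hCLm g).1 hg).2⟩
  have hfix : ∀ g ∈ CL, (∀ k ∈ K₀, g * k * g⁻¹ * k⁻¹ ∈ E) → g ∈ E := by
    intro g hg hact
    have hcm : ∀ k ∈ K₀, Commute g k := by
      obtain ⟨ε, hε⟩ : ∃ ε : ↥K₀ →* ↥(Subgroup.center ↥K₀), ∀ k : ↥K₀,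
          (((ε k : ↥K₀) : G)) = g * k * g⁻¹ * (k : G)⁻¹ := by
        refine ⟨MonoidHom.mk' (fun k => ⟨⟨g * k * g⁻¹ * (k : G)⁻¹, hEK (hact k k.2)⟩, (hcenE _).2 (hact k k.2)⟩)
          fun k l => Subtype.ext (Subtype.ext ?_), fun k => rfl⟩
        show g * ↑(k * l) * g⁻¹ * (↑(k * l) : G)⁻¹ = g * k * g⁻¹ * (k : G)⁻¹ * (g * l * g⁻¹ * (l : G)⁻¹)
        obtain ⟨e, he⟩ : ∃ e, e = g * (l : G) * g⁻¹ * (l : G)⁻¹ := ⟨_, rfl⟩
        have hek : Commute e (k : G)⁻¹ := (hEcen e (he ▸ hact l l.2) k ((hKm k).1 k.2).1).inv_right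
        rw [← he, Subgroup.coe_mul, mul_assoc (g * k * g⁻¹) (k : G)⁻¹ e, ← hek.eq, he]
        group
      intro k hk
      have h1 : ⁅(⊤ : Subgroup ↥K₀), (⊤ : Subgroup ↥K₀)⁆ ≤ ε.ker := Subgroup.commutator_le.2 fun x _ y _ => by
        rw [MonoidHom.mem_ker, map_commutatorElement, commutatorElement_eq_one_iff_mul_comm]
        exact Subtype.ext (Subgroup.mem_center_iff.1 (ε y).2 (ε x))
      have h2 : (⟨k, hk⟩ : ↥K₀) ∈ ε.ker := h1 (by rw [← commutator_def, hperf'.1]; exact Subgroup.mem_top _)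
      have h3 := hε ⟨k, hk⟩
      rw [MonoidHom.mem_ker.1 h2] at h3
      have h4 : g * k * g⁻¹ * k⁻¹ = 1 := h3.symm
      exact mul_inv_eq_iff_eq_mul.1 (mul_inv_eq_one.1 h4)
    have hgK := hcentK g hg hcm
    exact (hcenE ⟨g, hgK⟩).1 (Subgroup.mem_center_iff.2 fun k => Subtype.ext (hcm k k.2).eq.symm)
  -- the generalized Fitting subgroup
  have hFit : Cfsg.generalizedFittingSubgroup ↥CL = K' := by
    have hcentK' : ∀ g : ↥CL, g ∈ Subgroup.centralizer (K' : Set ↥CL) → g ∈ K' := fun g hg => by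
      rw [Subgroup.mem_centralizer_iff] at hg
      rw [hK', Subgroup.mem_subgroupOf]
      exact hcentK g g.2 fun k hk => (congrArg Subtype.val (hg ⟨k, hle hk⟩ (hK' ▸ hk))).symm
    have hlay : Cfsg.layer ↥CL = K' := by
      refine le_antisymm (sSup_le fun M hM => ?_) (Lib.Core.le_layer hK'comp)
      by_contra hne
      have k := Lib.Core.component_commute hM hK'comp (fun e => hne e.le)
      rw [Subgroup.commutator_eq_bot_iff_le_centralizer] at k
      exact hne fun g hg => hcentK' g (k hg)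
    refine le_antisymm (sup_le hlay.le fun g hg => hcentK' g ?_) (hlay.symm.le.trans le_sup_left)
    have k := Lib.Core.commutator_layer_fitting (G := ↥CL)
    rw [hlay, Subgroup.commutator_comm, Subgroup.commutator_eq_bot_iff_le_centralizer] at k
    exact k hg
  have hKeq : Kp = K₀ := by
    rw [hKp, hFit, hK', Subgroup.map_subgroupOf_eq_of_le hle]
  -- the automorphism group
  obtain ⟨ρ, hρ⟩ : ∃ ρ : ↥CL →* MulAut (↥K' ⧸ Subgroup.center ↥K'), ∀ (g : ↥CL) (k : ↥K'),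
      ρ g (QuotientGroup.mk k) = QuotientGroup.mk (MulAut.conjNormal g k) := by
    refine ⟨(MonoidHom.mk' (fun θ : MulAut ↥K' => QuotientGroup.congr (Subgroup.center ↥K') (Subgroup.center ↥K') θ
      (pair_map_center θ)) fun θ θ' => MulEquiv.ext fun q => ?_).comp MulAut.conjNormal, fun g k => ?_⟩
    · obtain ⟨k, rfl⟩ := QuotientGroup.mk_surjective q
      rfl
    · rfl
  obtain ⟨eQ'⟩ : Nonempty (↥K' ⧸ Subgroup.center ↥K' ≃* Cfsg.PSU 6 F 2) :=
    ⟨(QuotientGroup.congr _ _ eK (pair_map_center eK)).trans eQ⟩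
  obtain ⟨ψ, hψ⟩ : ∃ ψ : ↥CL →* MulAut (Cfsg.PSU 6 F 2), ψ = (MulAut.congr eQ').toMonoidHom.comp ρ := ⟨_, rfl⟩
  have hcen' : ∀ u : ↥K', u ∈ Subgroup.center ↥K' ↔ ((u : ↥CL) : G) ∈ E := fun u => by
    have huK : ((u : ↥CL) : G) ∈ K₀ := Subgroup.mem_subgroupOf.1 (hK' ▸ u.2 : (u : ↥CL) ∈ K₀.subgroupOf CL)
    constructor
    · intro hu
      exact (hcenE ⟨_, huK⟩).1 (Subgroup.mem_center_iff.2 fun k => Subtype.ext
        (congrArg (fun t : ↥K' => ((t : ↥CL) : G)) (Subgroup.mem_center_iff.1 hu ⟨⟨k, hle k.2⟩, hK' ▸ k.2⟩)))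
    · intro hu
      rw [Subgroup.mem_center_iff]
      intro k
      have hkK : ((k : ↥CL) : G) ∈ K₀ := Subgroup.mem_subgroupOf.1 (hK' ▸ k.2 : (k : ↥CL) ∈ K₀.subgroupOf CL)
      exact Subtype.ext (Subtype.ext (hEcen _ hu _ ((hKm _).1 hkK).1).eq.symm)
  have hψk : ψ.ker = E.subgroupOf CL := by
    ext g
    rw [MonoidHom.mem_ker, Subgroup.mem_subgroupOf, hψ, MonoidHom.comp_apply, MulEquiv.coe_toMonoidHom,
      map_eq_one_iff _ (MulEquiv.injective _)]
    constructor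
    · intro k'
      refine hfix g g.2 fun k hk => ?_
      have hk' : (⟨k, hle hk⟩ : ↥CL) ∈ K' := hK' ▸ hk
      have e := hρ g ⟨_, hk'⟩
      rw [k'] at e
      have hq := (hcen' _).1 (QuotientGroup.eq.1 e.symm)
      simp only [Subgroup.coe_mul, Subgroup.coe_inv, MulAut.conjNormal_apply] at hq
      have hq' := inv_mem hq
      rw [mul_inv_rev, inv_inv] at hq'
      have hcomm := hEcen _ hq' k ((hKm k).1 hk).1
      rw [show (g : G) * k * (g : G)⁻¹ * k⁻¹ = k * (k⁻¹ * ((g : G) * k * (g : G)⁻¹)) * k⁻¹ by group,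
        ← hcomm.eq, mul_inv_cancel_right]
      exact hq'
    · intro k'
      refine MulEquiv.ext fun q => ?_
      obtain ⟨k, rfl⟩ := QuotientGroup.mk_surjective q
      rw [hρ]
      refine congrArg QuotientGroup.mk (Subtype.ext (Subtype.ext ?_))
      simp only [MulAut.conjNormal_apply, Subgroup.coe_mul, Subgroup.coe_inv]
      have hkK : ((k : ↥CL) : G) ∈ K₀ := Subgroup.mem_subgroupOf.1 (hK' ▸ k.2 : (k : ↥CL) ∈ K₀.subgroupOf CL)
      rw [(hEcen _ k' _ ((hKm _).1 hkK).1).eq, mul_inv_cancel_right]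
  have hψs : Function.Surjective ψ := by
    haveI : Finite (MulAut (Cfsg.PSU 6 F 2)) :=
      Finite.of_injective (fun t => (t : Cfsg.PSU 6 F 2 → Cfsg.PSU 6 F 2)) DFunLike.coe_injective
    haveI : Fact (Nat.Prime 2) := ⟨Nat.prime_two⟩
    rw [← MonoidHom.range_eq_top]
    refine Subgroup.eq_top_of_card_eq _ ?_
    have h1 : Nat.card ↥ψ.range * Nat.card ↥ψ.ker = Nat.card ↥CL := by
      rw [← Nat.card_congr (QuotientGroup.quotientKerEquivRange ψ).toEquiv,
        ← Subgroup.card_eq_card_quotient_mul_card_subgroup]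
    have h2 : Nat.card ↥CL = Nat.card ↥K' * 6 := by rw [← hidx, Subgroup.card_mul_index]
    have h3 : Nat.card ↥K' = Nat.card (Cfsg.PSU 6 F 2) * Nat.card ↥(Subgroup.center ↥K') := by
      rw [Subgroup.card_eq_card_quotient_mul_card_subgroup (Subgroup.center ↥K'), Nat.card_congr eQ'.toEquiv]
    have h4 : Nat.card ↥(Subgroup.center ↥K') = Nat.card ↥ψ.ker := by
      rw [hψk]
      refine Nat.card_eq_of_bijective (fun u => ⟨(u : ↥K'), Subgroup.mem_subgroupOf.2 ((hcen' _).1 u.2)⟩)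
        ⟨fun u v e => Subtype.ext (Subtype.ext (congrArg (fun t : ↥(E.subgroupOf CL) => (t : ↥CL)) e :)),
          fun v => ?_⟩
      have hv := Subgroup.mem_subgroupOf.1 v.2
      have hvK : (v : ↥CL) ∈ K' := by
        rw [hK', Subgroup.mem_subgroupOf]
        exact hEK hv
      exact ⟨⟨⟨v, hvK⟩, (hcen' _).2 hv⟩, rfl⟩
    rw [h2, h3, h4] at h1
    rw [Cfsg.Agent.S0815.result 2 1 le_rfl (q := 2) rfl hF' 6 (by norm_num) (by norm_num)]
    refine Nat.eq_of_mul_eq_mul_right (Nat.card_pos : 0 < Nat.card ↥ψ.ker) ?_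
    rw [h1, show Nat.gcd 6 (2 + 1) * (2 * 1) = 6 by decide]
    ring
  -- conclusion
  rw [hKeq]
  haveI : (K₀.subgroupOf CL).Normal := hK' ▸ hK'n
  refine ⟨hqs, ?_, hLE, ?_, hK' ▸ hK'n, ⟨(QuotientGroup.quotientMulEquivOfEq hφker.symm).trans
    (QuotientGroup.quotientKerEquivOfSurjective φ hφs)⟩, hEK.trans hle, ?_⟩
  · ext g
    rw [Subgroup.mem_map]
    exact ⟨fun ⟨u, hu, e⟩ => e ▸ (hcenE u).1 hu, fun hg => ⟨⟨g, hEK hg⟩, (hcenE _).2 hg, rfl⟩⟩
  · have hEker : E.subgroupOf K₀ = π₀.ker := by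
      ext u
      rw [Subgroup.mem_subgroupOf, MonoidHom.mem_ker, hπ₀k]
    haveI hn : (E.subgroupOf K₀).Normal := hEker ▸ MonoidHom.normal_ker π₀
    exact ⟨hn, F, i1, i2, hF, ⟨(QuotientGroup.quotientMulEquivOfEq hEker).trans
      (QuotientGroup.quotientKerEquivOfSurjective π₀ hπ₀s)⟩⟩
  · haveI hn : (E.subgroupOf CL).Normal := hψk ▸ MonoidHom.normal_ker ψ
    exact ⟨hn, F, i1, i2, hF, ⟨(QuotientGroup.quotientMulEquivOfEq hψk.symm).trans
      (QuotientGroup.quotientKerEquivOfSurjective ψ hψs)⟩⟩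

end M24Data

end Cfsg.Lib.Fischer.Relations
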