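import Cfsg.Agent.Lib.Fischer.Relations.TwentyFour.Others
import Cfsg.Agent.S2091

/-!
# The centralizer of a triangle has a sign

Modulo the triangle it is `PSU(6, 2)`, whose multiplier has two-part four; six and five further members then
force the derived group to meet the triangle group in the products of evenly many vertices.
-/

set_option autoImplicit false
set_option linter.unusedSectionVars false

namespace Cfsg.Lib.Fischer.Relations

open Cfsg Cfsg.Lib.Fischer Cfsg.Lib.Linear.Herm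
open scoped commutatorElement

universe u

variable {G : Type u} [Group G]

/-- A perfect group over `PSU(6, 2)` with central kernel of exponent two has kernel of order at most four. -/
theorem psu_six_ker_le {F : Type} [Field F] [Fintype F] (hF : Fintype.card F = 4) {X : Type u} [Group X] [Finite X]
    (σ : X →* Cfsg.PSU 6 F 2) (hs : Function.Surjective σ) (hc : σ.ker ≤ Subgroup.center X)
    (hp : σ.ker ≤ commutator X) (h2 : ∀ x ∈ σ.ker, x * x = 1) : Nat.card σ.ker ≤ 4 := by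
  haveI : Fact (Nat.Prime 2) := ⟨Nat.prime_two⟩
  obtain ⟨τ, hτ⟩ : ∃ τ : X →* ULift.{u} (Cfsg.PSU 6 F 2), τ = MulEquiv.ulift.symm.toMonoidHom.comp σ := ⟨_, rfl⟩
  have hker : τ.ker = σ.ker := by
    ext x
    simp [hτ, MonoidHom.mem_ker]
  obtain ⟨π, hπ⟩ := (Lib.Schur.hasSchur_of_equiv (H := ULift.{u} (Cfsg.PSU 6 F 2)) MulEquiv.ulift.symm (Cfsg.Agent.S2091.result hF)).2 X τ
    ⟨by rw [hτ]; exact MulEquiv.ulift.symm.surjective.comp hs, by rw [hker]; exact hc, by rw [hker]; exact hp⟩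
  have hdvd : Nat.card τ.ker ∣ 12 := by
    have h := Subgroup.card_dvd_of_surjective π hπ
    rwa [Nat.card_eq_fintype_card (α := Multiplicative (ZMod 3 × ZMod 2 × ZMod 2)),
      show Fintype.card (Multiplicative (ZMod 3 × ZMod 2 × ZMod 2)) = 12 from rfl] at h
  have h2' : IsPGroup 2 τ.ker := fun x => ⟨1, Subtype.ext (by
    rw [pow_one, pow_two]
    show (x : X) * x = 1
    exact h2 _ (hker ▸ x.2))⟩
  obtain ⟨n, hn⟩ := h2'.exists_card_eq
  rw [← hker, hn]
  rw [hn] at hdvd
  rcases n with _ | _ | _ | n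
  · norm_num
  · norm_num
  · norm_num
  · exfalso
    have h8 : 8 ∣ 12 := (Dvd.intro_left (2 ^ n) (by ring)).trans hdvd
    norm_num at h8

variable [Finite G] {D : Set G}

/-- `PSU(6, 2)` is perfect with trivial centre. -/
theorem psu_six_perfect {F : Type} [Field F] [Fintype F] (hF : Fintype.card F = 4) :
    ⁅(⊤ : Subgroup (Cfsg.PSU 6 F 2)), (⊤ : Subgroup (Cfsg.PSU 6 F 2))⁆ = ⊤ ∧ Subgroup.center (Cfsg.PSU 6 F 2) = ⊥ := by
  have hF' : Fintype.card F = 2 ^ 2 := hF
  haveI := psu_simple (F := F) (q := 2) hF' (n := 6) (by norm_num)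
  have hnc : Subgroup.center (Cfsg.PSU 6 F 2) ≠ ⊤ := by
    intro h
    haveI : Fact (Nat.Prime 2) := ⟨Nat.prime_two⟩
    obtain ⟨t, ht⟩ := exists_prime_orderOf_dvd_card' (G := Cfsg.PSU 6 F 2) 2 (by rw [card_psu_six hF']; norm_num)
    haveI : (Subgroup.zpowers t).Normal := ⟨fun a ha g => by
      have hg : g ∈ Subgroup.center (Cfsg.PSU 6 F 2) := h ▸ Subgroup.mem_top g
      rw [← Subgroup.mem_center_iff.1 hg a, mul_inv_cancel_right]
      exact ha⟩
    rcases (inferInstance : (Subgroup.zpowers t).Normal).eq_bot_or_eq_top with e | e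
    · rw [Subgroup.zpowers_eq_bot] at e
      rw [e, orderOf_one] at ht
      norm_num at ht
    · have := congrArg (fun K : Subgroup (Cfsg.PSU 6 F 2) => Nat.card K) e
      simp only [Nat.card_zpowers, Subgroup.card_top, ht, card_psu_six hF'] at this
      norm_num at this
  refine ⟨?_, (Subgroup.Normal.eq_bot_or_eq_top inferInstance).resolve_right hnc⟩
  refine (Subgroup.Normal.eq_bot_or_eq_top inferInstance).resolve_left fun h => hnc ?_
  rw [eq_top_iff]
  intro a _
  rw [Subgroup.mem_center_iff]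
  intro b
  have := Subgroup.commutator_mem_commutator (Subgroup.mem_top b) (Subgroup.mem_top a)
  rwa [h, Subgroup.mem_bot, commutatorElement_eq_one_iff_mul_comm] at this

/-- Abstract sign argument on a central extension with three marked involutions. -/
theorem signed_of_parts {K P : Subgroup G} {d y z : G} {O : Set G} (hdP : d ∉ P) (hyd : y * d ∈ P)
    (hzd : z * d ∈ P) (hPK : P ≤ K) (hd : d ∈ K) (hd2 : d * d = 1) (hdc : ∀ k ∈ K, Commute d k)
    (hgen : ∀ g ∈ K, g ∈ P ∨ g * d ∈ P) (hmem : ∀ x ∈ D, x ∈ K → x = d ∨ x = y ∨ x = z ∨ x ∈ O)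
    (hO : ∀ x ∈ O, x ∉ P) : Signed D K := by
  classical
  refine ⟨fun g => if g ∈ P then 1 else -1, ?_, ?_⟩
  · intro a ha b hb
    have e : ∀ g ∈ K, g ∉ P → g * d ∈ P := fun g hg h => (hgen g hg).resolve_left h
    by_cases hA : a ∈ P <;> by_cases hB : b ∈ P
    · simp [hA, hB, mul_mem hA hB]
    · have : a * b ∉ P := fun h => hB (by simpa using mul_mem (inv_mem hA) h)
      simp [hA, hB, this]
    · have : a * b ∉ P := fun h => hA (by simpa using mul_mem h (inv_mem hB))
      simp [hA, hB, this]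
    · have h := mul_mem (e a ha hA) (e b hb hB)
      rw [show a * d * (b * d) = a * b by
        rw [mul_assoc a d, ← mul_assoc d b, (hdc b hb).eq, mul_assoc b d, hd2, mul_one]] at h
      simp [hA, hB, h]
  · intro x hx hxK
    refine if_neg fun h => ?_
    have hd' : ∀ w, w * d ∈ P → w ∈ P → d ∈ P := fun w h1 h2 => by simpa using mul_mem (inv_mem h2) h1
    rcases hmem x hx hxK with rfl | rfl | rfl | hO'
    exacts [hdP h, hdP (hd' _ hyd h), hdP (hd' _ hzd h), hO x hO' h]

/-- Every homomorphism with value `-1` on `d` is a sign. -/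
def Rigid (D : Set G) (K : Subgroup G) (d : G) : Prop :=
  ∀ χ : G → ℤˣ, (∀ a ∈ K, ∀ b ∈ K, χ (a * b) = χ a * χ b) → χ d = -1 → IsSign D K χ

theorem Rigid.conj (hD : Trans D) {K : Subgroup G} {d : G} (h : Rigid D K d) (g : G) :
    Rigid D (K.map (MulAut.conj g).toMonoidHom) (g * d * g⁻¹) := by
  intro χ hmul hd
  have h1 := h (fun a => χ (g * a * g⁻¹)) (fun a ha b hb => by
    show χ (g * (a * b) * g⁻¹) = χ (g * a * g⁻¹) * χ (g * b * g⁻¹)
    rw [← hmul (g * a * g⁻¹) ⟨a, ha, rfl⟩ (g * b * g⁻¹) ⟨b, hb, rfl⟩]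
    congr 1
    group) hd
  refine ⟨hmul, ?_⟩
  rintro x hx ⟨a, ha, rfl⟩
  simp only [MulEquiv.coe_toMonoidHom, MulAut.conj_apply] at hx ⊢
  refine h1.member a ?_ ha
  have := hD.conj g⁻¹ _ hx
  rwa [show g⁻¹ * (g * a * g⁻¹) * g⁻¹⁻¹ = a by group] at this

/-- Commutators have value one. -/
theorem map_commutator_one {K : Subgroup G} {χ : G → ℤˣ} (hmul : ∀ a ∈ K, ∀ b ∈ K, χ (a * b) = χ a * χ b) :
    ∀ x ∈ ⁅K, K⁆, χ x = 1 := by
  intro x hx
  obtain ⟨f, hf⟩ : ∃ f : ↥K →* ℤˣ, ∀ a, f a = χ a :=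
    ⟨MonoidHom.mk' (fun a => χ a) fun a b => hmul a a.2 b b.2, fun _ => rfl⟩
  have e : (⁅(⊤ : Subgroup ↥K), (⊤ : Subgroup ↥K)⁆).map K.subtype = ⁅K, K⁆ := by
    rw [Subgroup.map_commutator, ← MonoidHom.range_eq_map, Subgroup.range_subtype]
  rw [← e] at hx
  obtain ⟨a, ha, rfl⟩ := hx
  have : a ∈ f.ker := Abelianization.commutator_subset_ker f (by rw [commutator_def]; exact ha)
  exact (hf a).symm.trans this

namespace M24Data

variable {d : G} (K : M24Data D d)
include K

set_option maxHeartbeats 800000 in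
/-- Some triangle has centralizer over `PSU(6, 2)`, transitive on the members adjacent to it. -/
theorem exists_tri_proj : ∃ y z, Triad D d y z ∧ ∃ (F : Type) (_ : Field F) (_ : Fintype F), Fintype.card F = 4 ∧
    ∃ π : ↥(Subgroup.centralizer ({d, y, z} : Set G)) →* Cfsg.PSU 6 F 2, Function.Surjective π ∧
      (∀ g, π g = 1 → (g : G) ∈ Subgroup.closure ({d, y, z} : Set G)) ∧
      ∀ a ∈ oth D d y z, ∀ b ∈ oth D d y z,
        ∃ g ∈ Subgroup.centralizer ({d, y, z} : Set G), g * a * g⁻¹ = b := by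
  classical
  have hD := K.trans
  have hsub : ∀ u ∈ perp D d, u ∈ D := fun u hu => hu.1
  obtain ⟨e₁, K'⟩ := m23_data K.imgTrans K.imgPrim K.img fun c hc Q hQ =>
    Dvd.dvd.trans (by norm_num) (ReflSeven.quot_dvd Q hQ hc)
  obtain ⟨y, hy, rfl⟩ := exists_bar K'.mem
  obtain ⟨hZ2, e₂, he₂, c₂, hc₂, hec₂, ⟨F, i1, i2, hF, ⟨iso⟩⟩, -⟩ := id K'.img
  obtain ⟨v, hv, rfl⟩ := exists_bar he₂
  obtain ⟨z, hz, rfl⟩ := exists_bar hv.1
  obtain ⟨iso'⟩ : Nonempty (↥(Subgroup.closure (perp (image (perp (image (perp D d)) (bar hy))) (bar hv))) ⧸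
      Subgroup.center ↥(Subgroup.closure (perp (image (perp (image (perp D d)) (bar hy))) (bar hv))) ≃*
        Cfsg.PSU 6 F 2) := ⟨iso⟩
  have hyz : z ∈ perp D y :=
    ⟨hz.1, fun e => hv.2.1 (by subst e; rfl), (bar_commute hD hsub hy hz).1 hv.2.2⟩
  have htri : Triad D d y z := ⟨hy, hz, hyz⟩
  refine ⟨y, z, htri, F, i1, i2, hF, ?_⟩
  obtain ⟨C, hCdef⟩ : ∃ C, C = Subgroup.centralizer ({d, y, z} : Set G) := ⟨_, rfl⟩
  rw [← hCdef]
  have hCd : ∀ g ∈ C, Commute d g ∧ Commute y g ∧ Commute z g := fun g hg => by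
    rw [hCdef, Subgroup.mem_centralizer_iff] at hg
    exact ⟨hg d (by simp), hg y (by simp), hg z (by simp)⟩
  have hmemC : ∀ x ∈ D, Commute d x → Commute y x → Commute z x → x ∈ C := fun x _ a b c => by
    rw [hCdef, Subgroup.mem_centralizer_iff]
    rintro _ (rfl | rfl | rfl)
    exacts [a.eq, b.eq, c.eq]
  have hH1 : C ≤ Subgroup.closure (perp D d) := fun g hg => by
    rw [K.centralizer_eq]; exact Subgroup.mem_centralizer_singleton_iff.2 (hCd g hg).1.eq.symm
  -- the three projections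
  obtain ⟨f₁, hf₁⟩ : ∃ f₁ : ↥C →* _, f₁ = (QuotientGroup.mk' (Subgroup.center ↥(Subgroup.closure (perp D d)))).comp
      (Subgroup.inclusion hH1) := ⟨_, rfl⟩
  have h2 : ∀ g, f₁ g ∈ Subgroup.closure (perp (image (perp D d)) (bar hy)) := fun g => by
    rw [(K.img_loc K'.mem).1, Subgroup.mem_centralizer_singleton_iff, hf₁]
    exact congrArg QuotientGroup.mk (Subtype.ext (hCd g g.2).2.1.eq.symm)
  obtain ⟨f₂, hf₂⟩ : ∃ f₂ : ↥C →* _, f₂ = (QuotientGroup.mk' (Subgroup.center
      ↥(Subgroup.closure (perp (image (perp D d)) (bar hy))))).comp (f₁.codRestrict _ h2) := ⟨_, rfl⟩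
  have h3 : ∀ g, f₂ g ∈ Subgroup.closure (perp (image (perp (image (perp D d)) (bar hy))) (bar hv)) := fun g => by
    rw [centralizer_eq_closure K'.imgTrans K'.imgPrim K'.img he₂, Subgroup.mem_centralizer_singleton_iff, hf₂]
    refine congrArg QuotientGroup.mk (Subtype.ext ?_)
    show f₁ g * bar hz = bar hz * f₁ g
    rw [hf₁]
    exact congrArg QuotientGroup.mk (Subtype.ext (hCd g g.2).2.2.eq.symm)
  obtain ⟨f₃, hf₃⟩ : ∃ f₃ : ↥C →* _, f₃ = (QuotientGroup.mk' (Subgroup.center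
      ↥(Subgroup.closure (perp (image (perp (image (perp D d)) (bar hy))) (bar hv))))).comp
        (f₂.codRestrict _ h3) := ⟨_, rfl⟩
  -- lifting a member of the last neighbourhood
  have hlift : ∀ u ∈ perp (image (perp (image (perp D d)) (bar hy))) (bar hv), ∃ x, ∃ hx : x ∈ C,
      x ∈ oth D d y z ∧ f₂ ⟨x, hx⟩ = u := by
    intro u hu
    obtain ⟨w, hw, rfl⟩ := exists_bar hu.1
    obtain ⟨x, hx, rfl⟩ := exists_bar hw.1
    have hcy : Commute y x := (bar_commute hD hsub hy hx).1 hw.2.2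
    have hcz : Commute z x := (bar_commute hD hsub hz hx).1
      ((bar_commute K.imgTrans (fun _ h => h.1) hv hw).1 hu.2.2)
    refine ⟨x, hmemC x hx.1 hx.2.2 hcy hcz, ⟨hx, ⟨hx.1, fun e => hw.2.1 (by subst e; rfl), hcy⟩,
      ⟨hx.1, fun e => hu.2.1 (by subst e; rfl), hcz⟩⟩, ?_⟩
    subst hf₁; subst hf₂; rfl
  obtain ⟨π, hπ⟩ : ∃ π : ↥C →* Cfsg.PSU 6 F 2, π = iso'.toMonoidHom.comp f₃ := ⟨_, rfl⟩
  have hπs : Function.Surjective π := by
    rw [hπ]
    refine iso'.surjective.comp ?_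
    rw [← MonoidHom.range_eq_top, eq_top_iff,
      ← image_closure (perp (image (perp (image (perp D d)) (bar hy))) (bar hv)), Subgroup.closure_le]
    intro q hq
    obtain ⟨u, hu, rfl⟩ := exists_bar hq
    obtain ⟨x, hx, -, e⟩ := hlift u hu
    refine ⟨⟨x, hx⟩, ?_⟩
    rw [hf₃]
    exact congrArg QuotientGroup.mk (Subtype.ext e)
  -- the kernel is the triangle group
  obtain ⟨Z, hZdef⟩ : ∃ Z, Z = Subgroup.closure ({d, y, z} : Set G) := ⟨_, rfl⟩
  have hdZ : d ∈ Z := hZdef ▸ Subgroup.subset_closure (by simp)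
  have hyZ : y ∈ Z := hZdef ▸ Subgroup.subset_closure (by simp)
  have hzZ : z ∈ Z := hZdef ▸ Subgroup.subset_closure (by simp)
  have hker : ∀ g : ↥C, π g = 1 → (g : G) ∈ Z := by
    intro g hg
    have hg3 : f₃ g = 1 := iso'.injective (by rw [hπ] at hg; rw [map_one]; exact hg)
    rw [hf₃, MonoidHom.comp_apply, QuotientGroup.mk'_apply, QuotientGroup.eq_one_iff, Subgroup.mem_center_iff] at hg3
    have hzC : z ∈ C := hmemC z hz.1 hz.2.2 hyz.2.2 (Commute.refl _)
    have hyC : y ∈ C := hmemC y hy.1 hy.2.2 (Commute.refl _) hyz.2.2.symm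
    have hdC : d ∈ C := hmemC d K.mem (Commute.refl _) hy.2.2.symm hz.2.2.symm
    have hfy : f₁ ⟨y, hyC⟩ = bar hy := by subst hf₁; rfl
    have hfz : f₂ ⟨z, hzC⟩ = bar hv := by subst hf₁; subst hf₂; rfl
    have hcase : ∀ w : ↥C, f₂ w = 1 → (w : G) ∈ Z := by
      intro w hw
      rw [hf₂, MonoidHom.comp_apply, QuotientGroup.mk'_apply, QuotientGroup.eq_one_iff] at hw
      rw [(K.img_loc K'.mem).2, Subgroup.mem_subgroupOf] at hw
      obtain ⟨k, hk⟩ := Subgroup.mem_zpowers_iff.1 hw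
      have h1 : f₁ (w * (⟨y, hyC⟩ ^ k)⁻¹) = 1 := by
        rw [map_mul, map_inv, map_zpow, hfy, hk]; exact mul_inv_cancel _
      rw [hf₁, MonoidHom.comp_apply, QuotientGroup.mk'_apply, QuotientGroup.eq_one_iff, K.center_eq,
        Subgroup.mem_subgroupOf] at h1
      have h1' : (w : G) * (y ^ k)⁻¹ ∈ Z := by
        obtain ⟨j, hj⟩ := Subgroup.mem_zpowers_iff.1 h1
        rw [show (w : G) * (y ^ k)⁻¹ = d ^ j from hj.symm]
        exact zpow_mem hdZ j
      simpa using mul_mem h1' (zpow_mem hyZ k)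
    rcases eq_or_eq_of_trace K'.imgFis K'.imgPrim K'.imgTrace hZ2 he₂ (z := f₂ g)
      (Subgroup.mem_centralizer_singleton_iff.1
        ((centralizer_eq_closure K'.imgTrans K'.imgPrim K'.img he₂).le (h3 g)))
      (fun s hs => (congrArg Subtype.val (hg3 ⟨s, Subgroup.subset_closure hs⟩)).symm) with h | h
    · exact hcase g h
    · have := hcase (g * ⟨z, hzC⟩⁻¹) (by rw [map_mul, map_inv, h, hfz]; exact mul_inv_cancel _)
      simpa using mul_mem this hzZ
  -- members adjacent to the triangle are conjugate in it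
  have hpair : ∀ a ∈ oth D d y z, ∀ b ∈ oth D d y z, ∃ g ∈ C, g * a * g⁻¹ = b := by
    intro a ha b hb
    have hbar1 : ∀ x (hx : x ∈ oth D d y z), bar hx.1 ∈ perp (image (perp D d)) (bar hy) := fun x hx =>
      ⟨bar_mem _, fun e => hx.2.1.2.1 (bar_inj hD hsub K.nc hx.1 hy e), (bar_commute hD hsub hy hx.1).2 hx.2.1.2.2⟩
    have hbar2 : ∀ x (hx : x ∈ oth D d y z),
        bar (hbar1 x hx) ∈ perp (image (perp (image (perp D d)) (bar hy))) (bar hv) := fun x hx =>
      ⟨bar_mem _, fun e => hx.2.2.2.1 (bar_inj hD hsub K.nc hx.1 hz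
        (bar_inj K.imgTrans (fun _ h => h.1) K'.nc (hbar1 x hx) hv e)),
        (bar_commute K.imgTrans (fun _ h => h.1) hv (hbar1 x hx)).2 ((bar_commute hD hsub hz hx.1).2 hx.2.2.2.2)⟩
    obtain ⟨k, hk, hke⟩ := perp_transitive K'.imgFis he₂ (hbar2 a ha) (hbar2 b hb)
    have hkr : k ∈ f₂.range := by
      have hle : Subgroup.closure (perp (image (perp (image (perp D d)) (bar hy))) (bar hv)) ≤ f₂.range := by
        rw [Subgroup.closure_le]
        intro u hu
        obtain ⟨x, hx, -, e⟩ := hlift u hu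
        exact ⟨_, e⟩
      exact hle hk
    obtain ⟨g, rfl⟩ := hkr
    have hgb : (g : G) * a * (g : G)⁻¹ ∈ oth D d y z := by
      obtain ⟨a1, a2, a3⟩ := hCd g g.2
      have := oth_conj hD (g : G) ha
      rwa [a1.eq.symm, mul_inv_cancel_right, a2.eq.symm, mul_inv_cancel_right, a3.eq.symm,
        mul_inv_cancel_right] at this
    have e : (g : G) * a * (g : G)⁻¹ = b := by
      refine bar_inj hD hsub K.nc hgb.1 hb.1 (bar_inj K.imgTrans (fun _ h => h.1) K'.nc (hbar1 _ hgb) (hbar1 b hb) ?_)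
      rw [← hke]; subst hf₁; subst hf₂; rfl
    exact ⟨g, g.2, e⟩
  rw [← hZdef]
  exact ⟨π, hπs, hker, hpair⟩

set_option maxHeartbeats 800000 in
/-- Some triangle has a signed and rigid centralizer. -/
theorem exists_tri_signed : ∃ y z, Triad D d y z ∧ Signed D (Subgroup.centralizer ({d, y, z} : Set G)) ∧
    Rigid D (Subgroup.centralizer ({d, y, z} : Set G)) d := by
  classical
  have hD := K.trans
  obtain ⟨y, z, htri, F, i1, i2, hF, h⟩ := K.exists_tri_proj
  refine ⟨y, z, htri, ?_⟩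
  have hy := htri.dy
  have hz := htri.dz
  have hyz := htri.yz
  obtain ⟨C, hCdef⟩ : ∃ C, C = Subgroup.centralizer ({d, y, z} : Set G) := ⟨_, rfl⟩
  rw [← hCdef] at h ⊢
  obtain ⟨π, hπs, hker, hconjC⟩ := h
  obtain ⟨hQperf, hQcen⟩ := psu_six_perfect hF
  have hCd : ∀ g ∈ C, Commute d g ∧ Commute y g ∧ Commute z g := fun g hg => by
    rw [hCdef, Subgroup.mem_centralizer_iff] at hg
    exact ⟨hg d (by simp), hg y (by simp), hg z (by simp)⟩
  have hmemC : ∀ x ∈ D, Commute d x → Commute y x → Commute z x → x ∈ C := fun x _ a b c => by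
    rw [hCdef, Subgroup.mem_centralizer_iff]
    rintro _ (rfl | rfl | rfl)
    exacts [a.eq, b.eq, c.eq]
  obtain ⟨Z, hZdef⟩ : ∃ Z, Z = Subgroup.closure ({d, y, z} : Set G) := ⟨_, rfl⟩
  rw [← hZdef] at hker
  have hdC : d ∈ C := hmemC d K.mem (Commute.refl _) hy.2.2.symm hz.2.2.symm
  have hyC : y ∈ C := hmemC y hy.1 hy.2.2 (Commute.refl _) hyz.2.2.symm
  have hzC : z ∈ C := hmemC z hz.1 hz.2.2 hyz.2.2 (Commute.refl _)
  have hZc : ∀ w ∈ Z, ∀ g ∈ C, Commute w g := by
    intro w hw g hg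
    rw [hZdef] at hw
    induction hw using Subgroup.closure_induction with
    | mem x hx =>
      rcases hx with rfl | rfl | rfl
      exacts [(hCd g hg).1, (hCd g hg).2.1, (hCd g hg).2.2]
    | one => exact Commute.one_left g
    | mul a b _ _ ha hb => exact ha.mul_left hb
    | inv a _ ha => exact ha.inv_left
  -- the derived group
  obtain ⟨P, hP⟩ : ∃ P, P = ⁅C, C⁆ := ⟨_, rfl⟩
  have hPC : P ≤ C := hP ▸ Subgroup.commutator_le.2 fun a ha b hb =>
    mul_mem (mul_mem (mul_mem ha hb) (inv_mem ha)) (inv_mem hb)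
  have hπZ : ∀ w : ↥C, (w : G) ∈ Z → π w = 1 := fun w hw => by
    have hwc : π w ∈ Subgroup.center (Cfsg.PSU 6 F 2) := Subgroup.mem_center_iff.2 fun q => by
      obtain ⟨k, rfl⟩ := hπs q
      exact ((show Commute w k from Subtype.ext (hZc w hw k k.2).eq).map π).symm
    rwa [hQcen, Subgroup.mem_bot] at hwc
  have hPgen : ∀ g ∈ C, ∃ p ∈ P, p⁻¹ * g ∈ Z := by
    intro g hg
    have h : π ⟨g, hg⟩ ∈ (⁅(⊤ : Subgroup ↥C), (⊤ : Subgroup ↥C)⁆).map π := by
      rw [Subgroup.map_commutator, Subgroup.map_top_of_surjective π hπs, hQperf]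
      exact Subgroup.mem_top _
    obtain ⟨p, hp, hpe⟩ := h
    refine ⟨p, ?_, hker (p⁻¹ * ⟨g, hg⟩) (by rw [map_mul, map_inv, hpe, inv_mul_cancel])⟩
    have := Subgroup.mem_map_of_mem C.subtype hp
    rwa [Subgroup.map_commutator, ← MonoidHom.range_eq_map, Subgroup.range_subtype, ← hP] at this
  have hPP : P ≤ ⁅P, P⁆ := by
    conv_lhs => rw [hP]
    refine Subgroup.commutator_le.2 fun a ha b hb => ?_
    obtain ⟨p, hp, hpa⟩ := hPgen a ha
    obtain ⟨q, hq, hqb⟩ := hPgen b hb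
    obtain ⟨u, hu⟩ : ∃ u, u = p⁻¹ * a := ⟨_, rfl⟩
    obtain ⟨w, hw⟩ : ∃ w, w = q⁻¹ * b := ⟨_, rfl⟩
    rw [← hu] at hpa
    rw [← hw] at hqb
    have hup : Commute u p := hZc u hpa p (hPC hp)
    have huq : Commute u q := hZc u hpa q (hPC hq)
    have hwp : Commute w p := hZc w hqb p (hPC hp)
    have hwC : w ∈ C := hw ▸ mul_mem (inv_mem (hPC hq)) hb
    have huw : Commute u w := hZc u hpa w hwC
    have ea : a = p * u := by rw [hu, mul_inv_cancel_left]
    have eb : b = q * w := by rw [hw, mul_inv_cancel_left]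
    have e : ⁅a, b⁆ = ⁅p, q⁆ := by
      rw [commutatorElement_def, commutatorElement_def, ea, eb]
      calc p * u * (q * w) * (p * u)⁻¹ * (q * w)⁻¹
          = p * (u * q) * w * u⁻¹ * p⁻¹ * w⁻¹ * q⁻¹ := by group
        _ = p * q * (u * w * u⁻¹) * p⁻¹ * w⁻¹ * q⁻¹ := by rw [huq.eq]; group
        _ = p * q * (w * p⁻¹) * w⁻¹ * q⁻¹ := by rw [huw.eq, mul_inv_cancel_right]; group
        _ = p * q * p⁻¹ * q⁻¹ := by rw [(hwp.inv_right).eq]; group
    rw [e]
    exact Subgroup.commutator_mem_commutator hp hq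
  obtain ⟨σ, hσ⟩ : ∃ σ : ↥P →* Cfsg.PSU 6 F 2, σ = π.comp (Subgroup.inclusion hPC) := ⟨_, rfl⟩
  have hσs : Function.Surjective σ := fun q => by
    obtain ⟨g, rfl⟩ := hπs q
    obtain ⟨p, hp, hpg⟩ := hPgen g g.2
    refine ⟨⟨p, hp⟩, ?_⟩
    have := hπZ ((Subgroup.inclusion hPC ⟨p, hp⟩)⁻¹ * g) hpg
    rw [map_mul, map_inv, inv_mul_eq_one] at this
    rw [hσ]
    exact this
  have hσker : ∀ w : ↥P, w ∈ σ.ker ↔ (w : G) ∈ Z := by
    intro w
    rw [MonoidHom.mem_ker, hσ]
    exact ⟨fun h => hker (Subgroup.inclusion hPC w) h, fun h => hπZ (Subgroup.inclusion hPC w) h⟩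
  have hZinv : ∀ w ∈ Z, w * w = 1 := by
    intro w hw
    have key : w ∈ C ∧ w * w = 1 := by
      rw [hZdef] at hw
      induction hw using Subgroup.closure_induction with
      | mem x hx =>
        rcases hx with rfl | rfl | rfl
        exacts [⟨hdC, mul_self hD K.mem⟩, ⟨hyC, mul_self hD hy.1⟩, ⟨hzC, mul_self hD hz.1⟩]
      | one => exact ⟨C.one_mem, mul_one 1⟩
      | mul a b ha _ ia ib =>
        refine ⟨mul_mem ia.1 ib.1, ?_⟩
        have hab : Commute a b := hZc a (hZdef ▸ ha) b ib.1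
        rw [mul_assoc, ← mul_assoc b, ← hab.eq, mul_assoc a b, ib.2, mul_one, ia.2]
      | inv a _ ia => exact ⟨inv_mem ia.1, by rw [← mul_inv_rev, ia.2, inv_one]⟩
    exact key.2
  have hcard : Nat.card σ.ker ≤ 4 := psu_six_ker_le hF σ hσs
    (fun w hw => Subgroup.mem_center_iff.2 fun g =>
      Subtype.ext (hZc _ ((hσker w).1 hw) _ (hPC g.2)).eq.symm)
    (fun w _ => by
      have h : (w : G) ∈ ⁅P, P⁆ := hPP w.2
      have e : (⁅(⊤ : Subgroup ↥P), (⊤ : Subgroup ↥P)⁆).map P.subtype = ⁅P, P⁆ := by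
        rw [Subgroup.map_commutator, ← MonoidHom.range_eq_map, Subgroup.range_subtype]
      rw [← e] at h
      obtain ⟨w', hw', he⟩ := h
      rw [commutator_def]
      rwa [← Subtype.ext he])
    (fun w hw => Subtype.ext (hZinv _ ((hσker w).1 hw)))
  have hpair : ∀ a ∈ oth D d y z, ∀ b ∈ oth D d y z, a * b ∈ P := by
    intro a ha b hb
    obtain ⟨g, hg, e⟩ := hconjC a ha b hb
    have := Subgroup.commutator_mem_commutator (hmemC a ha.1.1 ha.1.2.2 ha.2.1.2.2 ha.2.2.2.2) hg
    rw [commutatorElement_def, inv_eq hD ha.1.1, mul_assoc a g, mul_assoc a, e, ← hP] at this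
    exact this
  have heven : ∀ l : List G, (∀ x ∈ l, x ∈ oth D d y z) → Even l.length → l.prod ∈ P := by
    intro l
    induction l using List.twoStepInduction with
    | nil => intro _ _; exact one_mem _
    | singleton a => intro _ h; simp at h
    | cons_cons a b l ih =>
      intro hl h
      rw [List.prod_cons, List.prod_cons, ← mul_assoc]
      exact mul_mem (hpair a (hl a (by simp)) b (hl b (by simp)))
        (ih (fun x hx => hl x (by simp [hx])) (by simpa [Nat.even_add_one] using h))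
  -- rotations of the triangle
  have hoth : ∀ a b c, ({a, b, c} : Set G) = {d, y, z} → ∀ x, x ∈ oth D a b c → x ∈ oth D d y z := by
    intro a b c h x hx
    have hall : ∀ u ∈ ({d, y, z} : Set G), x ∈ perp D u := fun u hu => by
      rw [← h] at hu
      rcases hu with rfl | rfl | rfl
      exacts [hx.1, hx.2.1, hx.2.2]
    exact ⟨hall d (by simp), hall y (by simp), hall z (by simp)⟩
  have hrot : ∀ a b c, ({a, b, c} : Set G) = {d, y, z} → a ∈ D → Triad D a b c → b ∈ P ∨ b * a ∈ P := by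
    intro a b c h ha ht
    obtain ⟨l, hlen, hl, hp⟩ := K.six_at ha ht
    have := heven l (fun x hx => hoth a b c h x (hl x hx)) (by rw [hlen]; decide)
    rcases hp with e | e <;> rw [e] at this
    exacts [Or.inl this, Or.inr this]
  have hrot1 := hrot d y z rfl K.mem htri
  have hrot2 := hrot y z d (by ext u; simp only [Set.mem_insert_iff, Set.mem_singleton_iff]; tauto) hy.1
    ⟨hyz, ⟨K.mem, hy.2.1.symm, hy.2.2.symm⟩, ⟨K.mem, hz.2.1.symm, hz.2.2.symm⟩⟩
  have hrot3 := hrot z d y (by ext u; simp only [Set.mem_insert_iff, Set.mem_singleton_iff]; tauto) hz.1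
    ⟨⟨K.mem, hz.2.1.symm, hz.2.2.symm⟩, ⟨hy.1, hyz.2.1.symm, hyz.2.2.symm⟩, hy⟩
  -- not all three vertices
  have hnot : ¬ (d ∈ P ∧ y ∈ P ∧ z ∈ P) := by
    rintro ⟨hdP, hyP, hzP⟩
    obtain ⟨f, hf⟩ : ∃ f : Bool × Bool × Bool → G, f = fun p =>
        (if p.1 then d else 1) * (if p.2.1 then y else 1) * (if p.2.2 then z else 1) := ⟨_, rfl⟩
    have hdZ : d ∈ Z := hZdef ▸ Subgroup.subset_closure (by simp)
    have hyZ : y ∈ Z := hZdef ▸ Subgroup.subset_closure (by simp)
    have hzZ : z ∈ Z := hZdef ▸ Subgroup.subset_closure (by simp)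
    have hfZ : ∀ p, f p ∈ Z ∧ f p ∈ P := fun p => by
      rw [hf]
      constructor <;> refine mul_mem (mul_mem ?_ ?_) ?_ <;> split <;> first | exact one_mem _ | assumption
    have hno := K.noRel
    have hd1 : d ≠ 1 := ne_one hD K.mem
    have hy1 : y ≠ 1 := ne_one hD hy.1
    have hz1 : z ≠ 1 := ne_one hD hz.1
    have hdy : d * y ≠ 1 := fun e => hy.2.1 (by rw [eq_inv_of_mul_eq_one_right e, inv_eq hD K.mem])
    have hdz : d * z ≠ 1 := fun e => hz.2.1 (by rw [eq_inv_of_mul_eq_one_right e, inv_eq hD K.mem])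
    have hyz1 : y * z ≠ 1 := fun e => hyz.2.1 (by rw [eq_inv_of_mul_eq_one_right e, inv_eq hD hy.1])
    have hdyz : d * y * z ≠ 1 := fun e => by
      have := hno [d, y, z] (by simp [hy.2.1.symm, hz.2.1.symm, hyz.2.1.symm])
        (by simp [K.mem, hy.1, hz.1])
        (by
          intro a ha b hb
          simp only [List.mem_cons, List.not_mem_nil, or_false] at ha hb
          rcases ha with rfl | rfl | rfl <;> rcases hb with rfl | rfl | rfl
          exacts [Commute.refl _, hy.2.2, hz.2.2, hy.2.2.symm, Commute.refl _, hyz.2.2, hz.2.2.symm,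
            hyz.2.2.symm, Commute.refl _])
        (fun w _ => by simp [List.prod_cons, ← mul_assoc, e])
        (by simp)
      simp at this
    have hxor : ∀ p q : Bool × Bool × Bool, f p * f q = f (xor p.1 q.1, xor p.2.1 q.2.1, xor p.2.2 q.2.2) := by
      have hpow : ∀ (t : G), t * t = 1 → ∀ a b : Bool,
          (if a then t else 1) * (if b then t else 1) = if xor a b then t else 1 := fun t ht a b => by
        cases a <;> cases b <;> simp [ht]
      have hc : ∀ (u v : G), Commute u v → ∀ a b : Bool, Commute (if a then u else 1) (if b then v else 1) :=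
        fun u v h a b => by cases a <;> cases b <;> simp [h]
      intro p q
      simp only [hf]
      rw [((hc z d hz.2.2.symm p.2.2 q.1).mul_right (hc z y hyz.2.2.symm p.2.2 q.2.1)).mul_mul_mul_comm,
        (hc y d hy.2.2.symm p.2.1 q.1).mul_mul_mul_comm, hpow d (mul_self hD K.mem), hpow y (mul_self hD hy.1),
        hpow z (mul_self hD hz.1)]
    have hone : ∀ r, f r = 1 → r = (false, false, false) := by
      rintro ⟨a, b, c⟩ h
      cases a <;> cases b <;> cases c <;> simp [hf] at h ⊢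
      all_goals first | exact hz1 h | exact hy1 h | exact hyz1 h | exact hd1 h | exact hdz h | exact hdy h | exact hdyz h
    have hfinj : Function.Injective f := fun p q h => by
      have h1 : f (xor p.1 q.1, xor p.2.1 q.2.1, xor p.2.2 q.2.2) = 1 := by
        rw [← hxor, h]; exact hZinv _ (hfZ q).1
      have key : ∀ p q : Bool × Bool × Bool,
          (xor p.1 q.1, xor p.2.1 q.2.1, xor p.2.2 q.2.2) = (false, false, false) → p = q := by decide
      exact key p q (hone _ h1)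
    have := Nat.card_le_card_of_injective (fun p => (⟨⟨f p, (hfZ p).2⟩, (hσker _).2 (hfZ p).1⟩ : ↥σ.ker))
      fun p q h => hfinj (congrArg (fun w : ↥σ.ker => ((w : ↥P) : G)) h)
    rw [Nat.card_eq_fintype_card (α := Bool × Bool × Bool), Fintype.card_prod, Fintype.card_prod,
      Fintype.card_bool] at this
    omega
  have hcancel : ∀ {a b : G}, a ∈ P → a * b ∈ P → b ∈ P := fun ha h => by
    simpa using mul_mem (inv_mem ha) h
  have hcancel' : ∀ {a b : G}, b ∈ P → a * b ∈ P → a ∈ P := fun hb h => by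
    simpa using mul_mem h (inv_mem hb)
  have hdP : d ∉ P := fun h => by
    have hy' : y ∈ P := hrot1.elim id fun h' => hcancel' h h'
    have hz' : z ∈ P := hrot2.elim id fun h' => hcancel' hy' h'
    exact hnot ⟨h, hy', hz'⟩
  have hyP : y ∉ P := fun h => by
    have hz' : z ∈ P := hrot2.elim id fun h' => hcancel' h h'
    exact hdP (hrot3.elim id fun h' => hcancel' hz' h')
  have hzP : z ∉ P := fun h => hdP (hrot3.elim id fun h' => hcancel' h h')
  have hyd : y * d ∈ P := hrot1.resolve_left hyP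
  have hzd : z * d ∈ P := by
    have := hrot3.resolve_left hdP
    rwa [(hCd z hzC).1.eq] at this
  have hgen : ∀ g ∈ C, g ∈ P ∨ g * d ∈ P := by
    have hZgen : ∀ w ∈ Z, w ∈ C ∧ (w ∈ P ∨ w * d ∈ P) := by
      intro w hw
      rw [hZdef] at hw
      induction hw using Subgroup.closure_induction with
      | mem x hx =>
        rcases hx with rfl | rfl | rfl
        exacts [⟨hdC, Or.inr (by rw [mul_self hD K.mem]; exact one_mem _)⟩, ⟨hyC, Or.inr hyd⟩, ⟨hzC, Or.inr hzd⟩]
      | one => exact ⟨C.one_mem, Or.inl (one_mem _)⟩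
      | mul a b _ _ ia ib =>
        refine ⟨mul_mem ia.1 ib.1, ?_⟩
        rcases ia.2 with ha | ha <;> rcases ib.2 with hb | hb
        · exact Or.inl (mul_mem ha hb)
        · exact Or.inr (by rw [mul_assoc]; exact mul_mem ha hb)
        · refine Or.inr ?_
          rw [mul_assoc, ← (hCd b ib.1).1.eq, ← mul_assoc]
          exact mul_mem ha hb
        · refine Or.inl ?_
          have := mul_mem ha hb
          rwa [mul_assoc a d, ← mul_assoc d b, (hCd b ib.1).1.eq, mul_assoc b d, mul_self hD K.mem, mul_one] at this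
      | inv a _ ia =>
        refine ⟨inv_mem ia.1, ia.2.imp inv_mem fun h => ?_⟩
        have := inv_mem h
        rwa [mul_inv_rev, inv_eq hD K.mem, ((hCd a ia.1).1.inv_right).eq] at this
    intro g hg
    obtain ⟨p, hp, hpg⟩ := hPgen g hg
    rcases (hZgen _ hpg).2 with h | h
    · exact Or.inl (by simpa using mul_mem hp h)
    · exact Or.inr (by simpa [mul_assoc] using mul_mem hp h)
  have hclass : ∀ x ∈ D, x ∈ C → x = d ∨ x = y ∨ x = z ∨ x ∈ oth D d y z := fun x hx hxC => by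
    obtain ⟨a, b, c⟩ := hCd x hxC
    by_cases h1 : x = d
    · exact Or.inl h1
    by_cases h2 : x = y
    · exact Or.inr (Or.inl h2)
    by_cases h3 : x = z
    · exact Or.inr (Or.inr (Or.inl h3))
    exact Or.inr (Or.inr (Or.inr ⟨⟨hx, h1, a⟩, ⟨hx, h2, b⟩, ⟨hx, h3, c⟩⟩))
  have hothP : ∀ x ∈ oth D d y z, x ∉ P := fun x hx hxP => by
    obtain ⟨l, hlen, hl, hp⟩ := K.five_at K.mem htri
    have hl5 : l.prod ∈ P := by
      rcases l with _ | ⟨a, l⟩
      · simp at hlen
      rw [List.prod_cons]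
      have ha : a ∈ P := hcancel hxP (hpair x hx a (hl a (by simp)))
      exact mul_mem ha (heven l (fun u hu => hl u (by simp [hu])) (by simp at hlen; rw [hlen]; decide))
    have hyz' : y * z ∈ P := by
      have := mul_mem hyd hzd
      rwa [mul_assoc y d, ← mul_assoc d z, (hCd z hzC).1.eq, mul_assoc z d, mul_self hD K.mem, mul_one] at this
    exact hdP (hp ▸ (by rw [← mul_assoc]; exact mul_mem hyz' hl5 : y * (z * l.prod) ∈ P))
  have hsigned := signed_of_parts (P := P) (O := oth D d y z) hdP hyd hzd hPC hdC (mul_self hD K.mem)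
    (fun k hk => (hCd k hk).1) hgen hclass hothP
  refine ⟨hsigned, fun χ hmul hd => ⟨hmul, fun x hx hxC => ?_⟩⟩
  have hxd : x * d ∈ P := (hgen x hxC).resolve_left fun h => by
    rcases hclass x hx hxC with e | e | e | e
    exacts [hdP (e ▸ h), hyP (e ▸ h), hzP (e ▸ h), hothP x e h]
  have h1 := map_commutator_one hmul _ (hP ▸ hxd)
  rw [hmul x hxC d hdC, hd] at h1
  rw [eq_inv_of_mul_eq_one_left h1, Int.units_inv_eq_self]

/-- Every triangle has a signed and rigid centralizer. -/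
theorem tri_signed {e y z : G} (he : e ∈ D) (h : Triad D e y z) :
    Signed D (Subgroup.centralizer ({e, y, z} : Set G)) ∧
      Rigid D (Subgroup.centralizer ({e, y, z} : Set G)) e := by
  obtain ⟨y₀, z₀, h₀, hs, hr⟩ := K.exists_tri_signed
  obtain ⟨g, rfl, rfl, rfl⟩ := K.tri_transitive h₀ K.mem h he
  have h1 := hs.conj K.trans g
  have h2 := hr.conj K.trans g
  rw [centralizer_map, Set.image_insert_eq, Set.image_insert_eq, Set.image_singleton] at h1 h2
  exact ⟨h1, h2⟩

/-- The centralizer of a triangle is transitive on the members adjacent to it. -/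
theorem oth_transitive {e y z : G} (he : e ∈ D) (h : Triad D e y z) {a b : G} (ha : a ∈ oth D e y z)
    (hb : b ∈ oth D e y z) : ∃ g : G, Commute g e ∧ Commute g y ∧ Commute g z ∧ g * a * g⁻¹ = b := by
  obtain ⟨y₀, z₀, h₀, F, _, _, -, -, -, -, htr⟩ := K.exists_tri_proj
  obtain ⟨k, rfl, rfl, rfl⟩ := K.tri_transitive h₀ K.mem h he
  have hpull : ∀ x ∈ oth D (k * d * k⁻¹) (k * y₀ * k⁻¹) (k * z₀ * k⁻¹), k⁻¹ * x * k ∈ oth D d y₀ z₀ := fun x hx => by
    have := oth_conj K.trans k⁻¹ hx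
    simpa [mul_assoc] using this
  obtain ⟨g, hg, hge⟩ := htr _ (hpull a ha) _ (hpull b hb)
  rw [Subgroup.mem_centralizer_iff] at hg
  refine ⟨k * g * k⁻¹, (Commute.conj_iff k).2 (hg d (by simp)).symm, (Commute.conj_iff k).2 (hg y₀ (by simp)).symm,
    (Commute.conj_iff k).2 (hg z₀ (by simp)).symm, ?_⟩
  rw [show k * g * k⁻¹ * a * (k * g * k⁻¹)⁻¹ = k * (g * (k⁻¹ * a * k) * g⁻¹) * k⁻¹ by group, hge]
  group

end M24Data

end Cfsg.Lib.Fischer.Relations
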